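import Cfsg.Agent.H790.Str.Grp
import Cfsg.Agent.H81.PJChev
import Cfsg.Agent.KFacts.RgdLieCharP
import Cfsg.Agent.H585.SuRow
import Cfsg.Agent.H513.HNCut_m3
import Cfsg.Agent.Lib.PSolvable
import Cfsg.Agent.Lib.PGroupCoprimeAction
import Cfsg.Agent.Lib.Cores
import Cfsg.Agent.S1443
import Cfsg.Agent.H460.AARed_m3
import Cfsg.Agent.H132.S5.Main
import Mathlib
import Cfsg.Agent.H172.SINum
import Cfsg.Agent.H35.ExcIdxTw_m3
import Cfsg.Agent.H28.T5TorRows
import Cfsg.Agent.S2378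
import Cfsg.Agent.H43.SP.Cross_m3
import Cfsg.Agent.ChevalleyStructure.StBasic
import Cfsg.Agent.S1077
import Cfsg.Agent.S1061
import Cfsg.Agent.H129.FE.Grp
import Cfsg.Agent.H343.WitTri
import Cfsg.Agent.S1066
import Cfsg.Agent.S1070
import Cfsg.Agent.H505.Cop.E8Par
import Cfsg.Agent.S1065
import Cfsg.Agent.H505.Cop.E7Par_mg
import Cfsg.Agent.S1063
import Cfsg.Agent.S1064
import Cfsg.Agent.S1062
import Cfsg.Agent.H493.PGD4T
import Cfsg.Agent.S1067
import Cfsg.Agent.KFacts.RgdFiltTwAll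
import Cfsg.Agent.BiChar.TwDFour
import Cfsg.Agent.H1.RankTwo_m3
import Cfsg.Agent.H62.PPTwist
import Cfsg.Agent.H169.RealTE6
import Cfsg.Agent.H934.RowTwD4
import Cfsg.Agent.H122.S5.Sub
import Cfsg.Agent.H868.KTwD4
import Cfsg.Agent.S1071
import Cfsg.Agent.ChevalleyStructure.TwD4Card
import Cfsg.Agent.H28.T5TwFour
import Cfsg.Agent.H129.RealE7_m3
import Cfsg.Agent.H157.S5.PspIn
import Cfsg.Agent.H790.ExcAbTw
import Cfsg.Agent.ChevFast.E8
import Cfsg.Agent.ChevFast.F4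
import Cfsg.Agent.ChevFast.Lin
import Cfsg.Agent.Lib.RingK
import Cfsg.Agent.FastGrp
import Cfsg.Agent.Prune
set_option linter.all false

section
prune_inst 0x7ff0bcf80fb8addefffe7e7ffed1dffc19d0dfffefdefb43bfe8a1ef0f9f030219c5fba51de050ff0ec2e0b430b87813f97eceffee6bdc7ffffd5ff41ffbee1fe5f6b58811d084240f300fff83f077ce7f3fffffffffffffffffffffffffffbeffffffffffff

-- part: H790/Str/HomS
section
prune_inst 0x84202804010010001000001240000000000000000000040144a101040000022000002000000001014000000000040000000000100000000000000000000001000000100001000000200000000080000000000000000000000000000000000000000000000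
set_option linter.all false
open scoped Cfsg.Agent.FastGrp

-- part: H790/Str/Rgd
section
/-!
# Strong pairs, exceptional groups with abelian Sylow subgroups: root group data (helper790, S2274)

`CD p r P H V` : the input of the engine: `P` normalises no `r`-subgroup, `H ≤ P`, `Ω₁(P) H / H` is cyclic, the `r`-subgroup `V`
centralises `H` and is not cyclic of order dividing `p - 1`.

* `cd_six` : `V = C_Q(H)`, `Q` the unipotent radical of a maximal parabolic subgroup with `|Q| ≡ -1` modulo `p`;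
* `cd_two` : `V = X a X b`, two commuting root groups centralising a Levi subgroup.
-/

set_option autoImplicit false
set_option linter.unusedSectionVars false

namespace Cfsg.Agent.H790.Str

open CoxeterSystem Cfsg.Agent.ChevalleyStructure.CoxeterGeom Cfsg.Agent.Tits.Roots Cfsg.Agent.Tits.Core
  Cfsg.Agent.Tits.Exchange Cfsg.Agent.Nodes.Reps Cfsg.Agent.Nodes.BNOf Cfsg.Agent.Nodes.StabComb
  Cfsg.Agent.Nodes.Bruhat Cfsg.Agent.Nodes.OppDec Cfsg.Agent.Nodes.LeviDec Cfsg.Agent.Nodes.NormalForm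
  Cfsg.Agent.Nodes.CardSup Cfsg.Agent.KFacts.RgdCharP

/-- the arithmetic of `e = 6` -/
theorem nd_six {r p : ℕ} [hr : Fact r.Prime] [hp : Fact p.Prime] {c q : ℕ} {j : ℕ} (hc : c = r ^ j) (hq : orderOf (q : ZMod p) = 6) (h1 : p ∣ c + 1) (hpq : ¬ p ∣ q) :
    ¬ c ∣ p - 1 := by
  intro h2
  have h3 : 0 < p - 1 := by have := hp.out.two_le; omega
  have h4 := Nat.le_of_dvd h3 h2
  have h5 := Nat.le_of_dvd (Nat.succ_pos c) h1
  have h6 : p - 1 = c := by omega
  have hq0 : (q : ZMod p) ≠ 0 := fun h => hpq ((CharP.cast_eq_zero_iff (ZMod p) p q).1 h)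
  have h7 : 6 ∣ r ^ j := by
    rw [← hc, ← h6, ← hq]
    exact ZMod.orderOf_dvd_card_sub_one hq0
  have h8 : 2 ∣ r := Nat.prime_two.dvd_of_dvd_pow ((by norm_num : (2 : ℕ) ∣ 6).trans h7)
  have h9 : 3 ∣ r := Nat.prime_three.dvd_of_dvd_pow ((by norm_num : (3 : ℕ) ∣ 6).trans h7)
  rw [Nat.prime_dvd_prime_iff_eq Nat.prime_two hr.out] at h8
  rw [Nat.prime_dvd_prime_iff_eq Nat.prime_three hr.out] at h9
  omega

/-- the input of the engine -/
structure CD (p r : ℕ) {S : Type*} [Group S] (P : Subgroup S) (H V : Subgroup S) : Prop where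
  nr : ∀ U : Subgroup S, IsPGroup r U → P ≤ Subgroup.normalizer (U : Set S) → U = ⊥
  le : H ≤ P
  ne : H ≠ ⊥
  om : ∀ z ∈ P, ∀ w ∈ P, z ^ p = 1 → w ^ p = 1 → z ∉ H → ∃ n : ℕ, z ^ n * w ∈ H
  pg : IsPGroup r V
  cm : ∀ x ∈ V, ∀ y ∈ H, Commute x y
  nd : ¬ (IsCyclic V ∧ Nat.card V ∣ p - 1)

variable {I W Y : Type*} [Fintype I] [DecidableEq I] [Group W] [Group Y] {M : CoxeterMatrix I}
  {cs : CoxeterSystem M W} {A : I → I → ℤ} {h : IsCartan M A} {r : ℕ} {T : Subgroup Y} {n : I → Y}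
  {X : (I → ℤ) → Subgroup Y}

theorem index_cj {G : Type*} [Group G] (g : G) (K : Subgroup G) : (cj g K).index = K.index :=
  Subgroup.index_map_equiv K (MulAut.conj g)

/-- **`P` normalises no `r`-subgroup** if it is contained in no proper parabolic subgroup. -/
theorem nr_of [Finite W] [Finite Y] [Fact r.Prime] (hBT : BT cs h r T X) {p : ℕ} [Fact p.Prime]
    (hidx : ∀ i, p ∣ (PJ cs h T X {j | j ≠ i}).index) (P : Sylow p Y) (V : Subgroup Y) (hV : IsPGroup r V)
    (hPV : (P : Subgroup Y) ≤ Subgroup.normalizer (V : Set Y)) : V = ⊥ := by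
  by_contra hne
  obtain ⟨g, J, hJ, -, hle⟩ := hBT V hV hne
  obtain ⟨i, hi⟩ := (Set.ne_univ_iff_exists_notMem _).1 hJ
  have h0 : PJ cs h T X J ≤ PJ cs h T X {j | j ≠ i} := Cfsg.Agent.H585.SuOwn.PJ_mono fun j hj => by
    rintro rfl
    exact hi hj
  have h1 : (P : Subgroup Y) ≤ cj g (PJ cs h T X {j | j ≠ i}) :=
    hPV.trans (hle.trans (Subgroup.map_mono h0))
  have h2 := Subgroup.index_dvd_of_le h1
  rw [index_cj] at h2
  exact P.not_dvd_index ((hidx i).trans h2)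

/-- the Levi subgroup centralises `X b` -/
theorem levi_cent [Finite W] (R : RGD cs h r T n X) {J : Set I} {b : I → ℤ} (hb : IsRoot cs h b)
    (hfix : ∀ j ∈ J, rep cs h (cs.simple j) b = b) (hcomm : ∀ j ∈ J, ∀ u ∈ X (sr j), ∀ v ∈ X b, u * v = v * u)
    {u v : Y} (hu : u ∈ RGD.Sup X (RootsJ cs h J)) (hv : v ∈ X b) : u * v = v * u := by
  have hle : RGD.Sup X (RootsJ cs h J) ≤ Subgroup.centralizer (X b : Set Y) := by
    refine RGD.Sup_le fun x hx => ?_
    obtain ⟨w, hw, j, hj, rfl⟩ := exists_of_mem_RootsJ hx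
    have hvb : rep cs h w b = b := by
      refine Subgroup.closure_induction (p := fun v _ => rep cs h v b = b) ?_ ?_ ?_ ?_ hw
      · rintro _ ⟨j, hj, rfl⟩
        exact hfix j hj
      · rw [map_one, Module.End.one_apply]
      · intro x y _ _ hx hy
        rw [rep_mul_apply, hy, hx]
      · intro x _ hx
        conv_lhs => rw [← hx]
        exact rep_inv_apply cs h x b
    obtain ⟨g, hg⟩ := exists_rp cs R.nsys w
    have h1 : cj g (X b) = X b := by rw [R.conj_rp hg hb, hvb]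
    intro u hu
    rw [← R.conj_rp hg (isRoot_sr cs h j), mem_cj] at hu
    rw [Subgroup.mem_centralizer_iff]
    intro z hz
    have h2 : g⁻¹ * z * g ∈ X b := by
      have hz' : z ∈ X b := hz
      rw [← h1, mem_cj] at hz'
      exact hz'
    have h3 := hcomm j hj _ hu _ h2
    have h4 : g * (g⁻¹ * u * g * (g⁻¹ * z * g)) * g⁻¹ = g * (g⁻¹ * z * g * (g⁻¹ * u * g)) * g⁻¹ := by rw [h3]
    have h5 : g * (g⁻¹ * u * g * (g⁻¹ * z * g)) * g⁻¹ = u * z := by group
    have h6 : g * (g⁻¹ * z * g * (g⁻¹ * u * g)) * g⁻¹ = z * u := by group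
    rw [h5, h6] at h4
    exact h4.symm
  exact (Subgroup.mem_centralizer_iff.1 (hle hu) v hv).symm

/-- the `p`-part of the index of the Levi subgroup -/
theorem padic_levi [Finite W] [Finite Y] [hr : Fact r.Prime] (R : RGD cs h r T n X) {p : ℕ} [hp : Fact p.Prime]
    (hpr : p ≠ r) (hT : ¬ p ∣ Nat.card ↥T) (J : Set I) :
    padicValNat p (RGD.Sup X (RootsJ cs h J)).index ≤ padicValNat p (PJ cs h T X J).index := by
  set K := RGD.Sup X (RootsJ cs h J) with hK
  have h2 : Nat.card ↥(PJ cs h T X J) ∣ Nat.card ↥(LJ cs h T X J) * Nat.card ↥(VJ cs h X J) :=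
    Cfsg.Agent.H81.PJCent.card_sup_dvd (LJ_le_normalizer_VJ R J)
  have h4 : Nat.card ↥(LJ cs h T X J) ∣ Nat.card ↥T * Nat.card ↥K :=
    Cfsg.Agent.H81.PJCent.card_sup_dvd (R.T_le_normalizer fun x hx => hx.1)
  have hV : ¬ p ∣ Nat.card ↥(VJ cs h X J) := by
    intro h3
    have h4 : IsPGroup r ↥(VJ cs h X J) := R.isPGroup_Upos.to_le (VJ_le_U J)
    obtain ⟨k, hk⟩ := (IsPGroup.iff_card (p := r)).1 h4
    rw [hk] at h3
    exact hpr ((Nat.prime_dvd_prime_iff_eq hp.out hr.out).1 (hp.out.dvd_of_dvd_pow h3))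
  have h5 : Nat.card ↥(PJ cs h T X J) ∣ Nat.card ↥T * Nat.card ↥K * Nat.card ↥(VJ cs h X J) :=
    h2.trans (mul_dvd_mul_right h4 _)
  have h0 : ∀ L : Subgroup Y, Nat.card ↥L ≠ 0 := fun L => Nat.card_pos.ne'
  have h6 : padicValNat p (Nat.card ↥(PJ cs h T X J)) ≤ padicValNat p (Nat.card ↥K) := by
    have h7 := (padicValNat_dvd_iff_le (p := p) (mul_ne_zero (mul_ne_zero (h0 T) (h0 K)) (h0 (VJ cs h X J)))).1
      ((pow_padicValNat_dvd (p := p) (n := Nat.card ↥(PJ cs h T X J))).trans h5)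
    rw [padicValNat.mul (mul_ne_zero (h0 T) (h0 K)) (h0 _), padicValNat.mul (h0 T) (h0 K),
      padicValNat.eq_zero_of_not_dvd hV, padicValNat.eq_zero_of_not_dvd hT, zero_add, add_zero] at h7
    exact h7
  have h8 := congrArg (padicValNat p) (Subgroup.index_mul_card K)
  have h9 := congrArg (padicValNat p) (Subgroup.index_mul_card (PJ cs h T X J))
  rw [padicValNat.mul K.index_ne_zero_of_finite (h0 _)] at h8
  rw [padicValNat.mul (PJ cs h T X J).index_ne_zero_of_finite (h0 _)] at h9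
  omega

section Main

variable [Finite W] [Finite Y] [hr : Fact r.Prime] (R : RGD cs h r T n X) (hBT : BT cs h r T X) {p : ℕ}
  [hp : Fact p.Prime] (hidx : ∀ i, p ∣ (PJ cs h T X {j | j ≠ i}).index) {s : ℕ}
  (hhom : ∀ P : Sylow p Y, ∃ k t : ℕ, s ≤ t ∧ Nonempty (↥(P : Subgroup Y) ≃* (Fin k → Multiplicative (ZMod (p ^ t)))))
  (hlt : s < padicValNat p (Nat.card Y))

include R hBT hidx hhom hlt

omit [DecidableEq I] [Fintype I] [Group W] [Finite W] hr R hBT hidx hhom in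
theorem ne_bot_of {P : Sylow p Y} {H : Subgroup Y} (hHP : H ≤ (P : Subgroup Y)) (hrel : H.relIndex (P : Subgroup Y) ≤ p ^ s) :
    H ≠ ⊥ := by
  rintro rfl
  rw [Subgroup.relIndex_bot_left, P.card_eq_multiplicity, Nat.factorization_def _ hp.out] at hrel
  exact absurd hrel (not_le.2 (Nat.pow_lt_pow_right hp.out.one_lt hlt))

/-- **The case `e = 6`**: the unipotent radical `Q` of a maximal parabolic subgroup with `|Q| ≡ -1`. -/
theorem cd_six {i : I} (hs : padicValNat p (PJ cs h T X {j | j ≠ i}).index ≤ s) {q : ℕ}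
    (hq : orderOf (q : ZMod p) = 6) (hpq : ¬ p ∣ q) (hV : p ∣ Nat.card ↥(VJ cs h X {j | j ≠ i}) + 1) :
    ∃ (P : Sylow p Y) (H V : Subgroup Y), CD p r (P : Subgroup Y) H V := by
  obtain ⟨P, H, hHP, hHM, hHp, hrel⟩ := exists_sylow_of (p := p) (PJ cs h T X {j | j ≠ i})
  set Q := VJ cs h X {j | j ≠ i} with hQ
  have hN : H ≤ Subgroup.normalizer (Q : Set Y) := hHM.trans (PJ_le_normalizer_VJ R _)
  have h1 := card_cent_modEq hHp hN
  have hQr : IsPGroup r Q := isPGroup_VJ R _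
  have hVr : IsPGroup r ↥(Q ⊓ Subgroup.centralizer (H : Set Y)) := hQr.to_le inf_le_left
  obtain ⟨j, hj⟩ := (IsPGroup.iff_card (p := r)).1 hVr
  have hrel' : H.relIndex (P : Subgroup Y) ≤ p ^ s := by
    rw [hrel]; exact Nat.pow_le_pow_right hp.out.pos hs
  refine ⟨P, H, Q ⊓ Subgroup.centralizer (H : Set Y), nr_of hBT hidx P, hHP, ne_bot_of hlt hHP hrel', ?_, hVr, ?_, ?_⟩
  · intro z hz w hw hzp hwp hzH
    obtain ⟨k, t, hst, ⟨e⟩⟩ := hhom P
    exact omega_cyc e (hrel'.trans (Nat.pow_le_pow_right hp.out.pos hst)) hz hw hzp hwp hzH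
  · intro x hx y hy
    exact (Subgroup.mem_centralizer_iff.1 hx.2 y hy).symm
  · rintro ⟨-, h2⟩
    refine nd_six hj hq ?_ hpq h2
    have h3 : (Nat.card ↥(Q ⊓ Subgroup.centralizer (H : Set Y)) + 1) ≡ Nat.card ↥Q + 1 [MOD p] := h1.add_right 1
    exact (h3.dvd_iff dvd_rfl).2 hV

/-- **Two commuting root groups centralising a Levi subgroup.** -/
theorem cd_two (hpr : p ≠ r) (hT : ¬ p ∣ Nat.card ↥T) {J : Set I}
    (hs : padicValNat p (PJ cs h T X J).index ≤ s) {a b : I → ℤ} (ha : IsRoot cs h a) (hb : IsRoot cs h b)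
    (hfa : ∀ j ∈ J, rep cs h (cs.simple j) a = a) (hca : ∀ j ∈ J, ∀ u ∈ X (sr j), ∀ v ∈ X a, u * v = v * u)
    (hfb : ∀ j ∈ J, rep cs h (cs.simple j) b = b) (hcb : ∀ j ∈ J, ∀ u ∈ X (sr j), ∀ v ∈ X b, u * v = v * u)
    (hab : ∀ u ∈ X a, ∀ v ∈ X b, u * v = v * u) (hinf : X a ⊓ X b = ⊥) (hXa : X a ≠ ⊥) (hXb : X b ≠ ⊥) :
    ∃ (P : Sylow p Y) (H V : Subgroup Y), CD p r (P : Subgroup Y) H V := by
  obtain ⟨P, H, hHP, hHM, hHp, hrel⟩ := exists_sylow_of (p := p) (RGD.Sup X (RootsJ cs h J))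
  have hpa : IsPGroup r (X a) := R.pgrp' ha
  have hpb : IsPGroup r (X b) := R.pgrp' hb
  have hnab : X a ≤ Subgroup.normalizer (X b : Set Y) := by
    intro u hu
    rw [Subgroup.mem_normalizer_iff]
    intro v
    constructor
    · intro hv
      rw [hab u hu v hv, mul_inv_cancel_right]
      exact hv
    · intro hv
      have h1 := hab u⁻¹ (inv_mem hu) _ hv
      have h2 : v = u⁻¹ * (u * v * u⁻¹) * u := by group
      rw [h2, h1, mul_assoc, inv_mul_cancel, mul_one]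
      exact hv
  have hVr : IsPGroup r ↥(X a ⊔ X b) := hpa.to_sup_of_normal_right' hpb hnab
  have hrel' : H.relIndex (P : Subgroup Y) ≤ p ^ s := by
    rw [hrel]; exact Nat.pow_le_pow_right hp.out.pos ((padic_levi R hpr hT J).trans hs)
  refine ⟨P, H, X a ⊔ X b, nr_of hBT hidx P, hHP, ne_bot_of hlt hHP hrel', ?_, hVr, ?_, ?_⟩
  · intro z hz w hw hzp hwp hzH
    obtain ⟨k, t, hst, ⟨e⟩⟩ := hhom P
    exact omega_cyc e (hrel'.trans (Nat.pow_le_pow_right hp.out.pos hst)) hz hw hzp hwp hzH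
  · intro x hx y hy
    have h1 : X a ⊔ X b ≤ Subgroup.centralizer ({y} : Set Y) := by
      refine sup_le (fun v hv => ?_) (fun v hv => ?_)
      · rw [Subgroup.mem_centralizer_singleton_iff]
        exact (levi_cent R ha hfa hca (hHM hy) hv).symm
      · rw [Subgroup.mem_centralizer_singleton_iff]
        exact (levi_cent R hb hfb hcb (hHM hy) hv).symm
    exact Subgroup.mem_centralizer_singleton_iff.1 (h1 hx)
  · rintro ⟨hcyc, -⟩
    -- two subgroups of order `r`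
    have key : ∀ Z : Subgroup Y, IsPGroup r Z → Z ≠ ⊥ → ∃ z ∈ Z, orderOf z = r := by
      intro Z hZ hZ1
      have h1 : r ∣ Nat.card Z := by
        obtain ⟨k, hk⟩ := (IsPGroup.iff_card (p := r)).1 hZ
        rcases Nat.eq_zero_or_pos k with rfl | hk0
        · rw [pow_zero] at hk
          exact absurd (Subgroup.card_eq_one.1 hk) hZ1
        · rw [hk]; exact dvd_pow_self r hk0.ne'
      obtain ⟨z, hz⟩ := exists_prime_orderOf_dvd_card' r h1
      exact ⟨z, z.2, by rw [← hz]; exact Subgroup.orderOf_coe z⟩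
    obtain ⟨u, hu, hur⟩ := key _ hpa hXa
    obtain ⟨v, hv, hvr⟩ := key _ hpb hXb
    have hu' : u ∈ X a ⊔ X b := le_sup_left (a := X a) hu
    have hv' : v ∈ X a ⊔ X b := le_sup_right (b := X b) hv
    have h3 : (⟨u, hu'⟩ : ↥(X a ⊔ X b)) ∈ Subgroup.zpowers (⟨v, hv'⟩ : ↥(X a ⊔ X b)) := by
      refine cyc_mem hcyc hr.out.pos (Subtype.ext ?_) (by rw [Subgroup.orderOf_mk, hvr])
      show u ^ r = 1
      rw [← hur, pow_orderOf_eq_one]
    obtain ⟨m, hm⟩ := Subgroup.mem_zpowers_iff.1 h3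
    have h4 : u = v ^ m := (congrArg Subtype.val hm).symm
    have h5 : u ∈ X a ⊓ X b := ⟨hu, by rw [h4]; exact zpow_mem hv m⟩
    rw [hinf, Subgroup.mem_bot] at h5
    rw [h5, orderOf_one] at hur
    exact hr.out.one_lt.ne hur

end Main

end Cfsg.Agent.H790.Str
end

-- part: H132/S5/Eng2
section
/-!
# Strong pairs when the Sylow `p`-subgroups are abelian (II): centralisers

* `exists_normal_of_solvable` : `R ⊴ G` solvable, `P` an abelian Sylow `p`-subgroup: `G = K N_G(P ⊓ R)` with a normal `p'`-subgroup `K`;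
* `eq_one_of_omega` : if `P` normalises no `r`-subgroup, then no `r`-element centralises `Ω₁(P)`;
* `card_dvd_of_solvable` : `Ω₁(P) = V ⟨x⟩`, `V` central, `x` in a solvable normal subgroup: the `r`-subgroups have order dividing `p - 1`.
-/

set_option autoImplicit false

universe u

namespace Cfsg.Agent.H132.S5

open Cfsg Cfsg.Agent.H533.T5 Cfsg.Agent.H106.MB Cfsg.Agent.H106.MT Subgroup

section

variable {G : Type*} [Group G] [Finite G] {p : ℕ} [hp : Fact p.Prime]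

theorem exists_normal_of_solvable (P : Sylow p G) (hP : IsMulCommutative ↥(P : Subgroup G)) {R : Subgroup G}
    [hRn : R.Normal] (hR : Group.IsSolvable R) :
    ∃ K : Subgroup G, K.Normal ∧ ¬ p ∣ Nat.card K ∧
      K ⊔ normalizer (((P : Subgroup G) ⊓ R : Subgroup G) : Set G) = ⊤ := by
  have hnd := Lib.SylowNormalInf.not_dvd_relIndex P R
  have hpg := Lib.SylowNormalInf.isPGroup_subgroupOf P R
  let Q1 : Sylow p ↥R := hpg.toSylow hnd
  have hQ1 : (Q1 : Subgroup R) = (P : Subgroup G).subgroupOf R := rfl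
  have hc := comm_of_hab hP
  set K1 : Subgroup R := pPrimeCore p R with hK1
  have hK1n : K1.Normal := Lib.Cores.pPrimeCore_normal p
  have hK1c : K1.Characteristic := Lib.Cores.pPrimeCore_characteristic p
  have hcop : (Nat.card K1).Coprime p := Lib.Cores.pPrimeCore_coprime p
  -- the quotient
  have hs := QuotientGroup.mk'_surjective K1
  have hsol : Group.IsSolvable (R ⧸ K1) := Group.isSolvable_of_surjective (f := QuotientGroup.mk' K1) hs
  have hbot : pPrimeCore p (R ⧸ K1) = ⊥ := Lib.Cores.pPrimeCore_quotient_pPrimeCore p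
  have hself := Lib.PSolvable.centralizer_pCore_le_of_pSolvable (G := R ⧸ K1) p
    (Lib.PSolvable.IsPSolvable_of_solvable p) hbot
  -- the Sylow subgroup of the quotient
  have hQm : IsPGroup p ((Q1 : Subgroup R).map (QuotientGroup.mk' K1)) := Q1.isPGroup'.map _
  have hidx : ¬ p ∣ ((Q1 : Subgroup R).map (QuotientGroup.mk' K1)).index := by
    intro h
    exact Q1.not_dvd_index (h.trans (Subgroup.index_map_dvd _ hs))
  let Q2 : Sylow p (R ⧸ K1) := hQm.toSylow hidx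
  have hcore : pCore p (R ⧸ K1) ≤ (Q1 : Subgroup R).map (QuotientGroup.mk' K1) := Lib.Cores.pCore_le_sylow Q2
  have hQ1core : (Q1 : Subgroup R).map (QuotientGroup.mk' K1) ≤ pCore p (R ⧸ K1) := by
    refine le_trans ?_ hself
    rintro _ ⟨a, ha, rfl⟩
    rw [mem_centralizer_iff]
    intro z hz
    obtain ⟨b, hb, rfl⟩ := hcore hz
    rw [← map_mul, ← map_mul]
    congr 1
    exact Subtype.ext (hc _ hb _ ha).eq
  have heq := le_antisymm hQ1core hcore
  -- `W = K Q`
  set W1 : Subgroup R := (pCore p (R ⧸ K1)).comap (QuotientGroup.mk' K1) with hW1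
  have hW1c : W1.Characteristic := by
    rw [characteristic_iff_comap_le]
    intro φ y hy
    rw [mem_comap] at hy
    rw [hW1, mem_comap] at hy ⊢
    have hφ : K1.map φ.toMonoidHom = K1 := (characteristic_iff_map_eq.1 hK1c) φ
    let e : R ⧸ K1 ≃* R ⧸ K1 := QuotientGroup.congr K1 K1 φ hφ
    have h1 : (pCore p (R ⧸ K1)).map e.toMonoidHom = pCore p (R ⧸ K1) := Lib.Cores.map_equiv_pCore e p
    have h2 : e (QuotientGroup.mk' K1 y) = QuotientGroup.mk' K1 (φ y) := rfl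
    have h3 : QuotientGroup.mk' K1 (φ y) ∈ (pCore p (R ⧸ K1)).map e.toMonoidHom := by
      rw [h1]; exact hy
    obtain ⟨z, hz, hz'⟩ := h3
    have h4 : z = QuotientGroup.mk' K1 y := e.injective (by rw [h2]; exact hz')
    rw [← h4]; exact hz
  have hW1' : W1 = (Q1 : Subgroup R) ⊔ K1 := by
    rw [hW1, ← heq, comap_map_eq, QuotientGroup.ker_mk']
  set K : Subgroup G := K1.map R.subtype with hK
  have hKn : K.Normal := inferInstance
  set W : Subgroup G := W1.map R.subtype with hW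
  have hWn : W.Normal := inferInstance
  refine ⟨K, hKn, ?_, ?_⟩
  · rw [hK, card_map_of_injective R.subtype_injective]
    intro h
    have h1 : p ∣ Nat.gcd (Nat.card K1) p := Nat.dvd_gcd h dvd_rfl
    rw [hcop] at h1
    exact hp.out.one_lt.ne' (Nat.dvd_one.1 h1)
  · have h1 := Lib.SylowNormalInf.normalizer_inf_sup_eq_top P W
    have h2 : (P : Subgroup G) ⊓ W = (P : Subgroup G) ⊓ R := by
      apply le_antisymm
      · exact inf_le_inf_left _ (map_subtype_le _)
      · rintro y ⟨hy1, hy2⟩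
        refine ⟨hy1, ⟨y, hy2⟩, ?_, rfl⟩
        rw [hW1']
        exact (le_sup_left : (Q1 : Subgroup R) ≤ _) hy1
    rw [h2] at h1
    rw [eq_top_iff, ← h1]
    refine sup_le le_sup_right ?_
    rw [hW, hW1', Subgroup.map_sup]
    refine sup_le ?_ le_sup_left
    rintro _ ⟨y, hy, rfl⟩
    refine (le_sup_right : normalizer (((P : Subgroup G) ⊓ R : Subgroup G) : Set G) ≤ _) (le_normalizer ?_)
    exact ⟨hy, y.2⟩

/-- no `r`-subgroup is normalised by `P`: no `r`-element centralises `Ω₁(P)` -/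
theorem card_eq_one_of_omega (h2 : p ≠ 2) (P : Sylow p G) (hP : IsMulCommutative ↥(P : Subgroup G)) {r : ℕ}
    [hr : Fact r.Prime] (hrp : r ≠ p)
    (hnr : ∀ T : Subgroup G, IsPGroup r T → (P : Subgroup G) ≤ normalizer (T : Set G) → T = ⊥) :
    ¬ r ∣ Nat.card (centralizer ({z : G | z ∈ P ∧ z ^ p = 1})) := by
  intro hdvd
  have hc := comm_of_hab hP
  set D : Subgroup G := centralizer ({z : G | z ∈ P ∧ z ^ p = 1}) with hD
  have hPD : (P : Subgroup G) ≤ D := by
    intro y hy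
    rw [hD, mem_centralizer_iff]
    rintro z ⟨hz, -⟩
    exact (hc z hz y hy).eq
  let PD : Sylow p D := P.subtype hPD
  have hPD' : (PD : Subgroup D) = (P : Subgroup G).subgroupOf D := rfl
  -- Burnside
  have hNC : normalizer ((PD : Subgroup D) : Set D) ≤ centralizer ((PD : Subgroup D) : Set D) := by
    intro n hn
    obtain ⟨k, m, hm, hnm⟩ := Nat.exists_eq_pow_mul_and_not_dvd (orderOf_pos n).ne' p hp.out.ne_one
    -- the `p'`-part
    have h1 : orderOf (n ^ p ^ k) = m := by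
      rw [orderOf_pow' _ (pow_ne_zero _ hp.out.ne_zero), hnm, Nat.gcd_mul_right_left,
        Nat.mul_div_cancel_left _ (pow_pos hp.out.pos _)]
    have hA : zpowers (n ^ p ^ k) ≤ centralizer ((PD : Subgroup D) : Set D) := by
      refine Cfsg.Agent.S1443.result p h2 (PD : Subgroup D) ⊥ (zpowers (n ^ p ^ k)) PD.isPGroup' bot_le ?_ ?_ ?_ ?_
      · exact ⟨⟨⟨fun a b => Subsingleton.elim _ _⟩⟩, fun a ha => by rw [mem_bot.1 ha, one_pow]⟩
      · rw [zpowers_le]; exact pow_mem hn _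
      · rw [Nat.card_zpowers, h1]
        exact ((Nat.Prime.coprime_iff_not_dvd hp.out).2 hm).symm
      · rintro y ⟨hy, -⟩ hyo
        rw [zpowers_le, mem_centralizer_singleton_iff]
        refine Subtype.ext ?_
        have h3 : ((y : D) : G) ∈ {z : G | z ∈ P ∧ z ^ p = 1} := by
          refine ⟨hy, ?_⟩
          have h4 : y ^ p = 1 := by rw [← hyo, pow_orderOf_eq_one]
          simpa only [_root_.SubmonoidClass.coe_pow, _root_.OneMemClass.coe_one] using congrArg Subtype.val h4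
        have h4 : ∀ z ∈ {z : G | z ∈ P ∧ z ^ p = 1}, z * ((n ^ p ^ k : D) : G) = ((n ^ p ^ k : D) : G) * z :=
          mem_centralizer_iff.1 (n ^ p ^ k).2
        exact (h4 _ h3).symm
    -- the `p`-part
    have hB : n ^ m ∈ (PD : Subgroup D) := by
      have h3 : IsPGroup p (zpowers (n ^ m)) := by
        rw [IsPGroup.iff_card]
        refine ⟨k, ?_⟩
        have hm0 : m ≠ 0 := by rintro rfl; exact hm (dvd_zero _)
        rw [Nat.card_zpowers, orderOf_pow' _ hm0, hnm, Nat.gcd_mul_left_left,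
          Nat.mul_div_cancel _ (Nat.pos_of_ne_zero hm0)]
      have h4 : zpowers (n ^ m) ≤ (PD : Subgroup D) := by
        have h5 : IsPGroup p ↥(zpowers (n ^ m) ⊔ (PD : Subgroup D)) := by
          refine h3.to_sup_of_normal_right' PD.isPGroup' ?_
          rw [zpowers_le]; exact pow_mem hn _
        have h6 := PD.is_maximal' h5 le_sup_right
        rw [← h6]; exact le_sup_left
      exact h4 (mem_zpowers _)
    rw [mem_centralizer_iff]
    intro y hy
    have e1 : Commute y (n ^ p ^ k) := by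
      have := hA (mem_zpowers _)
      rw [mem_centralizer_iff] at this
      exact this y hy
    have e2 : Commute y (n ^ m) := Subtype.ext (hc _ hy _ hB).eq
    have hcop : IsCoprime ((p ^ k : ℕ) : ℤ) ((m : ℕ) : ℤ) :=
      Nat.isCoprime_iff_coprime.2 (Nat.Coprime.pow_left _ ((Nat.Prime.coprime_iff_not_dvd hp.out).2 hm))
    obtain ⟨a, b, hab⟩ := hcop
    have e3 : n = (n ^ p ^ k) ^ a * (n ^ m) ^ b := by
      rw [← zpow_natCast n (p ^ k), ← zpow_natCast n m, ← zpow_mul, ← zpow_mul, ← zpow_add,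
        mul_comm _ a, mul_comm _ b, hab, zpow_one]
    have e4 : Commute y n := by
      rw [e3]
      exact (e1.zpow_right a).mul_right (e2.zpow_right b)
    exact e4.eq
  have hcompl := MonoidHom.ker_transferSylow_isComplement' PD hNC
  set E1 : Subgroup D := (MonoidHom.transferSylow PD hNC).ker with hE1
  have hcard := hcompl.card_mul_card
  have hpE : ¬ p ∣ Nat.card E1 := by
    intro h
    have h3 : (PD : Subgroup D).index = Nat.card E1 := hcompl.index_eq_card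
    rw [← h3] at h
    exact PD.not_dvd_index h
  have hrE : r ∣ Nat.card E1 := by
    rw [← hcard] at hdvd
    rcases hr.out.dvd_mul.1 hdvd with h3 | h3
    · exact h3
    · exfalso
      obtain ⟨k, hk⟩ := IsPGroup.iff_card.1 PD.isPGroup'
      rw [hk] at h3
      exact hrp ((Nat.prime_dvd_prime_iff_eq hr.out hp.out).1 (hr.out.dvd_of_dvd_pow h3))
  set E : Subgroup G := E1.map D.subtype with hE
  have hEc : Nat.card E = Nat.card E1 := card_map_of_injective D.subtype_injective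
  obtain ⟨T, ⟨T1, hT1⟩, hT2⟩ := Lib.PGroupCoprimeAction.exists_invariant_sylow (A := (P : Subgroup G)) (H := E)
    P.isPGroup' (by rwa [hEc]) (by
      rintro b hb _ ⟨u, hu, rfl⟩
      have h3 : (⟨b, hPD hb⟩ : D) * u * (⟨b, hPD hb⟩ : D)⁻¹ ∈ E1 := (inferInstance : E1.Normal).conj_mem u hu _
      exact ⟨_, h3, rfl⟩) r
  have hTr : IsPGroup r T := by rw [← hT1]; exact T1.isPGroup'.map _
  have hTb : T = ⊥ := by
    refine hnr T hTr ?_
    intro b hb
    rw [mem_normalizer_iff]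
    intro u
    refine ⟨fun hu => hT2 b hb u hu, fun hu => ?_⟩
    have h3 := hT2 b⁻¹ (inv_mem hb) _ hu
    have h4 : b⁻¹ * (b * u * b⁻¹) * b⁻¹⁻¹ = u := by group
    rwa [h4] at h3
  have h3 : (T1 : Subgroup E) = ⊥ := by
    rw [hTb] at hT1
    exact (map_eq_bot_iff_of_injective _ E.subtype_injective).1 hT1
  have h4 := T1.not_dvd_index
  rw [h3, index_bot, hEc] at h4
  exact h4 hrE

/-- conjugating an `r`-subgroup into a subgroup of index prime to `r` -/
theorem exists_conj_le {r : ℕ} [hr : Fact r.Prime] {N : Subgroup G} (hN : ¬ r ∣ N.index) {T : Subgroup G}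
    (hT : IsPGroup r T) : ∃ g : G, ∀ t ∈ T, g * t * g⁻¹ ∈ N := by
  obtain ⟨Q⟩ : Nonempty (Sylow r N) := inferInstance
  have hQ' : IsPGroup r ((Q : Subgroup N).map N.subtype) := Q.isPGroup'.map _
  have hidx : ¬ r ∣ ((Q : Subgroup N).map N.subtype).index := by
    have h1 : ((Q : Subgroup N).map N.subtype).index = (Q : Subgroup N).index * N.index :=
      Subgroup.index_map_subtype _
    rw [h1]
    intro h2
    rcases hr.out.dvd_mul.1 h2 with h3 | h3
    · exact Q.not_dvd_index h3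
    · exact hN h3
  let Q2 : Sylow r G := hQ'.toSylow hidx
  obtain ⟨Q1, hQ1⟩ := hT.exists_le_sylow
  obtain ⟨g, hg⟩ := MulAction.exists_smul_eq G Q1 Q2
  refine ⟨g, fun t ht => ?_⟩
  have h1 : g * t * g⁻¹ ∈ (g • Q1 : Sylow r G) := by
    rw [← MulAut.conj_apply]
    exact ⟨t, hQ1 ht, rfl⟩
  rw [hg] at h1
  exact map_subtype_le _ h1

theorem card_dvd_sub_one (h2 : p ≠ 2) (P : Sylow p G) (hP : IsMulCommutative ↥(P : Subgroup G)) {r : ℕ}
    [hr : Fact r.Prime] (hrp : r ≠ p)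
    (hnr : ∀ T : Subgroup G, IsPGroup r T → (P : Subgroup G) ≤ normalizer (T : Set G) → T = ⊥)
    {R : Subgroup G} [hRn : R.Normal] (hR : Group.IsSolvable R) {V : Subgroup G} (hVc : V ≤ center G)
    (hVP : V ≤ (P : Subgroup G)) {x : G} (hxP : x ∈ P) (hxR : x ∈ R) (hxp : x ^ p = 1) (hxV : x ∉ V)
    (hΩ : ∀ z ∈ P, z ^ p = 1 → ∃ i : ℤ, z * x ^ i ∈ V) {T : Subgroup G} (hT : IsPGroup r T) :
    IsCyclic T ∧ Nat.card T ∣ p - 1 := by
  have hVn : V.Normal := by
    constructor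
    intro v hv g
    have h1 : g * v * g⁻¹ = v := by rw [mem_center_iff.1 (hVc hv) g]; group
    rwa [h1]
  obtain ⟨K, hKn, hpK, hKN⟩ := exists_normal_of_solvable P hP (R := R) hR
  set N : Subgroup G := normalizer (((P : Subgroup G) ⊓ R : Subgroup G) : Set G) with hN
  -- `r` does not divide `|K|`
  have hrK : ¬ r ∣ Nat.card K := by
    intro hrE
    obtain ⟨T, ⟨T1, hT1⟩, hT2⟩ := Lib.PGroupCoprimeAction.exists_invariant_sylow (A := (P : Subgroup G)) (H := K)
      P.isPGroup' hpK (fun b _ u hu => hKn.conj_mem u hu b) r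
    have hTr : IsPGroup r T := by rw [← hT1]; exact T1.isPGroup'.map _
    have hTb : T = ⊥ := by
      refine hnr T hTr ?_
      intro b hb
      rw [mem_normalizer_iff]
      intro u
      refine ⟨fun hu => hT2 b hb u hu, fun hu => ?_⟩
      have h3 := hT2 b⁻¹ (inv_mem hb) _ hu
      have h4 : b⁻¹ * (b * u * b⁻¹) * b⁻¹⁻¹ = u := by group
      rwa [h4] at h3
    have h3 : (T1 : Subgroup K) = ⊥ := by
      rw [hTb] at hT1
      exact (map_eq_bot_iff_of_injective _ K.subtype_injective).1 hT1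
    have h4 := T1.not_dvd_index
    rw [h3, index_bot] at h4
    exact h4 hrE
  have hrN : ¬ r ∣ N.index := by
    intro h
    apply hrK
    have h1 := Lib.SylowNormalInf.relIndex_sup_of_normal N K
    rw [sup_comm, hKN, relIndex_top_right] at h1
    rw [h1] at h
    exact h.trans (by
      have := Lib.SylowNormalInf.card_inf_mul_relIndex N K
      exact Dvd.intro_left _ this)
  obtain ⟨g, hg⟩ := exists_conj_le hrN hT
  set T' : Subgroup G := T.map (MulAut.conj g).toMonoidHom with hT'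
  have hT'c : Nat.card T' = Nat.card T := card_map_of_injective (MulAut.conj g).injective
  have hT'r : IsPGroup r T' := hT.map _
  have hT'N : T' ≤ N := by
    rintro _ ⟨t, ht, rfl⟩
    exact hg t ht
  have hc := comm_of_hab hP
  -- the action on `Ω / V`
  set xb : G ⧸ V := QuotientGroup.mk' V x with hxb
  have hxbo : orderOf xb = p := by
    refine orderOf_eq_prime ?_ ?_
    · rw [hxb, ← map_pow, hxp, map_one]
    · intro h
      exact hxV ((QuotientGroup.eq_one_iff x).1 h)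
  have hconj : ∀ t ∈ T', ∃ i : ℤ, QuotientGroup.mk' V t * xb * (QuotientGroup.mk' V t)⁻¹ = xb ^ i := by
    intro t ht
    have h1 : t * x * t⁻¹ ∈ ((P : Subgroup G) ⊓ R : Subgroup G) := by
      have h0 := hT'N ht
      rw [hN, mem_normalizer_iff] at h0
      exact (h0 x).1 ⟨hxP, hxR⟩
    obtain ⟨i, hi⟩ := hΩ _ h1.1 (by rw [conj_pow, hxp]; group)
    refine ⟨-i, ?_⟩
    have h3 : QuotientGroup.mk' V (t * x * t⁻¹ * x ^ i) = 1 := (QuotientGroup.eq_one_iff _).2 hi
    rw [map_mul, map_mul, map_mul, map_inv, map_zpow, ← hxb] at h3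
    rw [zpow_neg]
    exact eq_inv_of_mul_eq_one_left h3
  have hTn : ∀ t ∈ T', QuotientGroup.mk' V t ∈ normalizer ((zpowers xb : Subgroup (G ⧸ V)) : Set (G ⧸ V)) := by
    have key : ∀ t ∈ T', ∀ y ∈ zpowers xb, QuotientGroup.mk' V t * y * (QuotientGroup.mk' V t)⁻¹ ∈ zpowers xb := by
      rintro t ht _ ⟨j, rfl⟩
      obtain ⟨i, hi⟩ := hconj t ht
      change QuotientGroup.mk' V t * xb ^ j * (QuotientGroup.mk' V t)⁻¹ ∈ _
      rw [← conj_zpow, hi]
      exact zpow_mem (zpow_mem (mem_zpowers _) _) _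
    intro t ht
    rw [mem_normalizer_iff]
    intro y
    refine ⟨fun hy => key t ht y hy, fun hy => ?_⟩
    have h3 := key t⁻¹ (inv_mem ht) _ hy
    rw [map_inv] at h3
    have h4 : (QuotientGroup.mk' V t)⁻¹ * (QuotientGroup.mk' V t * y * (QuotientGroup.mk' V t)⁻¹) * (QuotientGroup.mk' V t)⁻¹⁻¹ = y := by
      group
    rwa [h4] at h3
  let ψ : T' →* MulAut (zpowers xb) := (zpowers xb).normalizerMonoidHom.comp
    (((QuotientGroup.mk' V).comp T'.subtype).codRestrict _ (fun t => hTn t t.2))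
  have hcent := card_eq_one_of_omega h2 P hP hrp hnr
  have hψ : Function.Injective ψ := by
    rw [injective_iff_map_eq_one]
    rintro ⟨t, ht⟩ h
    -- `t` centralises `xb`
    have h3 : QuotientGroup.mk' V t * xb * (QuotientGroup.mk' V t)⁻¹ = xb :=
      congrArg (fun f : MulAut (zpowers xb) => ((f ⟨xb, mem_zpowers _⟩ : zpowers xb) : G ⧸ V)) h
    set v : G := t * x * t⁻¹ * x⁻¹ with hv
    have hvV : v ∈ V := by
      rw [← QuotientGroup.eq_one_iff]
      change QuotientGroup.mk' V v = 1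
      rw [hv, map_mul, map_mul, map_mul, map_inv, map_inv, ← hxb, h3, mul_inv_cancel]
    have hvc : ∀ y : G, y * v = v * y := mem_center_iff.1 (hVc hvV)
    have h4 : ∀ n : ℕ, t ^ n * x * (t ^ n)⁻¹ = v ^ n * x := by
      intro n
      induction n with
      | zero => simp
      | succ n ih =>
        have h5 : t ^ (n + 1) * x * (t ^ (n + 1))⁻¹ = t * (t ^ n * x * (t ^ n)⁻¹) * t⁻¹ := by
          rw [pow_succ']; group
        have h6 : t * x * t⁻¹ = v * x := by rw [hv]; group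
        have h7 : Commute t (v ^ n) := (show Commute t v from hvc t).pow_right n
        calc t ^ (n + 1) * x * (t ^ (n + 1))⁻¹ = t * (v ^ n * x) * t⁻¹ := by rw [h5, ih]
          _ = (t * v ^ n) * x * t⁻¹ := by group
          _ = v ^ n * (t * x * t⁻¹) := by rw [h7.eq]; group
          _ = v ^ (n + 1) * x := by rw [h6, pow_succ]; group
    obtain ⟨k, hk⟩ := hT'r ⟨t, ht⟩
    have hk' : t ^ r ^ k = 1 := by simpa only [_root_.SubmonoidClass.mk_pow, _root_.OneMemClass.coe_one] using congrArg Subtype.val hk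
    have h5 : v ^ r ^ k = 1 := by
      have := h4 (r ^ k)
      rw [hk', one_mul, inv_one, mul_one] at this
      exact (mul_eq_right.1 this.symm)
    have h6 : v = 1 := by
      obtain ⟨m, hm⟩ := P.isPGroup' ⟨v, hVP hvV⟩
      have hm' : v ^ p ^ m = 1 := by simpa only [_root_.SubmonoidClass.mk_pow, _root_.OneMemClass.coe_one] using congrArg Subtype.val hm
      have h7 : orderOf v ∣ r ^ k := orderOf_dvd_of_pow_eq_one h5
      have h8 : orderOf v ∣ p ^ m := orderOf_dvd_of_pow_eq_one hm'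
      have h9 : Nat.Coprime (r ^ k) (p ^ m) :=
        Nat.Coprime.pow _ _ ((Nat.coprime_primes hr.out hp.out).2 hrp)
      exact orderOf_eq_one_iff.1 (Nat.eq_one_of_dvd_coprimes h9 h7 h8)
    have h7 : Commute t x := by
      have h8 : t * x * t⁻¹ * x⁻¹ = 1 := by rw [← hv, h6]
      have h9 : t * x * t⁻¹ = x := by
        have := eq_of_mul_inv_eq_one h8
        exact this
      exact mul_inv_eq_iff_eq_mul.1 h9
    -- `t` centralises `Ω`
    have h8 : t ∈ centralizer ({z : G | z ∈ P ∧ z ^ p = 1}) := by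
      rw [mem_centralizer_iff]
      rintro z ⟨hz, hzp⟩
      obtain ⟨i, hi⟩ := hΩ z hz hzp
      have h9 : Commute (z * x ^ i) t := (mem_center_iff.1 (hVc hi) t).symm
      have h10 : z = (z * x ^ i) * (x ^ i)⁻¹ := by group
      rw [h10]
      exact (h9.mul_left ((h7.symm.zpow_left i).inv_left)).eq
    have h9 : orderOf t ∣ Nat.card (centralizer ({z : G | z ∈ P ∧ z ^ p = 1})) := by
      rw [← Subgroup.orderOf_mk t h8]
      exact _root_.orderOf_dvd_natCard _
    have h10 : orderOf t ∣ r ^ k := orderOf_dvd_of_pow_eq_one hk'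
    have h11 : t = 1 := by
      obtain ⟨j, -, hj⟩ := (Nat.dvd_prime_pow hr.out).1 h10
      rcases Nat.eq_zero_or_pos j with h12 | h12
      · rw [h12, pow_zero] at hj
        exact orderOf_eq_one_iff.1 hj
      · exfalso
        apply hcent
        rw [hj] at h9
        exact (dvd_pow_self r h12.ne').trans h9
    exact Subtype.ext h11
  have h3 := Subgroup.card_dvd_of_injective ψ hψ
  rw [hT'c] at h3
  have h4 : Nat.card (MulAut (zpowers xb)) = p - 1 := by
    rw [IsCyclic.card_mulAut, Nat.card_zpowers, hxbo, Nat.totient_prime hp.out]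
  refine ⟨?_, by rwa [h4] at h3⟩
  have h5 : IsCyclic (MulAut (zpowers xb)) := by
    have h6 : Nat.card (zpowers xb) = p := by rw [Nat.card_zpowers, hxbo]
    have e : MulAut (zpowers xb) ≃* (ZMod (Nat.card (zpowers xb)))ˣ := IsCyclic.mulAutMulEquiv _
    rw [h6] at e
    exact isCyclic_of_injective e.toMonoidHom e.injective
  have h6 : IsCyclic T' := isCyclic_of_injective ψ hψ
  let e : T ≃* T' := T.equivMapOfInjective (MulAut.conj g).toMonoidHom (MulAut.conj g).injective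
  exact isCyclic_of_injective e.toMonoidHom e.injective

end

end Cfsg.Agent.H132.S5
end

-- part: H28/S5Moved
section
/-!
# Products of conjugates of `x` and `x ^ j` (S2274)

* `movedB` : `x` of order `p` moves a component, `p ∤ j`: some `x * (x ^ j) ^ g` is not a `p`-element.
-/

set_option autoImplicit false
set_option linter.unusedSectionVars false
set_option linter.unusedSimpArgs false

namespace Cfsg.Agent.H28.S5Moved

open Cfsg Subgroup Cfsg.Agent.SignalizersComponents.ComponentExists Cfsg.Agent.H459.Rad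
open Cfsg.Agent.SignalizersComponents.Components Cfsg.Agent.H459.Reduce Cfsg.Agent.H460.AA

universe u

/-- the position of `b` -/
theorem exists_pos {p : ℕ} [hp : Fact p.Prime] {j : ℤ} (hj : ¬ (p : ℤ) ∣ j) (hj1 : ¬ (p : ℤ) ∣ 1 + j) :
    ∃ β : ℕ, 1 ≤ β ∧ β + 1 < p ∧ (p : ℤ) ∣ (1 + j) * β + 1 := by
  have h0 : ((1 + j : ℤ) : ZMod p) ≠ 0 := fun h => hj1 ((ZMod.intCast_zmod_eq_zero_iff_dvd _ _).1 h)
  obtain ⟨β, hβ⟩ : ∃ β : ℕ, β = (-((1 + j : ℤ) : ZMod p)⁻¹ : ZMod p).val := ⟨_, rfl⟩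
  have hβp : β < p := by rw [hβ]; exact ZMod.val_lt _
  have hdvd : (p : ℤ) ∣ (1 + j) * β + 1 := by
    rw [← ZMod.intCast_zmod_eq_zero_iff_dvd]
    rw [Int.cast_add, Int.cast_mul, Int.cast_natCast, hβ, ZMod.natCast_val, ZMod.cast_id, Int.cast_one, mul_neg,
      mul_inv_cancel₀ h0]
    ring
  refine ⟨β, ?_, ?_, hdvd⟩
  · by_contra h
    have h1 : β = 0 := by omega
    rw [h1] at hdvd
    have h2 : (p : ℤ) ∣ 1 := by simpa using hdvd
    have h3 : p ∣ 1 := by exact_mod_cast h2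
    exact hp.out.one_lt.ne' (Nat.dvd_one.1 h3)
  · by_contra h
    have h1 : (β : ℤ) = p - 1 := by omega
    rw [h1] at hdvd
    apply hj
    have h2 : (1 + j) * ((p : ℤ) - 1) + 1 = p * (1 + j) - j := by ring
    rw [h2] at hdvd
    exact (dvd_sub_right (dvd_mul_right _ _)).1 hdvd

theorem eq_of_dvd {p : ℕ} [hp : Fact p.Prime] {j : ℤ} (hj1 : ¬ (p : ℤ) ∣ 1 + j) {m m' : ℕ} (hm : m < p) (hm' : m' < p)
    (h : (p : ℤ) ∣ (1 + j) * ((m : ℤ) - m')) : m = m' := by
  have h1 : (p : ℤ) ∣ (m : ℤ) - m' := ((Nat.prime_iff_prime_int.1 hp.out).dvd_or_dvd h).resolve_left hj1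
  have h2 : ((m : ℤ) - m') = 0 := Int.eq_zero_of_abs_lt_dvd h1 (by rw [abs_lt]; omega)
  omega

section Comp

variable {G : Type u} [Group G] [Finite G]

/-- **A component, an element moving it.** -/
theorem movedB {p : ℕ} [Fact p.Prime] (hR : solvableRadical G = ⊥) {x : G}
    (hx : x ^ p = 1) {L : Subgroup G} (hL : IsComponent L) (hm : x ∉ normalizer (L : Set G)) {j : ℤ}
    (hj : ¬ (p : ℤ) ∣ j) (h : ∀ g : G, PE p (x * (g * x ^ j * g⁻¹))) : False := by
  have hp : p.Prime := Fact.out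
  have hns : ¬ Group.IsSolvable L := quasisimple_not_isSolvable hL.2
  have hcen := component_center hR hL
  have hsimp := component_simple hR hL
  obtain ⟨u, v, huv⟩ := exists_commutator_not_pe hns p
  apply huv
  set N := normalizer (L : Set G) with hN
  set ρ : N →* MulAut L := L.normalizerMonoidHom with hρ
  have hLN : L ≤ N := le_normalizer
  have hinj : Function.Injective (MulAut.conj : L →* MulAut L) := _root_.Cfsg.Agent.H460.AA.conj_injective hcen
  have hρL : ∀ l : L, ρ ⟨l, hLN l.2⟩ = MulAut.conj l := by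
    intro l
    ext y
    rfl
  have hρC : ∀ (y : G) (hy : y ∈ N), (∀ l ∈ L, y * l = l * y) → ρ ⟨y, hy⟩ = 1 := by
    intro y hy hc
    ext l
    change y * l * y⁻¹ = l
    rw [hc l l.2]; group
  have hcN : ∀ y : G, (∀ l ∈ L, y * l = l * y) → y ∈ N := by
    intro y hy
    rw [hN, Subgroup.mem_normalizer_iff]
    intro l
    constructor
    · intro hl
      rw [hy l hl]; simpa using hl
    · intro hl
      have h1 := hy _ hl
      have h2 : y * l * y⁻¹ = l := by
        have h3 : y * (y * l * y⁻¹) = (y * l * y⁻¹) * y := h1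
        have h4 : y * (y * l * y⁻¹) = y * l := by rw [h3]; group
        exact mul_left_cancel h4
      rwa [h2] at hl
  have hxp : ∀ i : ℤ, (p : ℤ) ∣ i → x ^ i = 1 := by
    rintro _ ⟨i, rfl⟩
    rw [zpow_mul, zpow_natCast, hx, one_zpow]
  -- powers of `x` not divisible by `p` move `L`
  have hmov : ∀ i : ℤ, ¬ (p : ℤ) ∣ i → cj (x ^ i) L ≠ L := by
    intro i hi h1
    have h2 := mem_normalizer_of_cj h1
    apply hm
    have h3 : IsCoprime i (p : ℤ) := by
      rw [isCoprime_comm]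
      exact (Nat.prime_iff_prime_int.1 hp).coprime_iff_not_dvd.2 hi
    obtain ⟨a, b, hab⟩ := h3
    have h4 : x = (x ^ i) ^ a := by
      have h5 : x ^ (p : ℤ) = 1 := by rw [zpow_natCast]; exact hx
      calc x = x ^ (a * i + b * p) := by rw [hab, zpow_one]
        _ = (x ^ i) ^ a * (x ^ (p : ℤ)) ^ b := by
          rw [zpow_add, mul_comm a i, zpow_mul, mul_comm b, zpow_mul]
        _ = _ := by rw [h5, one_zpow, mul_one]
    rw [h4]
    exact zpow_mem h2 a
  -- the image of `x ^ i l x ^ -i`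
  have hmemi : ∀ (i : ℤ) (l : L), x ^ i * l * (x ^ i)⁻¹ ∈ N := by
    intro i l
    by_cases hi : (p : ℤ) ∣ i
    · rw [hxp i hi]; simpa using hLN l.2
    · exact hcN _ fun l' hl' => comm_of_cj_ne hL (hmov i hi) (conj_mem_cj l.2) hl'
  have himg : ∀ (i : ℤ) (l : L), ρ ⟨_, hmemi i l⟩ = if (p : ℤ) ∣ i then MulAut.conj l else 1 := by
    intro i l
    by_cases hi : (p : ℤ) ∣ i
    · rw [if_pos hi]
      have h6 : (⟨_, hmemi i l⟩ : N) = ⟨l, hLN l.2⟩ := by
        apply Subtype.ext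
        change x ^ i * l * (x ^ i)⁻¹ = l
        rw [hxp i hi]; simp
      rw [h6, hρL]
    · rw [if_neg hi]
      exact hρC _ _ fun l' hl' => comm_of_cj_ne hL (hmov i hi) (conj_mem_cj l.2) hl'
  have hp1 : ¬ (p : ℤ) ∣ 1 := by
    intro h1
    have h3 : p ∣ 1 := by exact_mod_cast h1
    exact hp.one_lt.ne' (Nat.dvd_one.1 h3)
  by_cases hj1 : (p : ℤ) ∣ 1 + j
  · -- `x ^ j = x⁻¹`
    exfalso
    have hxj : x ^ j = x⁻¹ := by
      have h1 : x ^ j = x ^ (1 + j) * x⁻¹ := by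
        rw [zpow_add, zpow_one]
        group
      rw [h1, hxp _ hj1, one_mul]
    apply huv
    obtain ⟨c, hc⟩ : ∃ c : L, c = u * v * u⁻¹ * v⁻¹ := ⟨_, rfl⟩
    rw [← hc]
    have h1 := h (c : G)⁻¹
    rw [hxj] at h1
    have h2 : x * ((c : G)⁻¹ * x⁻¹ * (c : G)⁻¹⁻¹) =
        (((⟨_, hmemi 1 c⁻¹⟩ : N) * ⟨c, hLN c.2⟩ : N) : G) := by
      rw [Subgroup.coe_mul]
      show x * ((c : G)⁻¹ * x⁻¹ * (c : G)⁻¹⁻¹) = x ^ (1 : ℤ) * ((c⁻¹ : L) : G) * (x ^ (1 : ℤ))⁻¹ * (c : G)
      rw [zpow_one, Subgroup.coe_inv]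
      group
    rw [h2, PE.coe] at h1
    have h3 := h1.map ρ
    rw [map_mul, himg, if_neg hp1, one_mul, hρL] at h3
    exact PE.of_injective (f := MulAut.conj) hinj h3
  · obtain ⟨β, hβ1, hβ2, hβ⟩ := exists_pos hj hj1
    obtain ⟨z, hz⟩ : ∃ z : G, z = x ^ (1 + j) := ⟨_, rfl⟩
    obtain ⟨a, ha⟩ : ∃ a : L, a = u⁻¹ := ⟨_, rfl⟩
    -- the partial products
    obtain ⟨q, hqd⟩ : ∃ q : ℤ → N, ∀ m, q m = ⟨_, hmemi ((1 + j) * m - j) a⟩ * ⟨_, hmemi ((1 + j) * m + 1) v⟩ *
      ⟨_, hmemi ((1 + j) * (m + 1)) v⁻¹⟩ * ⟨_, hmemi ((1 + j) * m) a⁻¹⟩ := ⟨_, fun _ => rfl⟩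
    have hqG : ∀ m : ℤ, (q m : G) = x ^ ((1 + j) * m - j) * a * (x ^ ((1 + j) * m - j))⁻¹ *
        (x ^ ((1 + j) * m + 1) * v * (x ^ ((1 + j) * m + 1))⁻¹) *
        (x ^ ((1 + j) * (m + 1)) * (v : G)⁻¹ * (x ^ ((1 + j) * (m + 1)))⁻¹) *
        (x ^ ((1 + j) * m) * (a : G)⁻¹ * (x ^ ((1 + j) * m))⁻¹) := by
      intro m; rw [hqd]; rfl
    have hq0 : (q 0 : G) = x ^ (-j) * a * x ^ j * (x * v * x⁻¹) * (z * (v : G)⁻¹ * z⁻¹) * (a : G)⁻¹ := by
      rw [hqG, hz]
      simp only [mul_zero, zpow_zero, zero_sub, zero_add, zpow_neg, zpow_one, mul_one, one_mul, inv_one, inv_inv]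
    have hzm : ∀ m : ℤ, z ^ m = x ^ ((1 + j) * m) := fun m => by rw [hz, zpow_mul]
    have hq : ∀ m : ℤ, (q m : G) = z ^ m * (q 0 : G) * (z ^ m)⁻¹ := by
      intro m
      rw [hqG, hq0, hzm, mul_add, zpow_add x ((1 + j) * m) ((1 + j) * 1), mul_one, ← hz, zpow_sub, zpow_add, zpow_one,
        zpow_neg]
      generalize x ^ ((1 + j) * m) = y
      generalize x ^ j = w
      group
    -- the product
    obtain ⟨t, ht⟩ : ∃ t : G, t = (q 0 : G) * z := ⟨_, rfl⟩
    have htPE : PE p t := by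
      have h1 := (h (a * (z * v * z⁻¹))).conj z⁻¹
      have h2 : z⁻¹ * (x * (a * (z * v * z⁻¹) * x ^ j * (a * (z * v * z⁻¹))⁻¹)) * z⁻¹⁻¹ = t := by
        rw [ht, hq0]
        have e1 : z = x * x ^ j := by rw [hz, zpow_add, zpow_one]
        have e2 : x ^ j * x = x * x ^ j := (Commute.self_zpow x j).eq.symm
        rw [e1, zpow_neg]
        generalize x ^ j = w at e2
        have e3 : (x * w)⁻¹ * w * (x * w) = w := by
          rw [← e2]
          have : (w * x)⁻¹ * w * (w * x) = x⁻¹ * (w * x) := by group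
          rw [this, e2]
          group
        calc (x * w)⁻¹ * (x * (a * (x * w * v * (x * w)⁻¹) * w * (a * (x * w * v * (x * w)⁻¹))⁻¹)) * (x * w)⁻¹⁻¹
            = w⁻¹ * a * (x * w) * v * ((x * w)⁻¹ * w * (x * w)) * (v : G)⁻¹ * (x * w)⁻¹ * (a : G)⁻¹ * (x * w) := by group
          _ = w⁻¹ * a * (w * x) * v * w * (v : G)⁻¹ * (x * w)⁻¹ * (a : G)⁻¹ * (x * w) := by rw [e3, e2]
          _ = _ := by group
      rw [h2] at h1
      exact h1
    obtain ⟨s, hs0, hss⟩ : ∃ s : ℕ → N, s 0 = 1 ∧ ∀ n : ℕ, s (n + 1) = s n * q n :=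
      ⟨fun n => Nat.rec 1 (fun k r => r * q k) n, rfl, fun _ => rfl⟩
    have htn : ∀ n : ℕ, t ^ n = (s n : G) * z ^ (n : ℤ) := by
      intro n
      induction n with
      | zero => simp [hs0]
      | succ n ih =>
        rw [pow_succ, ih, hss, Subgroup.coe_mul, hq n, ht]
        push_cast
        rw [zpow_add, zpow_one]
        generalize z ^ (n : ℤ) = y
        group
    -- the conditions
    have c0 : ∀ m : ℕ, m < p → ((p : ℤ) ∣ (1 + j) * m ↔ m = 0) := by
      intro m hm'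
      constructor
      · intro h1
        exact eq_of_dvd hj1 hm' hp.pos (by simpa only [_root_.CharP.cast_eq_zero, _root_.sub_zero] using h1)
      · rintro rfl; simp
    have c1 : ∀ m : ℕ, m < p → ((p : ℤ) ∣ (1 + j) * m + 1 ↔ m = β) := by
      intro m hm'
      constructor
      · intro h1
        refine eq_of_dvd hj1 hm' (by omega) ?_
        have h2 := dvd_sub h1 hβ
        have e : (1 + j) * (m : ℤ) + 1 - ((1 + j) * β + 1) = (1 + j) * ((m : ℤ) - β) := by ring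
        rwa [e] at h2
      · rintro rfl; exact hβ
    have c2 : ∀ m : ℕ, m < p → ((p : ℤ) ∣ (1 + j) * m - j ↔ m = β + 1) := by
      intro m hm'
      constructor
      · intro h1
        refine eq_of_dvd hj1 hm' (by omega) ?_
        have h2 := dvd_sub h1 hβ
        have e : (1 + j) * (m : ℤ) - j - ((1 + j) * β + 1) = (1 + j) * ((m : ℤ) - (β + 1 : ℕ)) := by push_cast; ring
        rwa [e] at h2
      · rintro rfl
        have e : (1 + j) * ((β + 1 : ℕ) : ℤ) - j = (1 + j) * β + 1 := by push_cast; ring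
        rw [e]
        exact hβ
    have c3 : ∀ m : ℕ, m < p → ((p : ℤ) ∣ (1 + j) * (m + 1) ↔ m = p - 1) := by
      intro m hm'
      constructor
      · intro h1
        have h2 : (p : ℤ) ∣ (m : ℤ) + 1 := ((Nat.prime_iff_prime_int.1 hp).dvd_or_dvd h1).resolve_left hj1
        have h3 : p ∣ m + 1 := by exact_mod_cast h2
        have := Nat.le_of_dvd (by omega) h3
        omega
      · rintro rfl
        have e : (((p - 1 : ℕ) : ℤ) + 1) = p := by
          have := hp.pos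
          push_cast [Nat.cast_sub (show 1 ≤ p by omega)]
          ring
        rw [e]
        exact dvd_mul_left _ _
    have hρq : ∀ m : ℤ, ρ (q m) = (if (p : ℤ) ∣ (1 + j) * m - j then MulAut.conj a else 1) *
        (if (p : ℤ) ∣ (1 + j) * m + 1 then MulAut.conj v else 1) *
        (if (p : ℤ) ∣ (1 + j) * (m + 1) then MulAut.conj v⁻¹ else 1) *
        (if (p : ℤ) ∣ (1 + j) * m then MulAut.conj a⁻¹ else 1) := by
      intro m
      rw [hqd, map_mul, map_mul, map_mul, himg, himg, himg, himg]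
    have hρs : ∀ n : ℕ, n ≤ p → ρ (s n) = (if 1 ≤ n then MulAut.conj a⁻¹ else 1) *
        (if β + 1 ≤ n then MulAut.conj v else 1) * (if β + 2 ≤ n then MulAut.conj a else 1) *
        (if p ≤ n then MulAut.conj v⁻¹ else 1) := by
      intro n
      induction n with
      | zero =>
        intro _
        have := hp.pos
        rw [hs0, map_one, if_neg (by omega), if_neg (by omega), if_neg (by omega), if_neg (by omega)]
        simp
      | succ n ih =>
        intro hn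
        rw [hss, map_mul, ih (by omega), hρq, if_neg (show ¬ p ≤ n by omega)]
        simp only [c0 n (by omega), c1 n (by omega), c2 n (by omega), c3 n (by omega)]
        generalize (MulAut.conj a⁻¹ : MulAut L) = A'
        generalize (MulAut.conj a : MulAut L) = A
        generalize (MulAut.conj v⁻¹ : MulAut L) = V'
        generalize (MulAut.conj v : MulAut L) = V
        have hp' := hp.pos
        rw [if_pos (show 1 ≤ n + 1 by omega)]
        rcases Nat.eq_zero_or_pos n with h0 | h0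
        · subst h0
          rw [if_neg (by omega), if_neg (by omega), if_neg (by omega), if_neg (by omega), if_neg (by omega),
            if_neg (by omega), if_pos rfl, if_neg (by omega), if_neg (by omega), if_neg (by omega)]
          simp only [mul_one, one_mul]
        rw [if_pos (show 1 ≤ n by omega), if_neg (show ¬ n = 0 by omega)]
        rcases lt_trichotomy n β with h1 | h1 | h1
        · rw [if_neg (by omega), if_neg (by omega), if_neg (by omega), if_neg (by omega), if_neg (by omega),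
            if_neg (by omega), if_neg (by omega), if_neg (by omega)]
          simp only [mul_one, one_mul]
        · rw [if_neg (by omega), if_neg (by omega), if_neg (by omega), if_pos h1, if_neg (by omega),
            if_pos (by omega), if_neg (by omega), if_neg (by omega)]
          simp only [mul_one, one_mul]
        · rw [if_pos (show β + 1 ≤ n by omega), if_neg (show ¬ n = β by omega), if_pos (show β + 1 ≤ n + 1 by omega),
            if_pos (show β + 2 ≤ n + 1 by omega)]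
          by_cases h2 : n = β + 1
          · rw [if_neg (by omega), if_pos h2]
            by_cases h3 : n = p - 1
            · rw [if_pos h3, if_pos (by omega)]
              simp only [mul_one, one_mul, mul_assoc]
            · rw [if_neg h3, if_neg (by omega)]
              simp only [mul_one, one_mul, mul_assoc]
          · rw [if_pos (by omega), if_neg h2]
            by_cases h3 : n = p - 1
            · rw [if_pos h3, if_pos (by omega)]
              simp only [mul_one, one_mul, mul_assoc]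
            · rw [if_neg h3, if_neg (by omega)]
              simp only [mul_one, one_mul, mul_assoc]
    have hsp := hρs p le_rfl
    rw [if_pos (by omega), if_pos (by omega), if_pos (by omega), if_pos le_rfl, ← map_mul, ← map_mul, ← map_mul] at hsp
    have htp : t ^ p = (s p : G) := by
      rw [htn, hzm, hxp _ (dvd_mul_left _ _), mul_one]
    have h6 : PE p (s p) := PE.coe.1 (htp ▸ htPE.pow p)
    have h7 := h6.map ρ
    rw [hsp] at h7
    have h8 := PE.of_injective (f := MulAut.conj) hinj h7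
    rwa [ha, inv_inv] at h8

end Comp

end Cfsg.Agent.H28.S5Moved
end

-- part: H28/S5Hyper
section
/-!
# Strong pairs from a proper subgroup (S2274)

* `mem_rad` : all `x * (x ^ j) ^ g` are `p`-elements, strong rows of the simple groups of order at most `|G|`: `x` lies
  in the solvable radical;
* `spair_of_hyper` : `x ∈ C < S`, `y = x ^ j v`, `v` a `p`-element centralising `C`, `x` not in the solvable radical of
  `C`: a strong pair.
-/

set_option autoImplicit false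
set_option linter.unusedSectionVars false

namespace Cfsg.Agent.H28.S5Hyper

open Cfsg Subgroup Cfsg.Agent.SignalizersComponents.ComponentExists Cfsg.Agent.H459.Rad
open Cfsg.Agent.SignalizersComponents.Components Cfsg.Agent.H459.Reduce Cfsg.Agent.H460.AA
open Cfsg.Agent.H533.T5 Cfsg.Agent.H132.S5 Cfsg.Agent.H28.S5Moved

universe u

/-- strong rows of the simple groups of order less than `n` -/
def SBelow (p n : ℕ) : Prop :=
  ∀ (L : Type u) [Group L] [Finite L], IsSimpleGroup L → ¬ IsMulCommutative L → Nat.card L < n → SRow p L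

/-- **All products `x * (x ^ j) ^ g` are `p`-elements.** -/
theorem mem_rad {p : ℕ} [hpf : Fact p.Prime] {G : Type u} [Group G] [Finite G] {n : ℕ} (hM : SBelow.{u} p n)
    (hG : Nat.card G < n) {x : G} (hx : orderOf x = p) {j : ℤ} (hj : ¬ (p : ℤ) ∣ j)
    (h : ∀ g : G, PE p (x * (g * x ^ j * g⁻¹))) : x ∈ solvableRadical G := by
  have hp : p.Prime := hpf.out
  by_contra hxR
  have hRn := rad_normal G
  obtain ⟨R, hRdef⟩ : ∃ R, R = solvableRadical G := ⟨_, rfl⟩
  have hR : solvableRadical (G ⧸ solvableRadical G) = ⊥ := rad_quotient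
  obtain ⟨x', hx'⟩ : ∃ x', x' = QuotientGroup.mk' (solvableRadical G) x := ⟨_, rfl⟩
  have hx1 : x' ≠ 1 := fun h1 => hxR ((QuotientGroup.eq_one_iff x).1 (by rw [← h1, hx']; rfl))
  have hox : orderOf x' = p := by
    have h1 : orderOf x' ∣ p := by rw [hx', ← hx]; exact orderOf_map_dvd _ x
    rcases (Nat.dvd_prime hp).1 h1 with h2 | h2
    · exact absurd (orderOf_eq_one_iff.1 h2) hx1
    · exact h2
  have hxp : x' ^ p = 1 := by rw [← hox, pow_orderOf_eq_one]
  have h' : ∀ g : G ⧸ solvableRadical G, PE p (x' * (g * x' ^ j * g⁻¹)) := by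
    intro g
    obtain ⟨g, rfl⟩ := QuotientGroup.mk'_surjective (solvableRadical G) g
    have h2 := (h g).map (QuotientGroup.mk' (solvableRadical G))
    rwa [map_mul, map_mul, map_mul, map_inv, map_zpow, ← hx'] at h2
  have hcard : Nat.card (G ⧸ solvableRadical G) ≤ Nat.card G := by
    have h3 := Subgroup.card_eq_card_quotient_mul_card_subgroup (solvableRadical G)
    have h4 : 0 < Nat.card (solvableRadical G) := Nat.card_pos
    nlinarith only [h3, h4]
  obtain ⟨L, hL, l0, hl0, hne0⟩ := exists_component hR hx1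
  by_cases hm : x' ∈ normalizer (L : Set (G ⧸ solvableRadical G))
  swap
  · exact movedB hR hxp hL hm hj h'
  have hsimp := component_simple hR hL
  obtain ⟨y, hy⟩ : ∃ y : MulAut L, y = L.normalizerMonoidHom ⟨x', hm⟩ := ⟨_, rfl⟩
  have hyo : orderOf y = p := by
    have h1 : orderOf y ∣ p := by
      have h2 : orderOf y ∣ orderOf (⟨x', hm⟩ : normalizer (L : Set (G ⧸ solvableRadical G))) := by
        rw [hy]
        exact orderOf_map_dvd _ _
      rwa [Subgroup.orderOf_mk, hox] at h2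
    rcases (Nat.dvd_prime hp).1 h1 with h2 | h2
    · exfalso
      rw [orderOf_eq_one_iff] at h2
      apply hne0
      have h3 : ((y ⟨l0, hl0⟩ : L) : G ⧸ solvableRadical G) = l0 := by rw [h2]; rfl
      have h4 : ((y ⟨l0, hl0⟩ : L) : G ⧸ solvableRadical G) = x' * l0 * x'⁻¹ := by rw [hy]; rfl
      rw [h4] at h3
      calc x' * l0 = (x' * l0 * x'⁻¹) * x' := by group
        _ = l0 * x' := by rw [h3]
    · exact h2
  have hyj : orderOf (y ^ j) = p := by
    refine orderOf_eq_prime ?_ ?_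
    · rw [← zpow_natCast, ← zpow_mul, mul_comm, zpow_mul, zpow_natCast, ← hyo, pow_orderOf_eq_one, one_zpow]
    · intro h1
      apply hj
      rw [← hyo]
      exact orderOf_dvd_iff_zpow_eq_one.2 h1
  have hLc : Nat.card L < n := (Subgroup.card_le_card_group L).trans_lt (hcard.trans_lt hG)
  obtain ⟨-, g, ⟨l, rfl⟩, hg⟩ := hM L hsimp (quasisimple_not_isMulCommutative hL.2) hLc y (y ^ j) hyo hyj
  apply hg
  have h1 := h' l
  obtain ⟨N, hN⟩ : ∃ N, N = normalizer (L : Set (G ⧸ solvableRadical G)) := ⟨_, rfl⟩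
  have h2 : x' * ((l : G ⧸ solvableRadical G) * x' ^ j * (l : G ⧸ solvableRadical G)⁻¹) =
      (((⟨x', hm⟩ : normalizer (L : Set (G ⧸ solvableRadical G))) *
        (⟨l, le_normalizer l.2⟩ * ⟨x', hm⟩ ^ j * ⟨l, le_normalizer l.2⟩⁻¹) :
          normalizer (L : Set (G ⧸ solvableRadical G))) : G ⧸ solvableRadical G) := by
    simp only [_root_.Subgroup.coe_mul, _root_.SubgroupClass.coe_zpow, _root_.InvMemClass.coe_inv]
  rw [h2, PE.coe] at h1
  have h3 := h1.map L.normalizerMonoidHom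
  rw [map_mul, map_mul, map_mul, map_inv, map_zpow, ← hy] at h3
  have h4 : L.normalizerMonoidHom ⟨(l : G ⧸ solvableRadical G), le_normalizer l.2⟩ = MulAut.conj l := by
    ext y
    rfl
  rw [h4] at h3
  exact h3

/-- **A strong pair from a proper subgroup.** -/
theorem spair_of_hyper {p : ℕ} [hpf : Fact p.Prime] (hRS : RSHyp.{u} p) {S : Type u} [Group S] [Finite S]
    (hM : SBelow.{u} p (Nat.card S)) {x y : S} (hx : orderOf x = p) {C : Subgroup S} (hC : C ≠ ⊤) {v : S}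
    (hvC : ∀ c ∈ C, Commute c v) (hv : ∃ k : ℕ, v ^ p ^ k = 1) (hxC : x ∈ C) {j : ℤ} (hj : ¬ (p : ℤ) ∣ j)
    (hy : y = x ^ j * v) (hns : (⟨x, hxC⟩ : C) ∉ solvableRadical C) : SPair p (⊤ : Subgroup S) x y := by
  have hp : p.Prime := hpf.out
  have hxp : x ^ p = 1 := by rw [← hx, pow_orderOf_eq_one]
  refine SPair.mk' hp ?_ ?_
  · obtain ⟨j', n', hj'⟩ : ∃ j' n' : ℤ, j' * j + n' * p = 1 := by
      have h3 : IsCoprime j (p : ℤ) := by
        rw [isCoprime_comm]
        exact (Nat.prime_iff_prime_int.1 hp).coprime_iff_not_dvd.2 hj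
      exact h3
    refine APair.of_aligned hRS (R := C) le_top hx (fun r hr => mul_mem (mul_mem hxC hr) (inv_mem hxC))
      (s := 1) (one_mem _) j' (h := v ^ j') ((hvC x hxC).zpow_right j') (fun r hr => (hvC r hr).zpow_right j') ?_ ?_
    · rw [one_mul, inv_one, mul_one, hy, (((hvC x hxC).zpow_left j)).mul_zpow, ← zpow_mul]
      have h1 : x ^ (j * j') = x := by
        have h2 : j * j' = 1 - n' * p := by linarith only [hj']
        rw [h2, zpow_sub, zpow_one, mul_comm n', zpow_mul, zpow_natCast, hxp, one_zpow, inv_one, mul_one]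
      rw [h1]
    · intro hsol
      apply hns
      rw [mem_rad_iff]
      refine ⟨_root_.Subgroup.closure {z : C | ∃ g : C, z = g * ⟨x, hxC⟩ * g⁻¹}, ?_, ?_, subset_closure ⟨1, by simp⟩⟩
      · constructor
        intro z hz g
        induction hz using Subgroup.closure_induction with
        | mem z hz =>
          obtain ⟨h, rfl⟩ := hz
          exact Subgroup.subset_closure ⟨g * h, by group⟩
        | one => simp only [_root_.Subtype.exists, _root_.MulMemClass.mk_mul_mk, _root_.mul_one, _root_.mul_inv_cancel, _root_.OneMemClass.one_mem]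
        | mul a b _ _ ha hb =>
          have : g * (a * b) * g⁻¹ = (g * a * g⁻¹) * (g * b * g⁻¹) := by group
          rw [this]; exact mul_mem ha hb
        | inv a _ ha =>
          have : g * a⁻¹ * g⁻¹ = (g * a * g⁻¹)⁻¹ := by group
          rw [this]; exact inv_mem ha
      · have h1 : (_root_.Subgroup.closure {z : C | ∃ g : C, z = g * ⟨x, hxC⟩ * g⁻¹}).map C.subtype =
            _root_.Subgroup.closure {y : S | ∃ r ∈ C, y = r * x * r⁻¹} := by
          rw [MonoidHom.map_closure]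
          congr 1
          ext z
          constructor
          · rintro ⟨_, ⟨g, rfl⟩, rfl⟩
            exact ⟨g, g.2, rfl⟩
          · rintro ⟨r, hr, rfl⟩
            exact ⟨⟨r, hr⟩ * ⟨x, hxC⟩ * ⟨r, hr⟩⁻¹, ⟨⟨r, hr⟩, rfl⟩, rfl⟩
        have h2 := (_root_.Subgroup.closure {z : C | ∃ g : C, z = g * ⟨x, hxC⟩ * g⁻¹}).equivMapOfInjective C.subtype
          C.subtype_injective
        rw [h1] at h2
        exact Group.isSolvable_of_isSolvable_injective (f := h2.toMonoidHom) h2.injective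
  · by_contra hcon
    unfold BPair at hcon
    push Not at hcon
    apply hns
    have hcard : Nat.card C < Nat.card S :=
      lt_of_le_of_ne (Subgroup.card_le_card_group C) fun h => hC (Subgroup.eq_top_of_card_eq C h)
    refine mem_rad hM hcard (by rw [Subgroup.orderOf_mk, hx]) hj fun g => ?_
    rw [PE.pow_eq_one_iff]
    obtain ⟨k, hk⟩ := hcon g (Subgroup.mem_top _)
    obtain ⟨m, hm⟩ := hv
    refine ⟨k + m, Subtype.ext ?_⟩
    show (x * ((g : S) * x ^ j * (g : S)⁻¹)) ^ p ^ (k + m) = 1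
    have h1 : x * ((g : S) * y * (g : S)⁻¹) = x * ((g : S) * x ^ j * (g : S)⁻¹) * v := by
      have h2 := (hvC _ (inv_mem g.2)).eq
      calc x * ((g : S) * y * (g : S)⁻¹) = x * ((g : S) * x ^ j * (v * (g : S)⁻¹)) := by rw [hy]; group
        _ = x * ((g : S) * x ^ j * ((g : S)⁻¹ * v)) := by rw [h2]
        _ = _ := by group
    have h3 : Commute (x * ((g : S) * x ^ j * (g : S)⁻¹)) v :=
      hvC _ (mul_mem hxC (mul_mem (mul_mem g.2 (zpow_mem hxC j)) (inv_mem g.2)))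
    rw [h1, h3.mul_pow] at hk
    have h4 : (x * ((g : S) * x ^ j * (g : S)⁻¹)) ^ p ^ k = (v ^ p ^ k)⁻¹ := eq_inv_of_mul_eq_one_left hk
    rw [pow_add, pow_mul, h4, inv_pow, ← pow_mul, mul_comm, pow_mul, hm, one_pow, inv_one]

end Cfsg.Agent.H28.S5Hyper
end

-- part: H132/S5/Eng3
section
/-!
# Strong pairs when the Sylow `p`-subgroups are abelian (III)

* `spair_of_not_rad` : a hyperplane `V₀ ≠ 1` of `Ω₁(P)` such that `Ω₁(P)` is not contained in the solvable radical of `C_S(V₀)`;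
* `spair_of_cent` : `P` normalises no `r`-subgroup, and a hyperplane `V₀` of `Ω₁(P)` is centralised by an `r`-subgroup `T` whose
  order does not divide `p - 1`.
-/

set_option autoImplicit false

universe u

namespace Cfsg.Agent.H132.S5

open Cfsg Cfsg.Agent.H533.T5 Cfsg.Agent.H106.MB Cfsg.Agent.H106.MT Cfsg.Agent.H459.Rad Subgroup

variable {p : ℕ} [hp : Fact p.Prime] {S : Type u} [Group S] [Finite S] [IsSimpleGroup S]

/-- **Hyperplanes of `Ω₁(P)`.** -/
theorem spair_of_not_rad' (B : SBox.{u} p) (hna : ¬ IsMulCommutative S) (hlt : SBelow.{u} p (Nat.card S)) (P : Sylow p S)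
    (hP : IsMulCommutative ↥(P : Subgroup S)) {V : Subgroup S} (hV : V ≤ omega p (P : Subgroup S) (comm_of_hab hP))
    (hV1 : V ≠ ⊥) (hne : ¬ omega p (P : Subgroup S) (comm_of_hab hP) ≤ V)
    (hgen : ∀ z ∈ omega p (P : Subgroup S) (comm_of_hab hP), z ∉ V →
      ∀ w ∈ omega p (P : Subgroup S) (comm_of_hab hP), ∃ n : ℤ, w * z ^ n ∈ V)
    (hns : ∀ z ∈ omega p (P : Subgroup S) (comm_of_hab hP), z ∉ V → ∀ hz : z ∈ centralizer (V : Set S),
      (⟨z, hz⟩ : centralizer (V : Set S)) ∉ solvableRadical (centralizer (V : Set S))) {x y : S} (hx : orderOf x = p)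
    (hy : orderOf y = p) : SPair p (⊤ : Subgroup S) x y := by
  set Ω := omega p (P : Subgroup S) (comm_of_hab hP) with hΩ
  have hcΩ : ∀ a ∈ Ω, ∀ b ∈ Ω, Commute a b := fun a ha b hb => comm_of_hab hP a ha.1 b hb.1
  have hex : ∀ {z : S}, orderOf z = p → ∃ g : S, g * z * g⁻¹ ∈ Ω ∧ g * z * g⁻¹ ∉ V := by
    intro z hz
    by_contra hcon
    push Not at hcon
    apply hne
    rw [hΩ, ← closure_conj_omega B.irr hna P hP hz, closure_le]
    rintro w ⟨hw, g, rfl⟩
    exact hcon g hw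
  obtain ⟨g, hg, hgV⟩ := hex hx
  obtain ⟨h, hh, hhV⟩ := hex hy
  have ho : ∀ {z : S} (k : S), orderOf z = p → orderOf (k * z * k⁻¹) = p := by
    intro z k hz
    have := (MulAut.conj k).orderOf_eq z
    rw [MulAut.conj_apply] at this
    rw [this, hz]
  obtain ⟨x', hx'⟩ : ∃ x', x' = g * x * g⁻¹ := ⟨_, rfl⟩
  obtain ⟨y', hy'⟩ : ∃ y', y' = h * y * h⁻¹ := ⟨_, rfl⟩
  have hx'o : orderOf x' = p := by rw [hx']; exact ho g hx
  rw [← hx'] at hg hgV
  rw [← hy'] at hh hhV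
  obtain ⟨j, hj⟩ := hgen x' hg hgV y' hh
  have hC : centralizer (V : Set S) ≠ ⊤ := by
    intro hC
    apply hV1
    have h1 : V ≤ center S := by
      intro v hv
      rw [mem_center_iff]
      intro s
      have h2 : s ∈ centralizer (V : Set S) := by rw [hC]; exact mem_top s
      exact (mem_centralizer_iff.1 h2 v hv).symm
    rcases (inferInstance : (center S).Normal).eq_bot_or_eq_top with h2 | h2
    · rw [h2] at h1; exact le_bot_iff.1 h1
    · exfalso
      apply hna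
      refine ⟨⟨fun a b => ?_⟩⟩
      exact mem_center_iff.1 (h2 ▸ mem_top b : b ∈ center S) a
  have hx'C : x' ∈ centralizer (V : Set S) := by
    rw [mem_centralizer_iff]
    intro v hv
    exact (hcΩ v (hV hv) x' hg).eq
  have hjp : ¬ (p : ℤ) ∣ -j := by
    rintro ⟨m, hm⟩
    apply hhV
    have h1 : x' ^ j = 1 := by
      have h2 : j = (p : ℤ) * (-m) := by linarith only [hm]
      rw [h2, zpow_mul, zpow_natCast, ← hx'o, pow_orderOf_eq_one, one_zpow]
    rwa [h1, mul_one] at hj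
  have h1 := Cfsg.Agent.H28.S5Hyper.spair_of_hyper (p := p) B.rs (S := S) (x := x') (y := y') hlt hx'o
    (C := centralizer (V : Set S)) hC (v := y' * x' ^ j)
    (fun c hc => ((mem_centralizer_iff.1 hc) _ hj).symm)
    ⟨1, by
      have := (hV hj).2
      rwa [pow_one]⟩ hx'C hjp (by
        have h3 : Commute y' (x' ^ j) := (hcΩ y' hh x' hg).zpow_right j
        rw [h3.eq, ← mul_assoc, ← zpow_add]
        simp) (hns x' hg hgV hx'C)
  rw [hx', hy'] at h1
  exact (h1.conj_left (mem_top g)).conj_right (mem_top h)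

/-- **Centralisers of hyperplanes**, general form. -/
theorem spair_of_cent' (h2 : p ≠ 2) (B : SBox.{u} p) (hna : ¬ IsMulCommutative S) (hlt : SBelow.{u} p (Nat.card S)) (P : Sylow p S)
    (hP : IsMulCommutative ↥(P : Subgroup S)) {r : ℕ} [hr : Fact r.Prime] (hrp : r ≠ p)
    (hnr : ∀ T : Subgroup S, IsPGroup r T → (P : Subgroup S) ≤ normalizer (T : Set S) → T = ⊥)
    {V : Subgroup S} (hV : V ≤ omega p (P : Subgroup S) (comm_of_hab hP))
    (hV1 : V ≠ ⊥) (hgen : ∀ z ∈ omega p (P : Subgroup S) (comm_of_hab hP), z ∉ V →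
      ∀ w ∈ omega p (P : Subgroup S) (comm_of_hab hP), ∃ n : ℤ, w * z ^ n ∈ V)
    {T : Subgroup S} (hT : IsPGroup r T) (hTV : ∀ t ∈ T, ∀ v ∈ V, Commute t v)
    (hTc : ¬ (IsCyclic T ∧ Nat.card T ∣ p - 1))
    {x y : S} (hx : orderOf x = p) (hy : orderOf y = p) : SPair p (⊤ : Subgroup S) x y := by
  by_cases hne : omega p (P : Subgroup S) (comm_of_hab hP) ≤ V
  · exfalso
    apply hTc
    have h1 := card_eq_one_of_omega h2 P hP hrp hnr
    have h3 : T ≤ centralizer ({z : S | z ∈ P ∧ z ^ p = 1}) := by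
      intro t ht
      rw [mem_centralizer_iff]
      intro z hz
      exact (hTV t ht z (hne hz)).symm.eq
    have h4 : Nat.card T = 1 := by
      obtain ⟨k, hk⟩ := IsPGroup.iff_card.1 hT
      rcases Nat.eq_zero_or_pos k with h5 | h5
      · rw [hk, h5, pow_zero]
      · exfalso
        apply h1
        have h6 := card_dvd_of_le h3
        rw [hk] at h6
        exact (dvd_pow_self r h5.ne').trans h6
    rw [h4]
    refine ⟨?_, one_dvd _⟩
    have : Subsingleton T := (Nat.card_eq_one_iff_unique.1 h4).1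
    exact isCyclic_of_subsingleton
  refine spair_of_not_rad' B hna hlt P hP hV hV1 hne hgen ?_ hx hy
  intro z hz hzV hzC hzR
  apply hTc
  set C : Subgroup S := centralizer (V : Set S) with hC
  have hPC : (P : Subgroup S) ≤ C := by
    intro a ha
    rw [hC, mem_centralizer_iff]
    intro v hv
    exact (comm_of_hab hP v (hV hv).1 a ha).eq
  have hTC : T ≤ C := by
    intro t ht
    rw [hC, mem_centralizer_iff]
    intro v hv
    exact (hTV t ht v hv).symm.eq
  let PC : Sylow p C := P.subtype hPC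
  have hPC' : (PC : Subgroup C) = (P : Subgroup S).subgroupOf C := rfl
  have hPCc : IsMulCommutative ↥(PC : Subgroup C) :=
    ⟨⟨fun a b => Subtype.ext (Subtype.ext (comm_of_hab hP _ a.2 _ b.2).eq)⟩⟩
  have hTc' : Nat.card (T.subgroupOf C) = Nat.card T :=
    Nat.card_congr (subgroupOfEquivOfLe hTC).toEquiv
  have hRn : (solvableRadical C).Normal := rad_normal C
  suffices hgoal : IsCyclic (T.subgroupOf C) ∧ Nat.card (T.subgroupOf C) ∣ p - 1 by
    rw [hTc'] at hgoal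
    refine ⟨?_, hgoal.2⟩
    have := hgoal.1
    exact isCyclic_of_injective ((subgroupOfEquivOfLe hTC).symm.toMonoidHom) (subgroupOfEquivOfLe hTC).symm.injective
  refine card_dvd_sub_one (G := C) h2 PC hPCc hrp ?_ (R := solvableRadical C) (rad_solvable C)
    (V := V.subgroupOf C) ?_ ?_ (x := ⟨z, hzC⟩) hz.1 hzR (Subtype.ext hz.2) ?_ ?_ hT.comap_subtype
  · intro T1 hT1 hPT1
    have h1 := hnr (T1.map C.subtype) (hT1.map _) (by
      intro a ha
      have h3 := hPT1 (show (⟨a, hPC ha⟩ : C) ∈ PC from ha)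
      rw [mem_normalizer_iff] at h3 ⊢
      intro w
      constructor
      · rintro ⟨t, ht, rfl⟩
        exact ⟨_, (h3 t).1 ht, rfl⟩
      · rintro ⟨t, ht, ht'⟩
        have h4 : w = (((⟨a, hPC ha⟩ : C)⁻¹ * t * ⟨a, hPC ha⟩ : C) : S) := by
          have h5 : (t : S) = a * w * a⁻¹ := ht'
          simp only [Subgroup.coe_mul, InvMemClass.coe_inv]
          rw [h5]; group
        rw [h4]
        refine ⟨(⟨a, hPC ha⟩ : C)⁻¹ * t * ⟨a, hPC ha⟩, ?_, rfl⟩
        change (⟨a, hPC ha⟩ : C)⁻¹ * t * ⟨a, hPC ha⟩ ∈ T1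
        rw [h3]
        have h5 : (⟨a, hPC ha⟩ : C) * ((⟨a, hPC ha⟩ : C)⁻¹ * t * ⟨a, hPC ha⟩) * (⟨a, hPC ha⟩ : C)⁻¹ = t := by group
        rwa [h5])
    exact (map_eq_bot_iff_of_injective _ C.subtype_injective).1 h1
  · intro v hv
    rw [mem_center_iff]
    intro c
    exact Subtype.ext ((mem_centralizer_iff.1 c.2) _ hv).symm
  · intro v hv
    exact (hV hv).1
  · exact hzV
  · rintro w hw hwp
    have hwΩ : (w : S) ∈ omega p (P : Subgroup S) (comm_of_hab hP) :=
      ⟨hw, by simpa only [_root_.SubmonoidClass.coe_pow, _root_.OneMemClass.coe_one] using congrArg Subtype.val hwp⟩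
    exact hgen z hz hzV w hwΩ

end Cfsg.Agent.H132.S5
end

-- part: H790/Str/Use
section
/-!
# Strong pairs from the centraliser data (helper790, S2274)
-/

set_option autoImplicit false

universe u

namespace Cfsg.Agent.H790.Str

open Subgroup Cfsg.Agent.H132.S5 Cfsg.Agent.H533.T5

/-- transport along an isomorphism -/
theorem CD.congr {p r : ℕ} {S Y : Type*} [Group S] [Group Y] (e : S ≃* Y) {P H V : Subgroup Y} (D : CD p r P H V) :
    CD p r (P.comap e.toMonoidHom) (H.comap e.toMonoidHom) (V.comap e.toMonoidHom) where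
  nr U hU hPU := by
    have h1 := D.nr (U.map e.toMonoidHom) (hU.map _) (by
      intro y hy
      obtain ⟨x, rfl⟩ := e.surjective y
      have h2 : x ∈ normalizer (U : Set S) := hPU hy
      rw [mem_normalizer_iff] at h2 ⊢
      intro z
      obtain ⟨w, rfl⟩ := e.surjective z
      have h3 : ∀ v : S, e v ∈ U.map e.toMonoidHom ↔ v ∈ U := fun v =>
        ⟨fun ⟨v', hv', he⟩ => by rwa [← e.injective he], fun hv => ⟨v, hv, rfl⟩⟩
      rw [h3, ← map_mul, ← map_inv, ← map_mul, h3]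
      exact h2 w)
    rwa [map_eq_bot_iff_of_injective _ e.injective] at h1
  le := comap_mono D.le
  ne h := D.ne (by
    rw [← Subgroup.map_comap_eq_self_of_surjective (f := e.toMonoidHom) e.surjective H, h, Subgroup.map_bot])
  om z hz w hw hzp hwp hzH := by
    obtain ⟨n, hn⟩ := D.om (e z) hz (e w) hw (by rw [← map_pow, hzp, map_one]) (by rw [← map_pow, hwp, map_one]) hzH
    refine ⟨n, ?_⟩
    rw [mem_comap]
    show e (z ^ n * w) ∈ H
    rwa [map_mul, map_pow]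
  pg := D.pg.comap_of_injective e.toMonoidHom e.injective
  cm x hx y hy := by
    have h1 := D.cm (e x) hx (e y) hy
    apply e.injective
    rw [map_mul, map_mul]
    exact h1
  nd := by
    rintro ⟨h1, h2⟩
    let f : ↥(V.comap e.toMonoidHom) ≃* ↥V :=
      { toFun := fun x => ⟨e x, x.2⟩
        invFun := fun y => ⟨e.symm y, by
          show e (e.symm y) ∈ V
          rw [e.apply_symm_apply]; exact y.2⟩
        left_inv := fun x => Subtype.ext (e.symm_apply_apply _)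
        right_inv := fun y => Subtype.ext (e.apply_symm_apply _)
        map_mul' := fun x y => Subtype.ext (map_mul e _ _) }
    exact D.nd ⟨(MulEquiv.isCyclic f).1 h1, by rwa [← Nat.card_congr f.toEquiv]⟩

/-- **The engine.** -/
theorem spair_of_cd {p : ℕ} [Fact p.Prime] (h2 : p ≠ 2) (B : SBox.{u} p) {S : Type u} [Group S] [Finite S]
    [IsSimpleGroup S] (hna : ¬ IsMulCommutative S) (hlt : SBelow.{u} p (Nat.card S)) (P : Sylow p S)
    (hP : IsMulCommutative ↥(P : Subgroup S)) {r : ℕ} [hr : Fact r.Prime] (hrp : r ≠ p) {H V : Subgroup S}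
    (D : CD p r (P : Subgroup S) H V) {x y : S} (hx : orderOf x = p) (hy : orderOf y = p) :
    SPair p (⊤ : Subgroup S) x y := by
  set Ω := omega p (P : Subgroup S) (comm_of_hab hP) with hΩ
  have hp : p.Prime := Fact.out
  refine spair_of_cent' h2 B hna hlt P hP hrp D.nr (V := Ω ⊓ H) inf_le_left ?_ ?_ D.pg ?_ D.nd hx hy
  · -- an element of order `p` of `H`
    intro h0
    have hHp : IsPGroup p H := P.isPGroup'.to_le D.le
    have h1 : p ∣ Nat.card H := by
      obtain ⟨k, hk⟩ := (IsPGroup.iff_card (p := p)).1 hHp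
      rcases Nat.eq_zero_or_pos k with rfl | hk0
      · rw [pow_zero] at hk
        exact absurd (Subgroup.card_eq_one.1 hk) D.ne
      · rw [hk]; exact dvd_pow_self p hk0.ne'
    obtain ⟨z, hz⟩ := exists_prime_orderOf_dvd_card' p h1
    have hz1 : orderOf (z : S) = p := by rw [← hz]; exact Subgroup.orderOf_coe z
    have h3 : (z : S) ∈ Ω ⊓ H := ⟨⟨D.le z.2, by rw [← hz1, pow_orderOf_eq_one]⟩, z.2⟩
    rw [h0, mem_bot] at h3
    rw [h3, orderOf_one] at hz1
    exact hp.one_lt.ne hz1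
  · intro z hz hzV w hw
    have hzH : z ∉ H := fun h => hzV ⟨hz, h⟩
    obtain ⟨n, hn⟩ := D.om z hz.1 w hw.1 hz.2 hw.2 hzH
    refine ⟨n, ?_⟩
    have hc : Commute (z ^ n) w := (comm_of_hab hP z hz.1 w hw.1).pow_left n
    rw [zpow_natCast, ← hc.eq]
    exact ⟨mul_mem (pow_mem hz n) hw, hn⟩
  · intro t ht v hv
    exact D.cm t ht v hv.2

/-- the engine along an isomorphism -/
theorem spair_of_equiv {p : ℕ} [Fact p.Prime] (h2 : p ≠ 2) (B : SBox.{u} p) {S : Type u} [Group S] [Finite S]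
    [IsSimpleGroup S] (hna : ¬ IsMulCommutative S) (hlt : SBelow.{u} p (Nat.card S))
    (hab : ∀ P : Sylow p S, IsMulCommutative ↥(P : Subgroup S)) {Y : Type*} [Group Y] (e : S ≃* Y) {r : ℕ}
    [hr : Fact r.Prime] (hrp : r ≠ p) (hcd : ∃ (P : Sylow p Y) (H V : Subgroup Y), CD p r (P : Subgroup Y) H V)
    {x y : S} (hx : orderOf x = p) (hy : orderOf y = p) : SPair p (⊤ : Subgroup S) x y := by
  obtain ⟨P, H, V, D⟩ := hcd
  let P' : Sylow p S := P.comapOfInjective e.toMonoidHom e.injective (by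
    rw [MonoidHom.range_eq_top.2 e.surjective]; exact le_top)
  exact spair_of_cd h2 B hna hlt P' (hab P') hrp (D.congr e) hx hy

end Cfsg.Agent.H790.Str
end

-- part: H790/Str/Num
section
/-!
# Strong pairs, exceptional groups with abelian Sylow subgroups: numbers (helper790, S2274)
-/

set_option autoImplicit false

namespace Cfsg.Agent.H790.Str

open Cfsg.Agent.H172.SI

variable {p : ℕ} [hp : Fact p.Prime]

theorem wt_zero {e : ℕ} : ∀ {ds : List ℕ}, (∀ k ∈ ds, e ∣ k → ¬ p ∣ k) → wt p e ds = 0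
  | [], _ => rfl
  | k :: ds, h => by
    rw [wt, wt_zero (ds := ds) fun k hk => h k (List.mem_cons_of_mem _ hk), add_zero]
    split_ifs with h1
    · exact padicValNat.eq_zero_of_not_dvd (h k List.mem_cons_self h1)
    · rfl

/-- the `p`-part of `∏ (q ^ d - 1)` -/
theorem padic_pr (h2 : Odd p) {q e : ℕ} (hq : ¬ p ∣ q) (hq2 : 2 ≤ q) (he : orderOf (q : ZMod p) = e) {ds : List ℕ}
    (h0 : ∀ k ∈ ds, 0 < k) (hw : ∀ k ∈ ds, e ∣ k → ¬ p ∣ k) :
    padicValNat p (H35.PoinNum.pr q ds) = padicValNat p (q ^ e - 1) * nm e ds := by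
  have h1 := v_pr h2 (j := 0) hq hq2 ds h0
  rw [pow_zero, pow_one, add_zero, he, wt_zero hw, add_zero] at h1
  exact h1

theorem pr_ne_zero' {q : ℕ} (hq : 2 ≤ q) {ds : List ℕ} (h : ∀ k ∈ ds, 0 < k) : H35.PoinNum.pr q ds ≠ 0 :=
  pr_ne_zero hq h

/-- **The `p`-part of an index.** -/
theorem padic_idx (h2 : Odd p) {q e : ℕ} (hq : ¬ p ∣ q) (hq2 : 2 ≤ q) (he : orderOf (q : ZMod p) = e)
    {dS dJ : List ℕ} (hS0 : ∀ k ∈ dS, 0 < k) (hSw : ∀ k ∈ dS, e ∣ k → ¬ p ∣ k) (hJ0 : ∀ k ∈ dJ, 0 < k)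
    (hJw : ∀ k ∈ dJ, e ∣ k → ¬ p ∣ k) {idx c : ℕ} (hI : idx * H35.PoinNum.pr q dJ = H35.PoinNum.pr q dS)
    (hc : nm e dS = nm e dJ + c) : padicValNat p idx = padicValNat p (q ^ e - 1) * c := by
  have h3 := congrArg (padicValNat p) hI
  have h4 : idx ≠ 0 := by
    rintro rfl
    rw [zero_mul] at hI
    exact pr_ne_zero' hq2 hS0 hI.symm
  rw [padicValNat.mul h4 (pr_ne_zero' hq2 hJ0), padic_pr h2 hq hq2 he hS0 hSw, padic_pr h2 hq hq2 he hJ0 hJw, hc] at h3
  rw [mul_add] at h3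
  omega

theorem one_le_padic {q e : ℕ} (hq2 : 2 ≤ q) (he : orderOf (q : ZMod p) = e) (he0 : e ≠ 0) :
    1 ≤ padicValNat p (q ^ e - 1) := by
  have h1 : p ∣ q ^ e - 1 := by
    rw [dvd_iff_order (by omega), he]
  have h2 : q ^ e - 1 ≠ 0 := by
    have : 1 < q ^ e := Nat.one_lt_pow he0 (by omega)
    omega
  exact one_le_padicValNat_of_dvd h2 h1

/-- the index is divisible by `p` -/
theorem dvd_idx' (h2 : Odd p) {q e : ℕ} (hq : ¬ p ∣ q) (hq2 : 2 ≤ q) (he : orderOf (q : ZMod p) = e) (he0 : e ≠ 0)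
    {dS dJ : List ℕ} (hS0 : ∀ k ∈ dS, 0 < k) (hSw : ∀ k ∈ dS, e ∣ k → ¬ p ∣ k) (hJ0 : ∀ k ∈ dJ, 0 < k)
    (hJw : ∀ k ∈ dJ, e ∣ k → ¬ p ∣ k) {idx : ℕ} (hI : idx * H35.PoinNum.pr q dJ = H35.PoinNum.pr q dS)
    (hc : nm e dJ < nm e dS) : p ∣ idx := by
  obtain ⟨c, hc⟩ := Nat.exists_eq_add_of_lt hc
  have h3 := padic_idx h2 hq hq2 he hS0 hSw hJ0 hJw hI (c := c + 1) (by omega)
  have h4 := one_le_padic (p := p) hq2 he he0
  by_contra h5
  rw [padicValNat.eq_zero_of_not_dvd h5] at h3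
  have : 0 < padicValNat p (q ^ e - 1) * (c + 1) := Nat.mul_pos h4 (Nat.succ_pos c)
  omega

/-- `q ^ N ≡ -1` for `q` of order `6` and `N ≡ 3` modulo `6` -/
theorem six_neg {q N : ℕ} (he : orderOf (q : ZMod p) = 6) (hN : N % 6 = 3) : p ∣ q ^ N + 1 := by
  have h6 : (q : ZMod p) ^ 6 = 1 := by rw [← he]; exact pow_orderOf_eq_one _
  have h3 : (q : ZMod p) ^ 3 ≠ 1 := by
    intro h
    have := Nat.le_of_dvd (by norm_num) (orderOf_dvd_of_pow_eq_one h)
    omega
  have h4 : (q : ZMod p) ^ 3 = -1 := by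
    have h5 : ((q : ZMod p) ^ 3 - 1) * ((q : ZMod p) ^ 3 + 1) = 0 := by linear_combination h6
    rcases mul_eq_zero.1 h5 with h | h
    · exact absurd (sub_eq_zero.1 h) h3
    · exact eq_neg_of_add_eq_zero_left h
  rw [← CharP.cast_eq_zero_iff (ZMod p) p]
  push_cast
  have h7 : N = 6 * (N / 6) + 3 := by omega
  rw [h7, pow_add, pow_mul, h6, one_pow, one_mul, h4]
  ring

end Cfsg.Agent.H790.Str
end

-- part: H790/Str/Chev
section
/-!
# Strong pairs: the Chevalley groups (helper790, S2274)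

* `chev_six` : `e = 6`;
* `chev_two` : two commuting root groups centralising a Levi subgroup.
-/

set_option autoImplicit false
set_option linter.unusedSectionVars false

namespace Cfsg.Agent.H790.Str

open CoxeterSystem Cfsg.Agent.ChevalleyStructure.CoxeterGeom Cfsg.Agent.Tits.Roots Cfsg.Agent.Tits.Core
  Cfsg.Agent.Tits.Exchange Cfsg.Agent.Nodes.Reps Cfsg.Agent.Nodes.BNOf Cfsg.Agent.Nodes.StabComb
  Cfsg.Agent.Nodes.Bruhat Cfsg.Agent.Nodes.OppDec Cfsg.Agent.Nodes.LeviDec Cfsg.Agent.Nodes.NormalForm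
  Cfsg.Agent.Nodes.CardSup
open Cfsg.Lie Cfsg.Agent.ChevalleyStructure Cfsg.Agent.ChevalleyStructure.Elts
  Cfsg.Agent.ChevalleyStructure.RootVec Cfsg.Agent.ChevalleyStructure.RootVecTab
  Cfsg.Agent.ChevalleyStructure.NPerm Cfsg.Agent.ChevalleyStructure.CoxeterGeomTypes
open Cfsg.Agent.Nodes Cfsg.Agent.Nodes.RGDChev
open Cfsg.Agent.H35.ExcIdx
open Cfsg.Agent.H172.SI (nm)
open Cfsg.Agent.H35.PoinNum (pr)

variable {D : ChevalleyDatum} {l : ℕ} {M : CoxeterMatrix (Fin l)} (hp : IsType D l M) (K : Type) [Field K]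

/-- the parabolic subgroups -/
abbrev PC (J : Set (Fin l)) : Subgroup ↥(D.group K) :=
  PJ M.toCoxeterSystem hp.isCartan (TT D K) (XX D l K) J

/-- the indices of the maximal parabolic subgroups, numerical conditions -/
structure Idx (K : Type) [Field K] (q p e : ℕ) (dS : List ℕ) (dJ : Fin l → List ℕ) : Prop where
  idx : ∀ i, (PC hp K {j | j ≠ i}).index * pr q (dJ i) = pr q dS
  posS : ∀ k ∈ dS, 0 < k
  posJ : ∀ i, ∀ k ∈ dJ i, 0 < k
  wS : ∀ k ∈ dS, e ∣ k → ¬ p ∣ k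
  wJ : ∀ i, ∀ k ∈ dJ i, e ∣ k → ¬ p ∣ k
  lt : ∀ i, nm e (dJ i) < nm e dS

/-- the order of the group, numerical conditions -/
def CardOK (D : ChevalleyDatum) (K : Type) [Field K] (q p e : ℕ) (dS : List ℕ) : Prop :=
  padicValNat p (Nat.card ↥(D.group K)) = padicValNat p (q ^ e - 1) * nm e dS

/-- the Sylow subgroups are homocyclic of exponent at least `p ^ a` -/
def Hom (p a : ℕ) (Y : Type*) [Group Y] : Prop :=
  ∀ P : Sylow p Y, ∃ k t : ℕ, a ≤ t ∧ Nonempty (↥(P : Subgroup Y) ≃* (Fin k → Multiplicative (ZMod (p ^ t))))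

variable {K} [Fintype K] {r f : ℕ} (hr : r.Prime) (hf : f ≠ 0) (hK : Fintype.card K = r ^ f) [CharP K r]
  {p : ℕ} [hpp : Fact p.Prime] (h2 : Odd p) (hpq : ¬ p ∣ r ^ f) {e : ℕ} (he : orderOf ((r ^ f : ℕ) : ZMod p) = e)
  (he1 : 1 < e)

include hp in
theorem bt [Finite M.Group] (r : ℕ) [Fact r.Prime] [CharP K r] :
    KFacts.RgdCharP.BT M.toCoxeterSystem hp.isCartan r (TT D K) (XX D l K) :=
  fun K' hK hK1 => KFacts.RgdFilt.borel_tits_of_filt (KFacts.RgdFiltChev.filt hp M.toCoxeterSystem r)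
    (G1_eq_top hp M.toCoxeterSystem) hK hK1

theorem gt_of {a m : ℕ} (ha : 1 ≤ a) (hm : 2 ≤ m) : a < a * m := by nlinarith

include hr hf hK h2 hpq he in
/-- **`e = 6`.** -/
theorem chev_six (he6 : e = 6) {dS : List ℕ} {dJ : Fin l → List ℕ} (hI : Idx hp K (r ^ f) p e dS dJ)
    (hC : CardOK D K (r ^ f) p e dS) (hH : Hom p (padicValNat p ((r ^ f) ^ e - 1)) ↥(D.group K)) {i0 : Fin l}
    (hi0 : nm e dS = nm e (dJ i0) + 1) (hnum : H62.PPChev.num D i0 % 6 = 3) (hn2 : 2 ≤ nm e dS) :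
    ∃ (P : Sylow p ↥(D.group K)) (H V : Subgroup ↥(D.group K)), (CD p r (P : Subgroup ↥(D.group K)) H V :) := by
  have hfr : Fact r.Prime := ⟨hr⟩
  have hfin : Finite M.Group := finite_W hp M.toCoxeterSystem
  have hq2 : 2 ≤ r ^ f := two_le hr hf
  have he0 : e ≠ 0 := by omega
  have ha := one_le_padic (p := p) hq2 he he0
  have hset : ({j | j ≠ i0} : Set (Fin l)) = {i0}ᶜ := by
    ext j; simp
  refine cd_six (rgd (K := K) hp M.toCoxeterSystem r) (bt hp r) (fun i => ?_) hH ?_ (i := i0) ?_ (q := r ^ f)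
    (he.trans he6) hpq ?_
  · exact dvd_idx' h2 hpq hq2 he he0 hI.posS hI.wS (hI.posJ i) (hI.wJ i) (hI.idx i) (hI.lt i)
  · rw [hC]
    exact gt_of ha hn2
  · have h3 := padic_idx h2 hpq hq2 he hI.posS hI.wS (hI.posJ i0) (hI.wJ i0) (hI.idx i0) hi0
    rw [mul_one] at h3
    exact h3.le
  · have h3 := Cfsg.Agent.H585.SuUntw.card_VJ hp (K := K) M.toCoxeterSystem r i0
    rw [hset]
    have h4 : Nat.card ↥(VJ M.toCoxeterSystem hp.isCartan (XX D l K) {i0}ᶜ) = (r ^ f) ^ H62.PPChev.num D i0 := by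
      rw [← hK]; exact h3
    rw [h4]
    exact six_neg (he.trans he6) hnum

/-- the nodes `J` are strongly orthogonal to the root `s` -/
def orth1 (D : ChevalleyDatum) {l : ℕ} (J : List (Fin l)) (s : ℕ) : Bool :=
  decide (s < D.nroots) && J.all fun j => D.reflectRoot j s == s && s != D.simple j && s != D.neg (D.simple j) &&
    (D.commTerms (D.simple j) s).isEmpty

/-- two commuting root groups -/
def orth2 (D : ChevalleyDatum) (s s' : ℕ) : Bool := s' != s && s' != D.neg s && (D.commTerms s s').isEmpty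

include hr hf hK h2 hpq he he1 in
/-- **Two commuting root groups centralising a Levi subgroup.** -/
theorem chev_two {dS : List ℕ} {dJ : Fin l → List ℕ} (hI : Idx hp K (r ^ f) p e dS dJ)
    (hC : CardOK D K (r ^ f) p e dS) (hH : Hom p (padicValNat p ((r ^ f) ^ e - 1)) ↥(D.group K))
    (hn2 : 2 ≤ nm e dS) {J : List (Fin l)} {d0 : List ℕ} (hJ : (PC hp K {j | j ∈ J}).index * pr (r ^ f) d0 = pr (r ^ f) dS)
    (h00 : ∀ k ∈ d0, 0 < k) (hw0 : ∀ k ∈ d0, e ∣ k → ¬ p ∣ k) (hn0 : nm e dS = nm e d0 + 1) {s s' : ℕ}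
    (hs : orth1 D J s = true) (hs' : orth1 D J s' = true) (hss : orth2 D s s' = true) :
    ∃ (P : Sylow p ↥(D.group K)) (H V : Subgroup ↥(D.group K)), (CD p r (P : Subgroup ↥(D.group K)) H V :) := by
  have hfr : Fact r.Prime := ⟨hr⟩
  have hfin : Finite M.Group := finite_W hp M.toCoxeterSystem
  have hq2 : 2 ≤ r ^ f := two_le hr hf
  have he0 : e ≠ 0 := by omega
  have ha := one_le_padic (p := p) hq2 he he0
  have hR := rgd (K := K) hp M.toCoxeterSystem r
  unfold orth1 at hs hs'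
  unfold orth2 at hss
  simp only [Bool.and_eq_true, decide_eq_true_eq, List.all_eq_true, beq_iff_eq, bne_iff_ne, List.isEmpty_iff] at hs hs' hss
  obtain ⟨hsr, hs⟩ := hs
  obtain ⟨hsr', hs'⟩ := hs'
  obtain ⟨⟨n1, n2⟩, n3⟩ := hss
  have hroot : ∀ {s : ℕ}, s < D.nroots → IsRoot M.toCoxeterSystem hp.isCartan (vec D l s) := fun h =>
    isRoot_vec hp M.toCoxeterSystem h
  have hmem : ∀ {s : ℕ}, s < D.nroots → ∀ v : ↥(D.group K), v ∈ XX D l K (vec D l s) →
      ∃ c, (v : GL D.Idx K) = xG hp.inList s c := by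
    intro s hs v hv
    have hv1 : (v : GL D.Idx K) ∈ XV D l K (vec D l s) := Subgroup.mem_subgroupOf.1 hv
    rwa [XV_vec hp K hs, mem_rootSubgroup_iff hp.inList] at hv1
  have hcomm : ∀ {s t : ℕ}, s < D.nroots → t < D.nroots → t ≠ s → t ≠ D.neg s → D.commTerms s t = [] →
      ∀ u ∈ XX D l K (vec D l s), ∀ v ∈ XX D l K (vec D l t), u * v = v * u := by
    intro s t hs ht h1 h2 h3 u hu v hv
    obtain ⟨c, hc⟩ := hmem hs u hu
    obtain ⟨d, hd⟩ := hmem ht v hv
    apply Subtype.ext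
    rw [Subgroup.coe_mul, Subgroup.coe_mul, hc, hd]
    exact (Cfsg.Agent.OddHalf.LongSL.Chev.commute_xG hp K hs ht h1 h2 h3 c d).symm
  have hne : ∀ {s : ℕ}, s < D.nroots → XX D l K (vec D l s) ≠ ⊥ := by
    intro s hs h0
    have h1 := card_XX hp K M.toCoxeterSystem (hroot hs)
    rw [h0, Subgroup.card_bot, Nat.card_eq_fintype_card, hK] at h1
    omega
  have hsj : ∀ j : Fin l, D.simple j < D.nroots := fun j => _root_.Cfsg.Agent.ChevalleyStructure.NPerm.simple_lt hp.inList (lt_rank hp j)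
  have hT : ¬ p ∣ Nat.card ↥(TT D K) := by
    refine Cfsg.Agent.H81.PJChev.not_dvd_T hp.inList (fun t ht => Subgroup.mem_subgroupOf.1 ht) hpp.out ?_
    rw [hK]
    have h3 := (Cfsg.Agent.H172.SI.dvd_iff_order (p := p) (q := r ^ f) (k := 1) (by omega)).not.2 (by
      rw [he, Nat.dvd_one]; omega)
    rwa [pow_one] at h3
  have hpr : p ≠ r := by
    rintro rfl
    exact hpq (dvd_pow_self p hf)
  refine cd_two hR (bt hp r) (fun i => ?_) hH ?_ hpr hT (J := {j | j ∈ J}) ?_ (hroot hsr) (hroot hsr')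
    (fun j hj => ?_) (fun j hj => ?_) (fun j hj => ?_) (fun j hj => ?_) (hcomm hsr hsr' n1 n2 n3) ?_ (hne hsr) (hne hsr')
  · exact dvd_idx' h2 hpq hq2 he he0 hI.posS hI.wS (hI.posJ i) (hI.wJ i) (hI.idx i) (hI.lt i)
  · rw [hC]
    exact gt_of ha hn2
  · have h3 := padic_idx h2 hpq hq2 he hI.posS hI.wS h00 hw0 hJ hn0
    rw [mul_one] at h3
    exact h3.le
  · rw [rep_vec hp M.toCoxeterSystem j hsr, (hs j hj).1.1.1]
  · obtain ⟨⟨⟨e1, e2⟩, e3⟩, e4⟩ := hs j hj
    rw [← vec_simple hp j]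
    exact hcomm (hsj j) hsr e2 e3 e4
  · rw [rep_vec hp M.toCoxeterSystem j hsr', (hs' j hj).1.1.1]
  · obtain ⟨⟨⟨e1, e2⟩, e3⟩, e4⟩ := hs' j hj
    rw [← vec_simple hp j]
    exact hcomm (hsj j) hsr' e2 e3 e4
  · refine X_inf_X hR (hroot hsr) (hroot hsr') fun h => n1 ?_
    exact (vec_inj hp hsr hsr' h).symm

end Cfsg.Agent.H790.Str
end

-- part: H790/Str/Ord
section
/-!
# Torus elements of order `ℓ ^ a` (helper790, S2274; after helper28's `T5Tor`)

* `order_of_eig` : an element of order `ℓ ^ a` in `S`, `ℓ ^ a ∣ f(q)`;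
* `order_E7_six`, `order_E8_six` : elements of order `7 ^ a`, `a` the `7`-adic valuation of `q ^ 6 - 1`, `q` of order `6`.
-/

set_option autoImplicit false
set_option linter.unusedSectionVars false

namespace Cfsg.Agent.H790.Str

open CoxeterSystem Cfsg Cfsg.Lie Cfsg.Lie.ChevalleyDatum
open Cfsg.Agent.ChevalleyStructure Cfsg.Agent.ChevalleyStructure.Elts Cfsg.Agent.ChevalleyStructure.CoxeterGeom
  Cfsg.Agent.ChevalleyStructure.CoxeterGeomTypes Cfsg.Agent.ChevalleyStructure.NPerm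
open Cfsg.Agent.Tits.Roots Cfsg.Agent.Tits.Core Cfsg.Agent.Nodes Cfsg.Agent.Nodes.Reps Cfsg.Agent.Nodes.BNOf
  Cfsg.Agent.Nodes.RGDChev Cfsg.Agent.Nodes.Bruhat Cfsg.Agent.Nodes.SubComb Cfsg.Agent.Nodes.Coroot
open Cfsg.Agent.KFacts.RgdField Cfsg.Agent.KFacts.RgdChevCoord Cfsg.Agent.BpExc.TorCent Cfsg.Agent.BpExc.TorChev
open Cfsg.Agent.GpExc.Field Cfsg.Agent.BpExc.Tow Cfsg.Agent.BpExc.TowChev Cfsg.Agent.BpExc.Fr
  Cfsg.Agent.BpExc.LangFr Cfsg.Agent.LangThm Cfsg.Agent.BpExc Cfsg.Agent.H129.TorusChar Cfsg.Agent.H129.TorusCent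
  Cfsg.Agent.H129.TorusTw Cfsg.Agent.H129.TorusMain Cfsg.Agent.H493.PGTorus Cfsg.Agent.H493.PGTwist
open Cfsg.Agent.BpExc.FamExt Cfsg.Agent.BpExc.FamUntw
  Cfsg.Agent.BpExc.FamInst Cfsg.Agent.BpExc.FamField
open Cfsg.Agent.H129.WData Cfsg.Agent.H378.CycTab
open Cfsg.Agent.H28.T5Tor Cfsg.Agent.H28.T5TorRows

universe u

section Main

variable {D : ChevalleyDatum} {l : ℕ} {M : CoxeterMatrix (Fin l)} (hp : IsType D l M) {k : Type u} [Field k]
  [IsAlgClosed k] {W : Type*} [Group W] [Finite W] (cs : CoxeterSystem M W) {p e : ℕ} [Fact p.Prime] [CharP k p]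
  {σ : MulAut ↥(D.group k)} {g : (Fin l → ℤ) ≃+ (Fin l → ℤ)}
  {G0 : Type*} [Group G0] {e0 : G0 →* ↥(D.group k)}

/-- a torus element of order `m` from an eigenfunctional modulo `m` -/
theorem exists_tor (hσ : IsFrob p e σ) (F : Fr cs hp.isCartan (TT D k) (XX D l k) σ g) {d' : ℕ}
    {B' : Fin l → Fin l → ℤ} (hB : _root_.Cfsg.Agent.H129.TorusChar.InvC D l d' B') (hd' : d' ≠ 0) {L : (Fin l → ℤ) →+ ℤ} {m : ℕ}
    (hm0 : m ≠ 0) (hmp : ¬ p ∣ m) (hL : ∀ x, (m : ℤ) ∣ L (g x) - ((p ^ e : ℕ) : ℤ) * L x)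
    {x₀ : Fin l → ℤ} (hx₀ : L x₀ = 1) :
    ∃ t : ↥(D.group k), t ∈ TT D k ∧ σ t = t ∧ orderOf t = m := by
  have hrk : (m : k) ≠ 0 := by
    rw [Ne, CharP.cast_eq_zero_iff k p]
    exact hmp
  have : NeZero (m : k) := ⟨hrk⟩
  obtain ⟨u, hu⟩ := HasEnoughRootsOfUnity.exists_primitiveRoot k m
  have hu0 : u ≠ 0 := hu.ne_zero hm0
  have hone : ∀ z : ℤ, u ^ z = 1 ↔ (m : ℤ) ∣ z := fun z => hu.zpow_eq_one_iff_dvd z
  obtain ⟨t, ht, hcX⟩ : ∃ t ∈ TT D k, ∀ x, cX hp t x = u ^ (L x) := by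
    have hMC : IsMC (fun x : Fin l → ℤ => u ^ (L x)) :=
      ⟨by
        show u ^ _ = 1
        rw [map_zero, zpow_zero],
      fun x y => by
        show u ^ _ = u ^ _ * u ^ _
        rw [map_add, zpow_add₀ hu0]⟩
    exact exists_cX hp hB hd' hMC fun i => IsAlgClosed.exists_pow_nat_eq _ (Nat.pos_of_ne_zero hd')
  refine ⟨t, ht, ?_, ?_⟩
  · have hσt : σ t ∈ TT D k := (F.tor _).2 ht
    refine cX_inj hp hσt ht fun i => ?_
    have h1 : sr i = g (g.symm (sr i)) := (g.apply_symm_apply _).symm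
    rw [h1, cX_sigma hp cs hσ F ht, hcX, hcX, ← zpow_natCast, ← zpow_mul]
    obtain ⟨N, hN⟩ := hL (g.symm (sr i))
    rw [mul_comm] at hN
    have h2 : L (g (g.symm (sr i))) = L (g.symm (sr i)) * ((p ^ e : ℕ) : ℤ) + m * N := by
      linear_combination hN
    rw [h2, zpow_add₀ hu0, (hone ((m : ℤ) * N)).2 (dvd_mul_right _ _), mul_one]
  · refine Nat.dvd_antisymm (orderOf_dvd_of_pow_eq_one ?_) ?_
    · refine cX_inj hp (pow_mem ht m) (one_mem _) fun i => ?_
      rw [cX_pow hp ht, cX_one, hcX, ← zpow_natCast, ← zpow_mul, hone]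
      exact dvd_mul_left _ _
    · have h1 : cX hp (t ^ orderOf t) x₀ = 1 := by rw [pow_orderOf_eq_one, cX_one]
      rw [cX_pow hp ht, hcX, hx₀, zpow_one] at h1
      exact hu.dvd_of_pow_eq_one _ h1

/-- **An element of order `ℓ ^ a`.** -/
theorem order_of_eig (hk : LocFin k) (he : 0 < e) (hσ : IsFrob p e σ)
    (F : Fr cs hp.isCartan (TT D k) (XX D l k) σ g) {d' : ℕ} {B' : Fin l → Fin l → ℤ} (hB : _root_.Cfsg.Agent.H129.TorusChar.InvC D l d' B')
    (hd' : d' ≠ 0) (he0 : Function.Injective e0) {d : ℕ} (hd : ∀ y, σ y = y → y ^ d ∈ e0.range)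
    {w : W} {Th : Fin l → Fin l → ℤ} (hw : ∀ j, rep cs hp.isCartan w (g (sr j)) = Th j)
    {f : ℕ} {c : Fin (f + 1) → ℤ} {V : Fin (f + 1) → Fin l → ℤ} {U : Fin l → ℤ}
    (h : EigOK (fun i j => Th j i) c V U)
    {ℓ : ℕ} [hℓ : Fact ℓ.Prime] (hℓd : ¬ ℓ ∣ d) (hℓp : ℓ ≠ p) {a : ℕ}
    (ha : ((ℓ ^ a : ℕ) : ℤ) ∣ pv c ((p ^ e : ℕ) : ℤ)) : ∃ x : G0, orderOf x = ℓ ^ a := by
  have hm0 : ℓ ^ a ≠ 0 := pow_ne_zero _ hℓ.out.ne_zero
  have hcop : (ℓ ^ a).Coprime d := ((Nat.Prime.coprime_iff_not_dvd hℓ.out).2 hℓd).pow_left a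
  obtain ⟨n, z, hz, hσ', F'⟩ := exists_z hp cs hk he hσ F w
  have hmp : ¬ p ∣ ℓ ^ a := fun h1 =>
    hℓp ((Nat.prime_dvd_prime_iff_eq (Fact.out : p.Prime) hℓ.out).1 ((Fact.out : p.Prime).dvd_of_dvd_pow h1)).symm
  obtain ⟨T, hT1, hT2, hT3⟩ := exists_tor hp cs hσ' F' hB hd' (L := lam V ((p ^ e : ℕ) : ℤ)) hm0 hmp
    (fun x => hL_of_eig hp cs hw h ha x) (x₀ := U) (lam_unit h _)
  obtain ⟨x, hx⟩ := hd _ (fix_conj hz hT2)
  refine ⟨x, ?_⟩
  rw [← orderOf_injective e0 he0, hx, conj_pow]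
  have h1 : orderOf (z * T ^ d * z⁻¹) = orderOf (T ^ d) := by
    have := (MulAut.conj z).orderOf_eq (T ^ d)
    rwa [MulAut.conj_apply] at this
  rw [h1, Nat.Coprime.orderOf_pow (by rw [hT3]; exact hcop), hT3]

end Main

section Rows

variable {D : ChevalleyDatum} {l : ℕ} {M : CoxeterMatrix (Fin l)} (hp : IsType D l M) {W : Type*} [Group W]
  [Finite W] (cs : CoxeterSystem M W)

theorem order_untw {d : ℕ} {B : Fin l → Fin l → ℤ} (hB : _root_.Cfsg.Agent.H129.TorusChar.InvC D l d B) (hd : d ≠ 0) {F : Type u} [Field F] [Finite F]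
    {w : W} {Th : Mat l} (hw : ∀ j, rep cs hp.isCartan w (sr j) = Th j) {f : ℕ} {c : Fin (f + 1) → ℤ}
    {V : Fin (f + 1) → Fin l → ℤ} {U : Fin l → ℤ} (h : EigOK (fun i j => Th j i) c V U)
    {ℓ : ℕ} [hℓ : Fact ℓ.Prime] (hℓd : ¬ ℓ ∣ Nat.gcd d (Nat.card F - 1)) (hℓq : ¬ ℓ ∣ Nat.card F) {a : ℕ}
    (ha : ((ℓ ^ a : ℕ) : ℤ) ∣ pv c ((Nat.card F : ℕ) : ℤ)) : ∃ x : ↥(D.group F), orderOf x = ℓ ^ a := by
  obtain ⟨k, _, _, g, p, _, _, n, hk, -, hn0, hn⟩ := Cfsg.Agent.H378.TorFin.exists_closure F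
  have hℓp : ℓ ≠ p := by
    rintro rfl
    exact hℓq (hn ▸ dvd_pow_self _ hn0.ne')
  rw [hn] at ha
  exact order_of_eig hp cs hk hn0 (phi_isFrob p n) (phi_fr hp cs p hk n) hB hd (emb_injective hp.inList g)
    (fun y hy => Cfsg.Agent.H378.RootTor.fix_pow_mem' hp g p hn hB hd hy) hw h hℓd hℓp ha

end Rows

variable {F : Type u} [Field F] [Fintype F]

/-- **`E₇(q)`, `q` of order `6` modulo `7`.** -/
theorem order_E7_six (ho : orderOf (Fintype.card F : ZMod 7) = 6) :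
    ∃ x : ↥(chevE7.group F), orderOf x = 7 ^ padicValNat 7 (Fintype.card F ^ 6 - 1) := by
  have := Cfsg.Agent.H493.PGE7.finW
  have h2 := rows_mul Cfsg.Agent.H493.PGE7.hp _ cox7 cox7 p72
  have h3 := rows_mul Cfsg.Agent.H493.PGE7.hp _ cox7 h2 p73
  have hc : Nat.card F = Fintype.card F := Nat.card_eq_fintype_card
  refine order_untw Cfsg.Agent.H493.PGE7.hp _ Cfsg.Agent.H129.TorusChar.invC_E7 (by norm_num) h3 (ok76.1 0) (ℓ := 7) ?_ ?_ ?_
  · intro h
    have := h.trans (Nat.gcd_dvd_left _ _)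
    norm_num at this
  · rw [hc]
    exact not_dvd_of (by norm_num) ho
  · rw [hc]
    exact dvd_c6 Fintype.card_pos ho

/-- **`E₈(q)`, `q` of order `6` modulo `7`.** -/
theorem order_E8_six (ho : orderOf (Fintype.card F : ZMod 7) = 6) :
    ∃ x : ↥(chevE8.group F), orderOf x = 7 ^ padicValNat 7 (Fintype.card F ^ 6 - 1) := by
  have := Cfsg.Agent.H493.PGE8.finW
  have h2 := rows_mul Cfsg.Agent.H493.PGE8.hp _ cox8 cox8 p82
  have h4 := rows_mul Cfsg.Agent.H493.PGE8.hp _ h2 h2 p84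
  have h5 := rows_mul Cfsg.Agent.H493.PGE8.hp _ cox8 h4 p85
  have hc : Nat.card F = Fintype.card F := Nat.card_eq_fintype_card
  refine order_untw Cfsg.Agent.H493.PGE8.hp _ Cfsg.Agent.H129.TorusChar.invC_E8 (by norm_num) h5 (ok86.1 0) (ℓ := 7) ?_ ?_ ?_
  · intro h
    have := h.trans (Nat.gcd_dvd_left _ _)
    norm_num at this
  · rw [hc]
    exact not_dvd_of (by norm_num) ho
  · rw [hc]
    exact dvd_c6 Fintype.card_pos ho

end Cfsg.Agent.H790.Str
end

-- part: H790/Str/HomS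
section
/-!
# Strong pairs: homocyclic Sylow subgroups (helper790, S2274)
-/

set_option autoImplicit false

universe u

namespace Cfsg.Agent.H790.Str

open Cfsg.Lie
open Cfsg.Agent.H172.SI (nm)
open Cfsg.Agent.H35.PoinNum (pr pr_cons pr_nil)

variable {p : ℕ} [hpp : Fact p.Prime]

theorem ndvd_of (hp : 11 ≤ p) {m n : ℕ} (h : m ∣ 210 ^ n) : ¬ p ∣ m := by
  intro h1
  have h2 := hpp.out.dvd_of_dvd_pow (h1.trans h)
  have h3 : (210 : ℕ) = 2 * 3 * 5 * 7 := by norm_num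
  rw [h3] at h2
  rcases hpp.out.dvd_mul.1 h2 with h4 | h4
  · rcases hpp.out.dvd_mul.1 h4 with h5 | h5
    · rcases hpp.out.dvd_mul.1 h5 with h6 | h6
      · have := Nat.le_of_dvd (by norm_num) h6; omega
      · have := Nat.le_of_dvd (by norm_num) h6; omega
    · have := Nat.le_of_dvd (by norm_num) h5; omega
  · have := Nat.le_of_dvd (by norm_num) h4; omega

theorem ndvd_of' (hp : 7 ≤ p) {m n : ℕ} (h : m ∣ 30 ^ n) : ¬ p ∣ m := by
  intro h1
  have h2 := hpp.out.dvd_of_dvd_pow (h1.trans h)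
  have h3 : (30 : ℕ) = 2 * 3 * 5 := by norm_num
  rw [h3] at h2
  rcases hpp.out.dvd_mul.1 h2 with h4 | h4
  · rcases hpp.out.dvd_mul.1 h4 with h5 | h5
    · have := Nat.le_of_dvd (by norm_num) h5; omega
    · have := Nat.le_of_dvd (by norm_num) h5; omega
  · have := Nat.le_of_dvd (by norm_num) h4; omega

theorem ndvd_six (hp : 5 ≤ p) {m n : ℕ} (h : m ∣ 6 ^ n) : ¬ p ∣ m := by
  intro h1
  have h2 := hpp.out.dvd_of_dvd_pow (h1.trans h)
  have h3 : (6 : ℕ) = 2 * 3 := by norm_num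
  rw [h3] at h2
  rcases hpp.out.dvd_mul.1 h2 with h4 | h4
  · have := Nat.le_of_dvd (by norm_num) h4; omega
  · have := Nat.le_of_dvd (by norm_num) h4; omega

/-- the order of `q` divides `p - 1` -/
theorem lt_of_order {q e : ℕ} (hq : ¬ p ∣ q) (he : orderOf (q : ZMod p) = e) : e ∣ p - 1 := by
  rw [← he]
  exact ZMod.orderOf_dvd_card_sub_one fun h => hq ((CharP.cast_eq_zero_iff (ZMod p) p q).1 h)

/-- the `p`-part of the order -/
theorem cardOK_of {D : ChevalleyDatum} {K : Type} [Field K] [Fintype K] {q e g N : ℕ} (h2 : Odd p) (hq : ¬ p ∣ q)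
    (hq2 : 2 ≤ q) (he : orderOf (q : ZMod p) = e) {dS : List ℕ} (hS0 : ∀ k ∈ dS, 0 < k)
    (hSw : ∀ k ∈ dS, e ∣ k → ¬ p ∣ k) (hX : g * Nat.card ↥(D.group K) = q ^ N * pr q dS) (hg : ¬ p ∣ g) :
    CardOK D K q p e dS := by
  have h3 := congrArg (padicValNat p) hX
  have hg0 : g ≠ 0 := by
    rintro rfl
    exact hg (dvd_zero _)
  rw [padicValNat.mul hg0 Nat.card_pos.ne', padicValNat.mul (pow_ne_zero _ (by omega)) (pr_ne_zero' hq2 hS0),
    padic_pr h2 hq hq2 he hS0 hSw, padicValNat.eq_zero_of_not_dvd hg, padicValNat.eq_zero_of_not_dvd (n := q ^ N)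
      (fun h => hq (hpp.out.dvd_of_dvd_pow h)), zero_add, zero_add] at h3
  exact h3

/-- homocyclic of rank `nm e dS` -/
theorem hom_of_card {D : ChevalleyDatum} {K : Type} [Field K] [Fintype K] {q e : ℕ} {dS : List ℕ}
    (hC : CardOK D K q p e dS) (hn : 1 ≤ nm e dS)
    (h : ∀ P : Sylow p ↥(D.group K), ∃ m : ℕ, (Nonempty (↥(P : Subgroup ↥(D.group K)) ≃*
      (Fin (nm e dS) → Multiplicative (ZMod (p ^ m)))) :)) :
    Hom p (padicValNat p (q ^ e - 1)) ↥(D.group K) := by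
  intro P
  obtain ⟨m, ⟨E⟩⟩ := h P
  refine ⟨nm e dS, m, ?_, ⟨E⟩⟩
  have : NeZero (p ^ m) := ⟨pow_ne_zero _ hpp.out.ne_zero⟩
  have h1 := Nat.card_congr E.toEquiv
  have h4 : Nat.card (Fin (nm e dS) → Multiplicative (ZMod (p ^ m))) = (p ^ m) ^ nm e dS := by
    rw [Nat.card_fun, Nat.card_congr (Multiplicative.toAdd (α := ZMod (p ^ m))), Nat.card_zmod, Nat.card_eq_fintype_card,
      Fintype.card_fin]
  rw [h4, P.card_eq_multiplicity, Nat.factorization_def _ hpp.out, hC, ← pow_mul] at h1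
  have h5 := Nat.pow_right_injective hpp.out.two_le h1
  exact (Nat.eq_of_mul_eq_mul_right hn h5).le

/-- the primes not dividing the order of the Weyl group -/
theorem hom_of_2378 {D : ChevalleyDatum} {K : Type} [Field K] [Fintype K] {q e : ℕ} (hK : Fintype.card K = q)
    {dS : List ℕ} (hD : (D, dS) ∈ [(Cfsg.Lie.chevG2, [2, 6]), (Cfsg.Lie.chevB2, [2, 4]), (Cfsg.Lie.chevD4, [2, 4, 4, 6]), (Cfsg.Lie.chevF4, [2, 6, 8, 12]),
      (Cfsg.Lie.chevE6, [2, 5, 6, 8, 9, 12]), (Cfsg.Lie.chevE7, [2, 6, 8, 10, 12, 14, 18]), (Cfsg.Lie.chevE8, [2, 8, 12, 14, 18, 20, 24, 30])])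
    (hq : ¬ p ∣ q) (hW : ¬ p ∣ dS.prod) (he : orderOf (q : ZMod p) = e) (hC : CardOK D K q p e dS)
    (hn : 1 ≤ nm e dS) (ha : 1 ≤ padicValNat p (q ^ e - 1)) : Hom p (padicValNat p (q ^ e - 1)) ↥(D.group K) := by
  refine hom_of_card hC hn fun P => ?_
  have hG : p ∣ Nat.card ↥(D.group K) := by
    by_contra h
    have h1 := hC
    unfold CardOK at h1
    rw [padicValNat.eq_zero_of_not_dvd h] at h1
    have : 0 < padicValNat p (q ^ e - 1) * nm e dS := Nat.mul_pos ha hn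
    omega
  have h1 := Cfsg.Agent.S2378.result hK (D, dS) hD p hq hW hG P
  have h2 : (dS.filter fun e' => orderOf (q : ZMod p) ∣ e').length = nm e dS := by
    rw [he]
    unfold nm
    rw [List.countP_eq_length_filter]
  rw [← h2]
  exact ⟨_, h1⟩

/-- commutative Sylow subgroups, the primes not dividing the order of the Weyl group -/
theorem comm_of_2378 {D : ChevalleyDatum} {K : Type} [Field K] [Fintype K] {q : ℕ} (hK : Fintype.card K = q)
    {dS : List ℕ} (hD : (D, dS) ∈ [(Cfsg.Lie.chevG2, [2, 6]), (Cfsg.Lie.chevB2, [2, 4]), (Cfsg.Lie.chevD4, [2, 4, 4, 6]), (Cfsg.Lie.chevF4, [2, 6, 8, 12]),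
      (Cfsg.Lie.chevE6, [2, 5, 6, 8, 9, 12]), (Cfsg.Lie.chevE7, [2, 6, 8, 10, 12, 14, 18]), (Cfsg.Lie.chevE8, [2, 8, 12, 14, 18, 20, 24, 30])])
    (hq : ¬ p ∣ q) (hW : ¬ p ∣ dS.prod) (P : Sylow p ↥(D.group K)) :
    (IsMulCommutative ↥(P : Subgroup ↥(D.group K)) :) := by
  by_cases hG : p ∣ Nat.card ↥(D.group K)
  · obtain ⟨E⟩ := Cfsg.Agent.S2378.result hK (D, dS) hD p hq hW hG P
    refine ⟨⟨fun a b => ?_⟩⟩
    apply E.injective
    rw [map_mul, map_mul, mul_comm]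
  · have h1 : Nat.card (P : Subgroup ↥(D.group K)) = 1 := by
      rw [P.card_eq_multiplicity, Nat.factorization_def _ hpp.out, padicValNat.eq_zero_of_not_dvd hG, pow_zero]
    have h2 : Subsingleton ↥(P : Subgroup ↥(D.group K)) := (Nat.card_eq_one_iff_unique.1 h1).1
    exact ⟨⟨fun a b => Subsingleton.elim _ _⟩⟩

/-- transport of commutativity -/
theorem comm_congr {S Y : Type*} [Group S] [Group Y] (e : S ≃* Y)
    (h : ∀ P : Sylow p Y, IsMulCommutative ↥(P : Subgroup Y)) (P : Sylow p S) :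
    IsMulCommutative ↥(P : Subgroup S) := by
  let Q : Sylow p Y := P.comapOfInjective e.symm.toMonoidHom e.symm.injective (by
    rw [MonoidHom.range_eq_top.2 e.symm.surjective]; exact le_top)
  have hQ : ∀ x : S, x ∈ (P : Subgroup S) → e x ∈ (Q : Subgroup Y) := by
    intro x hx
    show e.symm (e x) ∈ (P : Subgroup S)
    rwa [e.symm_apply_apply]
  refine ⟨⟨fun a b => Subtype.ext (e.injective ?_)⟩⟩
  have h1 := congrArg Subtype.val ((h Q).is_comm.comm ⟨e a, hQ a a.2⟩ ⟨e b, hQ b b.2⟩)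
  show e ((a : S) * b) = e ((b : S) * a)
  rw [map_mul, map_mul]
  exact h1

open Cfsg.Agent.H132.S5 in
/-- the other primes: homocyclic by S5303, and an element of order `p ^ a` -/
theorem hom_of_irr (B : SBox.{u} p) {S : Type u} [Group S] [Finite S] [IsSimpleGroup S]
    (hna : ¬ IsMulCommutative S) (hab : ∀ P : Sylow p S, IsMulCommutative ↥(P : Subgroup S)) {Y : Type*} [Group Y]
    (e : S ≃* Y) {a : ℕ} (ha : 1 ≤ a) (hx : ∃ x : Y, orderOf x = p ^ a) : Hom p a Y := by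
  have hfin : Finite Y := Finite.of_equiv S e.toEquiv
  intro P
  -- transport
  let P' : Sylow p S := P.comapOfInjective e.toMonoidHom e.injective (by
    rw [MonoidHom.range_eq_top.2 e.surjective]; exact le_top)
  let f : ↥(P' : Subgroup S) ≃* ↥(P : Subgroup Y) :=
    { toFun := fun x => ⟨e x, x.2⟩
      invFun := fun y => ⟨e.symm y, by
        show e (e.symm y) ∈ (P : Subgroup Y)
        rw [e.apply_symm_apply]; exact y.2⟩
      left_inv := fun x => Subtype.ext (e.symm_apply_apply _)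
      right_inv := fun y => Subtype.ext (e.apply_symm_apply _)
      map_mul' := fun x y => Subtype.ext (map_mul e _ _) }
  obtain ⟨x, hx⟩ := hx
  -- a conjugate of `x` in `P`
  have hz : IsPGroup p (Subgroup.zpowers x) := by
    rw [IsPGroup.iff_card]
    exact ⟨a, by rw [Nat.card_zpowers, hx]⟩
  obtain ⟨Q, hQ⟩ := hz.exists_le_sylow
  obtain ⟨g, hg⟩ := MulAction.exists_smul_eq Y Q P
  have hxP : g * x * g⁻¹ ∈ (P : Subgroup Y) := by
    rw [← hg, Sylow.coe_subgroup_smul, Subgroup.mem_pointwise_smul_iff_inv_smul_mem]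
    have : (MulAut.conj g)⁻¹ • (g * x * g⁻¹) = x := by
      rw [MulAut.smul_def, MulAut.conj_inv_apply]; group
    rw [this]
    exact hQ (Subgroup.mem_zpowers x)
  have hx' : orderOf (⟨g * x * g⁻¹, hxP⟩ : ↥(P : Subgroup Y)) = p ^ a := by
    rw [Subgroup.orderOf_mk, ← hx]
    have := (MulAut.conj g).orderOf_eq x
    rwa [MulAut.conj_apply] at this
  have hPb : (P' : Subgroup S) ≠ ⊥ := by
    intro h
    have h1 : f.symm ⟨g * x * g⁻¹, hxP⟩ = 1 := by
      have h2 := h.le (f.symm ⟨g * x * g⁻¹, hxP⟩).2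
      exact Subtype.ext (Subgroup.mem_bot.1 h2)
    have h3 : (⟨g * x * g⁻¹, hxP⟩ : ↥(P : Subgroup Y)) = 1 := by
      rw [← map_one f.symm] at h1
      exact f.symm.injective h1
    rw [h3, orderOf_one] at hx'
    exact (Nat.one_lt_pow (by omega) hpp.out.one_lt).ne hx'
  obtain ⟨k, t, ⟨E⟩⟩ := (B.irr S hna P' hPb (hab P') (omega p (P' : Subgroup S) (comm_of_hab (hab P')))
    (fun z => Iff.rfl)).2.2
  refine ⟨k, t, ?_, ⟨f.symm.trans E⟩⟩
  -- the exponent
  have h4 : (⟨g * x * g⁻¹, hxP⟩ : ↥(P : Subgroup Y)) ^ p ^ t = 1 := by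
    apply (f.symm.trans E).injective
    rw [map_pow, map_one]
    funext i
    rw [Pi.pow_apply, Pi.one_apply]
    apply Multiplicative.toAdd.injective
    rw [toAdd_pow, toAdd_one, nsmul_eq_mul, CharP.cast_eq_zero, zero_mul]
  have h5 := orderOf_dvd_of_pow_eq_one h4
  rw [hx'] at h5
  exact (Nat.pow_dvd_pow_iff_le_right hpp.out.one_lt).1 h5

end Cfsg.Agent.H790.Str
end
end

-- part: H347/S2274/ExcFin
section
prune_inst 0x40000000000000000000000000003c020200000010000000000000000680840200008020000000000000200000300020020000000000000000000000000000001000040040810008800000000000000000000000000000000000000000000000000000000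
set_option linter.all false
open scoped Cfsg.Agent.FastGrp

namespace Cfsg.Agent.H90F

private noncomputable def frc {α : Type} (x : ℕ) (f : ℕ → α) : α := Nat.rec (f 0) (fun k _ => f (Nat.succ k)) x

private theorem frc_eq {α : Type} (x : ℕ) (f : ℕ → α) : frc x f = f x := by cases x <;> rfl

private noncomputable def nth {α : Type} (d : α) (l : List α) : ℕ → α :=
  List.rec (fun _ => d) (fun a _ ih n => Nat.rec a (fun k _ => ih k) n) l

private theorem nth_eq {α : Type} (d : α) (l : List α) (n : ℕ) : nth d l n = l.getD n d := by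
  induction l generalizing n with
  | nil => rfl
  | cons a l ih => cases n with
    | zero => rfl
    | succ k => exact ih k

private theorem nth_arr {α : Type} (d : α) (a : Array α) (n : ℕ) : a.getD n d = nth d a.toList n := by
  rw [nth_eq, List.getD_eq_getElem?_getD, Array.getD_eq_getD_getElem?, Array.getElem?_toList]

private noncomputable def row (D : Cfsg.Lie.ChevalleyDatum) (r : ℕ) : List (ℕ × Array (ℕ × ℤ)) := (nth #[] D.chain.toList r).toList

private noncomputable def fnd (s : ℕ) (l : List (ℕ × Array (ℕ × ℤ))) : List (ℕ × ℤ) :=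
  List.rec [] (fun e _ ih => Bool.rec ih e.2.toList (Nat.beq e.1 s)) l

private theorem ce_eq0 (D : Cfsg.Lie.ChevalleyDatum) (r s : ℕ) : D.chainEntry r s = fnd s (row D r) := by
  unfold Cfsg.Lie.ChevalleyDatum.chainEntry row
  rw [nth_arr]
  generalize (nth #[] D.chain.toList r).toList = l
  induction l with
  | nil => rfl
  | cons e l ih =>
    show _ = (Bool.rec (fnd s l) e.2.toList (Nat.beq e.1 s) : List (ℕ × ℤ))
    by_cases h : e.1 = s
    · rw [List.find?_cons_of_pos (by simpa using h), Nat.beq_eq.mpr h]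
    · rw [List.find?_cons_of_neg (by simpa using h), ih, Bool.eq_false_iff.2 fun h1 => h (Nat.eq_of_beq_eq_true h1)]

private noncomputable def fce (D : Cfsg.Lie.ChevalleyDatum) (r s : ℕ) : List (ℕ × ℤ) := frc r fun r => frc s fun s => fnd s (row D r)

private theorem ce_eq (D : Cfsg.Lie.ChevalleyDatum) : D.chainEntry = fce D := by
  funext r s
  rw [fce, frc_eq, frc_eq, ce_eq0]

private noncomputable def fcr (D : Cfsg.Lie.ChevalleyDatum) (r s i : ℕ) : Option ℕ := ((fce D r s)[i - 1]?).map Prod.fst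

private theorem cr_eq (D : Cfsg.Lie.ChevalleyDatum) : D.chainRoot = fcr D := by
  funext r s i
  rw [fcr, ← ce_eq]; rfl

private noncomputable def fcm (D : Cfsg.Lie.ChevalleyDatum) (r s i : ℕ) : ℤ := (((fce D r s)[i - 1]?).map Prod.snd).getD 0

private theorem cm_eq (D : Cfsg.Lie.ChevalleyDatum) : D.chainM = fcm D := by
  funext r s i
  rw [fcm, ← ce_eq]; rfl

private noncomputable def gct (cr : ℕ → ℕ → ℕ → Option ℕ) (cm : ℕ → ℕ → ℕ → ℤ) (r s : ℕ) : List (ℕ × ℤ × ℕ × ℕ) :=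
  ([(cr r s 1, cm r s 1, 1, 1), (cr r s 2, cm r s 2, 2, 1), (cr s r 2, cm s r 2, 1, 2), (cr r s 3, cm r s 3, 3, 1),
      (cr s r 3, - cm s r 3, 1, 3),
      ((cr r s 3).bind fun k => cr k s 1, ((cr r s 1).map fun k => cm k r 2 / 3).getD 0, 3, 2),
      ((cr s r 3).bind fun k => cr k r 1, ((cr r s 1).map fun k => -2 * cm k s 2 / 3).getD 0, 2, 3)] :
    List (Option ℕ × ℤ × ℕ × ℕ)).filterMap fun c => c.1.map fun k => (k, c.2)

private theorem gct_eq (D : Cfsg.Lie.ChevalleyDatum) (r s : ℕ) : D.commTerms r s = gct (fcr D) (fcm D) r s := by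
  rw [← cr_eq, ← cm_eq]; rfl

private noncomputable def msk (l : List (ℕ × Array (ℕ × ℤ))) : ℕ := List.rec 0 (fun e _ ih => Nat.lor ih (Nat.shiftLeft 1 e.1)) l

private theorem fnd_nil {s : ℕ} {l : List (ℕ × Array (ℕ × ℤ))} (h : (msk l).testBit s = false) : fnd s l = [] := by
  induction l with
  | nil => rfl
  | cons e l ih =>
    have h1 : (msk l ||| 1 <<< e.1).testBit s = false := h
    rw [Nat.testBit_or, Bool.or_eq_false_iff, Nat.one_shiftLeft, Nat.testBit_two_pow] at h1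
    show (Bool.rec (fnd s l) e.2.toList (Nat.beq e.1 s) : List (ℕ × ℤ)) = []
    rw [Bool.eq_false_iff.2 fun h2 => of_decide_eq_false h1.2 (Nat.eq_of_beq_eq_true h2)]
    exact ih h1.1

private noncomputable def fc2 (D : Cfsg.Lie.ChevalleyDatum) (r s : ℕ) : List (ℕ × ℤ) → List (ℕ × ℤ) → List (ℕ × ℤ × ℕ × ℕ)
  | [x], [_] => [(x.1, x.2, 1, 1)]
  | _, _ => gct (fcr D) (fcm D) r s

private noncomputable def fct (D : Cfsg.Lie.ChevalleyDatum) (r s : ℕ) : List (ℕ × ℤ × ℕ × ℕ) :=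
  frc r fun r => frc s fun s =>
    Bool.rec (fc2 D r s (fnd s (row D r)) (fnd r (row D s))) []
      (Nat.beq (Nat.land (Nat.lor (Nat.shiftRight (msk (row D r)) s) (Nat.shiftRight (msk (row D s)) r)) 1) 0)

private theorem ct_eq (D : Cfsg.Lie.ChevalleyDatum) : D.commTerms = fct D := by
  funext r s
  rw [fct, frc_eq, frc_eq]
  cases h : Nat.beq (Nat.land (Nat.lor (Nat.shiftRight (msk (row D r)) s) (Nat.shiftRight (msk (row D s)) r)) 1) 0
  · show _ = fc2 D r s _ _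
    rw [← ce_eq0, ← ce_eq0]
    unfold fc2
    split
    · rename_i h1 h2
      unfold Cfsg.Lie.ChevalleyDatum.commTerms Cfsg.Lie.ChevalleyDatum.chainRoot Cfsg.Lie.ChevalleyDatum.chainM
      rw [h1, h2]; rfl
    · exact gct_eq D r s
  · have h1 : ((msk (row D r) >>> s ||| msk (row D s) >>> r)).testBit 0 = false := by
      have h2 : (msk (row D r) >>> s ||| msk (row D s) >>> r) &&& 1 = 0 := Nat.eq_of_beq_eq_true h
      rw [Nat.and_one_is_mod] at h2
      rw [Nat.testBit_zero, h2]; rfl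
    rw [Nat.testBit_or, Bool.or_eq_false_iff, Nat.testBit_shiftRight, Nat.testBit_shiftRight, Nat.add_zero, Nat.add_zero] at h1
    show _ = []
    unfold Cfsg.Lie.ChevalleyDatum.commTerms Cfsg.Lie.ChevalleyDatum.chainRoot Cfsg.Lie.ChevalleyDatum.chainM
    rw [ce_eq0 D r s, ce_eq0 D s r, fnd_nil h1.1, fnd_nil h1.2]; rfl

private theorem ct_fun : Cfsg.Lie.ChevalleyDatum.commTerms = fct := funext ct_eq

private noncomputable def fng (D : Cfsg.Lie.ChevalleyDatum) (r : ℕ) : ℕ := frc r (nth 0 D.negIdx.toList)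

private theorem ng_eq (D : Cfsg.Lie.ChevalleyDatum) : D.neg = fng D := by
  funext r
  rw [fng, frc_eq]
  exact nth_arr _ _ _

private noncomputable def fsi (D : Cfsg.Lie.ChevalleyDatum) (i : ℕ) : ℕ := frc i (nth 0 D.simpleIdx.toList)

private theorem si_eq (D : Cfsg.Lie.ChevalleyDatum) : D.simple = fsi D := by
  funext r
  rw [fsi, frc_eq]
  exact nth_arr _ _ _

private noncomputable def fca (D : Cfsg.Lie.ChevalleyDatum) (i s : ℕ) : ℤ :=
  frc i fun i => frc s (nth 0 (nth #[] D.cartanSR.toList i).toList)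

private theorem ca_eq (D : Cfsg.Lie.ChevalleyDatum) : D.cartan = fca D := by
  funext i s
  rw [fca, frc_eq, frc_eq, ← nth_arr, ← nth_arr]
  rfl

private noncomputable def frr (D : Cfsg.Lie.ChevalleyDatum) (i s : ℕ) : ℕ :=
  frc i fun i => frc s fun s => frc (fsi D i) fun p => frc (fng D p) fun q =>
    Bool.rec (Bool.rec
      (Int.rec (fun a => Nat.rec s (fun k _ => (fcr D q s (Nat.succ k)).getD s) a)
        (fun k => (fcr D p s (Nat.succ k)).getD s) (fca D i s))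
      p (Nat.beq s q)) q (Nat.beq s p)

private theorem rr_eq (D : Cfsg.Lie.ChevalleyDatum) : D.reflectRoot = frr D := by
  funext i s
  rw [frr, frc_eq, frc_eq, frc_eq, frc_eq, ← cr_eq, ← ng_eq, ← si_eq, ← ca_eq]
  unfold Cfsg.Lie.ChevalleyDatum.reflectRoot
  dsimp only
  by_cases h1 : s = D.simple i
  · rw [if_pos h1, Nat.beq_eq.mpr h1]
  rw [if_neg h1, Bool.eq_false_iff.2 fun h => h1 (Nat.eq_of_beq_eq_true h)]
  by_cases h2 : s = D.neg (D.simple i)
  · rw [if_pos h2, Nat.beq_eq.mpr h2]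
  rw [if_neg h2, Bool.eq_false_iff.2 fun h => h2 (Nat.eq_of_beq_eq_true h)]
  generalize D.cartan i s = A
  rcases A with (_ | k) | k
  · rfl
  · exact if_pos (Int.ofNat_succ_pos k)
  · rw [if_neg (Int.negSucc_lt_zero k).not_gt, if_pos (Int.negSucc_lt_zero k)]; rfl

private theorem rr_fun : Cfsg.Lie.ChevalleyDatum.reflectRoot = frr := funext rr_eq

private theorem ng_fun : Cfsg.Lie.ChevalleyDatum.neg = fng := funext ng_eq

private theorem si_fun : Cfsg.Lie.ChevalleyDatum.simple = fsi := funext si_eq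

private noncomputable def fld {α : Type} (l : List α) (n : ℕ) (d : α) : α := frc n (nth d l)

private theorem ld_eq {α : Type} (l : List α) (n : ℕ) (d : α) : l.getD n d = fld l n d := by
  rw [fld, frc_eq, nth_eq]

private theorem ld_fun : @List.getD.{0} = @fld := by
  funext α a n d; exact ld_eq a n d

private noncomputable def dOf {P : Prop} (b : Bool) (h : b = true ↔ P) : Decidable P :=
  Bool.rec (motive := fun c => b = c → Decidable P) (fun e => isFalse fun hp => Bool.noConfusion (e.symm.trans (h.2 hp)))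
    (fun e => isTrue (h.1 e)) b rfl

private noncomputable def flt (n : ℕ) (p : ∀ k, k < n → Bool) (m : ℕ) : Bool :=
  Nat.rec true (fun k ih => Bool.rec false ih
    (Bool.rec (motive := fun b => Nat.ble (Nat.succ k) n = b → Bool) (fun _ => true)
      (fun h => p k (Nat.le_of_ble_eq_true h)) (Nat.ble (Nat.succ k) n) rfl)) m

private theorem flt_one (n : ℕ) (p : ∀ k, k < n → Bool) (k : ℕ) (b : Bool) (e : Nat.ble (Nat.succ k) n = b) :
    (Bool.rec (motive := fun b => Nat.ble (Nat.succ k) n = b → Bool) (fun _ => true)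
      (fun h => p k (Nat.le_of_ble_eq_true h)) b e : Bool) = true ↔ ∀ h, p k h = true := by
  cases b
  · exact ⟨fun _ h => absurd (Nat.ble_eq_true_of_le h) (by rw [e]; exact Bool.false_ne_true), fun _ => rfl⟩
  · exact ⟨fun h _ => h, fun h => h _⟩

private theorem flt_iff (n : ℕ) (p : ∀ k, k < n → Bool) (m : ℕ) :
    flt n p m = true ↔ ∀ k, k < m → ∀ h, p k h = true := by
  induction m with
  | zero => exact ⟨fun _ k h => absurd h (Nat.not_lt_zero k), fun _ => rfl⟩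
  | succ m ih =>
    have e : ∀ a b : Bool, (Bool.rec false a b : Bool) = true ↔ b = true ∧ a = true := by decide
    refine (e _ _).trans ((and_congr (flt_one n p m _ rfl) ih).trans ⟨fun h k hk => ?_, fun h => ⟨h m (Nat.lt_succ_self m), fun k hk => h k (Nat.lt_succ_of_lt hk)⟩⟩)
    rcases Nat.lt_succ_iff_lt_or_eq.1 hk with h1 | h1
    · exact h.2 k h1
    · exact h1 ▸ h.1

private noncomputable def fff {n : ℕ} (P : Fin n → Prop) [H : DecidablePred P] : Decidable (∀ i, P i) :=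
  dOf (flt n (fun k h => @decide _ (H ⟨k, h⟩)) n)
    ((flt_iff _ _ _).trans ⟨fun h k => of_decide_eq_true (h k.1 k.2 k.2), fun h k _ hk => decide_eq_true (h ⟨k, hk⟩)⟩)

private theorem ff_fun : @Nat.decidableForallFin = @fff := by
  funext n P H; exact Subsingleton.elim _ _

private noncomputable def fal {α : Type} (l : List α) (p : α → Bool) : Bool :=
  List.rec true (fun a _ ih => Bool.rec false ih (p a)) l

private theorem al_fun : @List.all.{0} = @fal := by
  funext α l p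
  induction l with
  | nil => rfl
  | cons a l ih => rw [List.all_cons, ih]; show _ = (Bool.rec false (fal l p) (p a) : Bool); cases p a <;> rfl

private noncomputable def dNo {P : Prop} (b : Bool) (h : b = true ↔ ¬ P) : Decidable P :=
  Bool.rec (motive := fun c => b = c → Decidable P)
    (fun e => isTrue (Classical.byContradiction fun hp => Bool.noConfusion (e.symm.trans (h.2 hp))))
    (fun e => isFalse (h.1 e)) b rfl

private noncomputable def nd {P : Prop} (H : Decidable P) : Bool := Decidable.rec (fun _ => true) (fun _ => false) H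

private theorem nd_iff {P : Prop} (H : Decidable P) : nd H = true ↔ ¬ P := by
  cases H with
  | isFalse h => exact ⟨fun _ => h, fun _ => rfl⟩
  | isTrue h => exact ⟨fun e => Bool.noConfusion e, fun e => absurd h e⟩

private noncomputable def fef {n : ℕ} (P : Fin n → Prop) [H : DecidablePred P] : Decidable (∃ i, P i) :=
  dNo (flt n (fun k h => nd (H ⟨k, h⟩)) n)
    ((flt_iff _ _ _).trans ⟨fun h ⟨k, hk⟩ => (nd_iff _).1 (h k.1 k.2 k.2) hk, fun h k _ hk => (nd_iff _).2 fun e => h ⟨_, e⟩⟩)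

private theorem ef_fun : @Nat.decidableExistsFin = @fef := by
  funext n P H; exact Subsingleton.elim _ _

private noncomputable def flb {α : Type} (e : α → α → Bool) (l : List α) : List α → Bool :=
  List.rec (motive := fun _ => List α → Bool) (fun m => List.rec true (fun _ _ _ => false) m)
    (fun a _ ih m => List.rec false (fun b m _ => Bool.rec false (ih m) (e a b)) m) l

private theorem fle_iff {α : Type} [H : DecidableEq α] (l m : List α) :
    flb (fun a b => @decide _ (H a b)) l m = true ↔ l = m := by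
  induction l generalizing m with
  | nil =>
    cases m with
    | nil => exact ⟨fun _ => rfl, fun _ => rfl⟩
    | cons b m => exact ⟨fun h => Bool.noConfusion h, fun h => nomatch h⟩
  | cons a l ih =>
    cases m with
    | nil => exact ⟨fun h => Bool.noConfusion h, fun h => nomatch h⟩
    | cons b m =>
      have e : ∀ a b : Bool, (Bool.rec false a b : Bool) = true ↔ b = true ∧ a = true := by decide
      exact (e _ _).trans ((and_congr decide_eq_true_iff (ih m)).trans List.cons_eq_cons.symm)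

private theorem le_fun : @instDecidableEqList.{0} =
    fun α H l m => dOf (flb (fun a b => @decide _ (H a b)) l m) (@fle_iff α H l m) := by
  funext α H l m; exact Subsingleton.elim _ _

private noncomputable def fmp {α β : Type} (f : α → β) (l : List α) : List β := List.rec [] (fun a _ ih => f a :: ih) l

private theorem mp_fun : @List.map.{0, 0} = @fmp := by
  funext α β f l
  induction l with
  | nil => rfl
  | cons a l ih => rw [List.map_cons, ih]; rfl

end Cfsg.Agent.H90F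

-- part: H122/S5/DFour
section
/-!
# S2274, X2: subsystem subgroups of type `D₄` (helper122)

* `EmbS D D' l σ` : a subsystem with signs; `EmbS.pi : D.SteinbergGroup F →* ↥(D'.group F)`;
* `quasi` : the image is quasisimple and `|D.group F|` is the order of the central quotient.
-/

set_option autoImplicit false
set_option linter.unusedSectionVars false

namespace Cfsg.Agent.H122.S5

open Subgroup Cfsg Cfsg.Lie Cfsg.Agent.ChevalleyStructure.Elts
open Cfsg.Agent.ChevalleyStructure Cfsg.Agent.ChevalleyStructure.StBasic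
open scoped commutatorElement

universe u

/-- the root -/
def io (l : List ℕ) (r : ℕ) : ℕ := l.getD r 0

/-- the sign -/
def si (σ : List ℤ) (r : ℕ) : ℤ := σ.getD r 1

/-- the expected commutator terms -/
def ctm (D : ChevalleyDatum) (l : List ℕ) (σ : List ℤ) (r s : ℕ) : List (ℕ × ℤ × ℕ × ℕ) :=
  (D.commTerms r s).map fun c => (io l c.1, c.2.1 * (si σ r * si σ s * si σ c.1), c.2.2)

/-- a subsystem with signs, all commutator terms linear -/
structure EmbS (D D' : ChevalleyDatum) (l : List ℕ) (σ : List ℤ) : Prop where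
  lt : ∀ r : Fin D.nroots, io l r < D'.nroots
  inj : ∀ r s : Fin D.nroots, io l s = io l r → s = r
  neg : ∀ r : Fin D.nroots, D.neg r < D.nroots ∧ D'.neg (io l r) = io l (D.neg r) ∧ si σ (D.neg r) = si σ r ∧
    (si σ r = 1 ∨ si σ r = -1)
  comm : ∀ r s : Fin D.nroots, ((s : ℕ) ≠ r ∧ (s : ℕ) ≠ D.neg r) → D'.commTerms (io l r) (io l s) = ctm D l σ r s
  one : ∀ r s : Fin D.nroots, ((s : ℕ) ≠ r ∧ (s : ℕ) ≠ D.neg r) → ∀ c ∈ D.commTerms r s,
    c.1 < D.nroots ∧ c.2.2 = (1, 1)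

/-- every root is a sum of two roots -/
def PerfB (D : ChevalleyDatum) : Prop := ∀ k : Fin D.nroots, ∃ r s : Fin D.nroots, (s : ℕ) ≠ r ∧ (s : ℕ) ≠ D.neg r ∧
  (D.commTerms r s = [((k : ℕ), 1, 1, 1)] ∨ D.commTerms r s = [((k : ℕ), -1, 1, 1)])

instance instDecPerfB (D : ChevalleyDatum) : Decidable (PerfB D) := by unfold PerfB; infer_instance

theorem perf_d4 : PerfB chevD4 := by (delta Cfsg.Agent.H122.S5.PerfB; refine of_decide_eq_true ?_; rewrite [H90F.ct_fun, H90F.ng_fun, H90F.ff_fun, H90F.ef_fun, H90F.le_fun]; decide +kernel)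

section

variable {D D' : ChevalleyDatum} (hD' : InList D') {F : Type u} [Field F] {l : List ℕ} {σ : List ℤ}

/-- the images of the generators -/
def gx (D : ChevalleyDatum) (l : List ℕ) (σ : List ℤ) (r : ℕ) (t : F) : ↥(D'.group F) :=
  if r < D.nroots then xe hD' F (io l r) ((si σ r : F) * t) else 1

theorem gx_lt {r : ℕ} (hr : r < D.nroots) (t : F) : gx hD' D l σ r t = xe hD' F (io l r) ((si σ r : F) * t) :=
  if_pos hr

theorem gx_not_lt {r : ℕ} (hr : ¬ r < D.nroots) (t : F) : gx hD' D l σ r t = 1 := if_neg hr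

theorem si_sq (h : EmbS D D' l σ) {r : ℕ} (hr : r < D.nroots) : ((si σ r : ℤ) : F) * (si σ r : F) = 1 := by
  rcases (h.neg ⟨r, hr⟩).2.2.2 with e | e <;> (simp only at e; rw [e]; norm_num)

/-- the word of the terms -/
theorem word_eq {σr σs : F} (hr : σr * σr = 1) (hs : σs * σs = 1) {a b : ℤ} (ha : (a : F) = σr) (hb : (b : F) = σs)
    (h : EmbS D D' l σ) (t u : F) : ∀ T : List (ℕ × ℤ × ℕ × ℕ), (∀ c ∈ T, c.1 < D.nroots ∧ c.2.2 = (1, 1)) →
    D'.wordMat F ((T.map fun c => (io l c.1, c.2.1 * (a * b * si σ c.1), c.2.2)).map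
      fun c => (c.1, (c.2.1 : F) * (-(σr * t)) ^ c.2.2.1 * (σs * u) ^ c.2.2.2)) =
    ((((T.map fun c => (c.1, (c.2.1 : F) * (-t) ^ c.2.2.1 * u ^ c.2.2.2)).map
      fun p => gx hD' D l σ p.1 p.2).prod : ↥(D'.group F)) : GL D'.Idx F).1
  | [], _ => by
    simp only [ChevalleyDatum.wordMat, _root_.List.map_nil, _root_.List.prod_nil, _root_.OneMemClass.coe_one, _root_.Units.val_one]
  | c :: T, hT => by
    have ih := word_eq hr hs ha hb h t u T fun x hx => hT x (List.mem_cons_of_mem _ hx)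
    obtain ⟨h1, h2⟩ := hT c List.mem_cons_self
    simp only [List.map_cons, List.prod_cons, ChevalleyDatum.wordMat] at ih ⊢
    rw [ih, gx_lt hD' h1, h2]
    have e : ((c.2.1 * (a * b * si σ c.1) : ℤ) : F) * (-(σr * t)) ^ 1 * (σs * u) ^ 1 =
        (si σ c.1 : F) * ((c.2.1 : F) * (-t) ^ 1 * u ^ 1) := by
      push_cast
      rw [ha, hb]
      linear_combination (-(c.2.1 : F) * (si σ c.1 : F) * t * u * (σs * σs)) * hr +
        (-(c.2.1 : F) * (si σ c.1 : F) * t * u) * hs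
    rw [show ((c.2.1 * (a * b * si σ c.1) : ℤ) : F) * (-(σr * t)) ^ ((1 : ℕ), (1 : ℕ)).1 * (σs * u) ^ ((1 : ℕ), (1 : ℕ)).2 =
      ((c.2.1 * (a * b * si σ c.1) : ℤ) : F) * (-(σr * t)) ^ 1 * (σs * u) ^ 1 from rfl, e]
    rfl

/-- the sign of `h` -/
theorem h_sign {r : ℕ} (hr : r < D'.nroots) {a : F} (ha : a = 1 ∨ a = -1) {u : F} (hu : u ≠ 0) :
    nG hD' r (a * u) * nG hD' r (-a) = hG hD' r u := by
  have hn1 : nG hD' r (-1 : F) * nG hD' r (1 : F) = 1 := by
    have h1 : hG hD' r (1 : F) * hG hD' r (1 : F) = hG hD' r (1 : F) := by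
      apply Units.ext
      rw [Units.val_mul, coe_hG]
      have := S1076.result (F := F) D' hD' _ hr 1 1 one_ne_zero one_ne_zero
      rw [this, mul_one]
    have h2 : hG hD' r (1 : F) = 1 := mul_eq_left.1 h1
    rw [hG_def] at h2
    exact mul_eq_one_comm.1 h2
  have hmul : ∀ a b : F, a ≠ 0 → b ≠ 0 → hG hD' r a * hG hD' r b = hG hD' r (a * b) := by
    intro a b ha hb
    apply Units.ext
    rw [Units.val_mul, coe_hG, coe_hG, coe_hG]
    exact S1076.result D' hD' _ hr _ _ ha hb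
  have hnh : ∀ a : F, nG hD' r a = hG hD' r a * nG hD' r 1 := by
    intro a
    rw [hG_def, mul_assoc, hn1, mul_one]
  rcases ha with rfl | rfl
  · rw [one_mul, hG_def]
  · rw [_root_.neg_neg, neg_one_mul, hnh (-u), mul_assoc]
    have h3 : hG hD' r (-1 : F) * (nG hD' r (1 : F) * nG hD' r 1) = 1 := by
      rw [hG_def, mul_assoc, ← mul_assoc (nG hD' r (-1 : F)) (nG hD' r (1 : F)), hn1, one_mul, hn1]
    have h4 := hmul u (-1) hu (neg_ne_zero.2 one_ne_zero)
    rw [mul_neg, mul_one] at h4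
    rw [← h4, mul_assoc, h3, mul_one]

theorem hword (h : EmbS D D' l σ) {r : ℕ} (hr : r < D.nroots) {t : F} (ht : t ≠ 0) :
    ((((D.hWord r t).map fun p => gx hD' D l σ p.1 p.2).prod : ↥(D'.group F)) : GL D'.Idx F) = hG hD' (io l r) t := by
  obtain ⟨h1, h2, h3, h4⟩ := h.neg ⟨r, hr⟩
  simp only at h1 h2 h3 h4
  have hs := si_sq (F := F) h hr
  have hinv : ((si σ r : ℤ) : F)⁻¹ = (si σ r : F) := inv_eq_of_mul_eq_one_left hs
  have ha : ((si σ r : ℤ) : F) = 1 ∨ ((si σ r : ℤ) : F) = -1 := by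
    rcases h4 with e | e
    · left; rw [e, Int.cast_one]
    · right; rw [e, Int.cast_neg, Int.cast_one]
  rw [← h_sign hD' (h.lt ⟨r, hr⟩) ha ht]
  have hn : ∀ u : F, ((((D.nWord r u).map fun p => gx hD' D l σ p.1 p.2).prod : ↥(D'.group F)) : GL D'.Idx F) =
      nG hD' (io l r) ((si σ r : F) * u) := by
    intro u
    change (((([(r, u), (D.neg r, -u⁻¹), (r, u)] : List (ℕ × F)).map fun p => gx hD' D l σ p.1 p.2).prod :
      ↥(D'.group F)) : GL D'.Idx F) = _
    simp only [List.map_cons, List.map_nil, List.prod_cons, List.prod_nil, mul_one]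
    rw [gx_lt hD' hr, gx_lt hD' h1, nG_def, h2, h3, mul_inv, hinv, mul_neg]
    rw [Subgroup.coe_mul, Subgroup.coe_mul]
    rfl
  change (((((D.nWord r t) ++ D.nWord r (-1) : List (ℕ × F)).map fun p => gx hD' D l σ p.1 p.2).prod :
    ↥(D'.group F)) : GL D'.Idx F) = _
  rw [List.map_append, List.prod_append, Subgroup.coe_mul, hn, hn, mul_neg, mul_one]

/-- **the homomorphism** -/
noncomputable def EmbS.pi (h : EmbS D D' l σ) : D.SteinbergGroup F →* ↥(D'.group F) :=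
  lift D (gx hD' D l σ) (fun _ t hr => gx_not_lt hD' hr t)
    (fun r t₁ t₂ hr => by rw [gx_lt hD' hr, gx_lt hD' hr, gx_lt hD' hr, xe_add, mul_add])
    (fun r s t u hr hs hne hneg => by
      have hne' : io l s ≠ io l r := fun e => hne (congrArg Fin.val (h.inj ⟨r, hr⟩ ⟨s, hs⟩ e))
      have hneg' : io l s ≠ D'.neg (io l r) := by
        rw [(h.neg ⟨r, hr⟩).2.1]
        exact fun e => hneg (congrArg Fin.val (h.inj ⟨D.neg r, (h.neg ⟨r, hr⟩).1⟩ ⟨s, hs⟩ e))
      have key := S1025.result (F := F) D' hD' _ _ (h.lt ⟨r, hr⟩) (h.lt ⟨s, hs⟩) hne' hneg'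
        ((si σ r : F) * t) ((si σ s : F) * u)
      have hw : D'.wordMat F (D'.commWord F (io l r) (io l s) ((si σ r : F) * t) ((si σ s : F) * u)) =
          ((((D.commWord F r s t u).map fun p => gx hD' D l σ p.1 p.2).prod : ↥(D'.group F)) : GL D'.Idx F).1 := by
        rw [ChevalleyDatum.commWord, h.comm ⟨r, hr⟩ ⟨s, hs⟩ ⟨hne, hneg⟩]
        exact word_eq hD' (si_sq h hr) (si_sq h hs) rfl rfl h t u _ (h.one ⟨r, hr⟩ ⟨s, hs⟩ ⟨hne, hneg⟩)
      rw [hw] at key
      rw [gx_lt hD' hs, gx_lt hD' hr]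
      have key' : xe hD' F (io l s) ((si σ s : F) * u) * xe hD' F (io l r) ((si σ r : F) * t) =
          xe hD' F (io l r) ((si σ r : F) * t) * xe hD' F (io l s) ((si σ s : F) * u) *
            (((D.commWord F r s t u).map fun p => gx hD' D l σ p.1 p.2).prod) := by
        apply Subtype.ext
        apply Units.ext
        exact key
      rw [mul_assoc, key']
      group)
    (fun r t₁ t₂ hr h₁ h₂ => by
      apply Subtype.ext
      rw [Subgroup.coe_mul, hword hD' h hr h₁, hword hD' h hr h₂, hword hD' h hr (mul_ne_zero h₁ h₂)]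
      apply Units.ext
      rw [Units.val_mul, coe_hG, coe_hG, coe_hG]
      exact S1076.result D' hD' _ (h.lt ⟨r, hr⟩) _ _ h₁ h₂)

theorem EmbS.pi_gen (h : EmbS D D' l σ) {r : ℕ} (hr : r < D.nroots) (t : F) :
    h.pi hD' (D.stGen F r t) = xe hD' F (io l r) ((si σ r : F) * t) := by
  unfold EmbS.pi
  rw [lift_stGen, gx_lt hD' hr]

/-- the list of the roots -/
def rts (D : ChevalleyDatum) (l : List ℕ) : List ℕ := (List.range D.nroots).map (io l)

theorem EmbS.range_pi (h : EmbS D D' l σ) : (h.pi hD' (F := F)).range = sub hD' F (rts D l) := by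
  apply le_antisymm
  · rw [MonoidHom.range_eq_map, Subgroup.map_le_iff_le_comap]
    refine le_of_eq_of_le (closure_stGen D).symm ?_
    rw [Subgroup.closure_le]
    rintro _ ⟨r, t, hr, rfl⟩
    rw [SetLike.mem_coe, Subgroup.mem_comap, h.pi_gen hD' hr]
    exact Subgroup.subset_closure ⟨_, List.mem_map.2 ⟨r, List.mem_range.2 hr, rfl⟩, _, rfl⟩
  · unfold sub
    rw [Subgroup.closure_le]
    rintro _ ⟨s, hs, t, rfl⟩
    obtain ⟨r, hr, rfl⟩ := List.mem_map.1 hs
    have hr' := List.mem_range.1 hr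
    refine ⟨D.stGen F r ((si σ r : F) * t), ?_⟩
    rw [h.pi_gen hD' hr', ← mul_assoc, si_sq h hr', one_mul]

/-- the presented group is perfect -/
theorem perf_st (hP : PerfB D) : commutator (D.SteinbergGroup F) = ⊤ := by
  rw [eq_top_iff]
  refine le_of_eq_of_le (closure_stGen D).symm ?_
  rw [Subgroup.closure_le]
  rintro _ ⟨k, t, hk, rfl⟩
  obtain ⟨r, s, hne, hneg, hc⟩ := hP ⟨k, hk⟩
  have hb : ∃ b : F, wd D (D.commWord F r s b 1) = D.stGen F k t := by
    rcases hc with hc | hc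
    · refine ⟨-t, ?_⟩
      rw [ChevalleyDatum.commWord, hc]
      simp only [List.map_cons, List.map_nil, wd_singleton]
      congr 1
      norm_num
    · refine ⟨t, ?_⟩
      rw [ChevalleyDatum.commWord, hc]
      simp only [List.map_cons, List.map_nil, wd_singleton]
      congr 1
      norm_num
  obtain ⟨b, hb⟩ := hb
  have key := stGen_comm (K := F) D r.2 s.2 hne hneg b 1
  rw [hb] at key
  rw [SetLike.mem_coe, ← key]
  have e2 : (D.stGen F s 1)⁻¹ * (D.stGen F r b)⁻¹ * D.stGen F s 1 * D.stGen F r b =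
      ⁅(D.stGen F s 1)⁻¹, (D.stGen F r b)⁻¹⁆ := by
    rw [commutatorElement_def, inv_inv, inv_inv]
  rw [e2]
  exact Subgroup.commutator_mem_commutator (Subgroup.mem_top _) (Subgroup.mem_top _)

end

/-! ### quasisimple images -/

theorem qs_image {St G T : Type*} [Group St] [Group G] [Group T] (θ : St →* G) (hθ : Function.Surjective θ)
    (hk : θ.ker = center St) (hperf : commutator St = ⊤) [IsSimpleGroup G] (φ : St →* T) (hne : ∃ x, φ x ≠ 1) :
    IsQuasisimple ↥φ.range ∧ Nonempty ((↥φ.range ⧸ center ↥φ.range) ≃* G) := by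
  have hs := φ.rangeRestrict_surjective
  have hSt : Group.IsPerfect St := ⟨hperf⟩
  have hL : Group.IsPerfect ↥φ.range := Group.IsPerfect.ofSurjective (f := φ.rangeRestrict) hs
  let ψ : St →* ↥φ.range ⧸ center ↥φ.range := (QuotientGroup.mk' _).comp φ.rangeRestrict
  have hψ : Function.Surjective ψ := (QuotientGroup.mk'_surjective _).comp hs
  have hmem : ∀ x, x ∈ ψ.ker ↔ φ.rangeRestrict x ∈ center ↥φ.range := by
    intro x
    rw [MonoidHom.mem_ker, MonoidHom.comp_apply, ← MonoidHom.mem_ker, QuotientGroup.ker_mk']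
  have h1 : θ.ker ≤ ψ.ker := by
    rw [hk]
    intro z hz
    rw [hmem, mem_center_iff]
    intro y
    obtain ⟨x, rfl⟩ := hs y
    rw [← map_mul, ← map_mul, (mem_center_iff.1 hz x)]
  have h2 : ψ.ker = θ.ker := by
    have hN : (ψ.ker.map θ).Normal := Subgroup.Normal.map inferInstance θ hθ
    rcases hN.eq_bot_or_eq_top with h3 | h3
    · exact le_antisymm ((Subgroup.map_eq_bot_iff _).1 h3) h1
    · exfalso
      have h4 : ψ.ker = ⊤ := by
        rw [eq_top_iff]
        intro x _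
        obtain ⟨y, hy, hxy⟩ : θ x ∈ ψ.ker.map θ := h3 ▸ mem_top _
        have h5 : x * y⁻¹ ∈ θ.ker := by rw [MonoidHom.mem_ker, map_mul, map_inv, hxy, mul_inv_cancel]
        have h6 := ψ.ker.mul_mem (h1 h5) hy
        rwa [inv_mul_cancel_right] at h6
      have h5 : center ↥φ.range = ⊤ := by
        rw [eq_top_iff]
        intro y _
        obtain ⟨x, rfl⟩ := hs y
        exact (hmem x).1 (h4 ▸ mem_top x)
      have h6 := hL.commutator_eq_top
      rw [(commutator_eq_bot_iff_center_eq_top _).2 h5] at h6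
      obtain ⟨x, hx⟩ := hne
      have h7 : φ.rangeRestrict x ∈ (⊥ : Subgroup ↥φ.range) := h6 ▸ mem_top _
      exact hx (congrArg Subtype.val (mem_bot.1 h7))
  have e : (↥φ.range ⧸ center ↥φ.range) ≃* G :=
    ((QuotientGroup.quotientKerEquivOfSurjective ψ hψ).symm.trans (QuotientGroup.quotientMulEquivOfEq h2)).trans
      (QuotientGroup.quotientKerEquivOfSurjective θ hθ)
  exact ⟨⟨hL, e.isSimpleGroup⟩, ⟨e⟩⟩

/-- a factor, second form -/
structure Fac2 {S : Type*} [Group S] (p c : ℕ) (L : Subgroup S) : Prop where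
  qs : IsQuasisimple ↥L
  pp : PP p c (Nat.card (↥L ⧸ center ↥L))

section

variable {S : Type*} [Group S] [Finite S] {p : ℕ}

/-- the product of two commuting subgroups -/
theorem card_sup {A B : Subgroup S} (hc : ∀ a ∈ A, ∀ b ∈ B, a * b = b * a) :
    Nat.card (↥A ⧸ center ↥A) * Nat.card B ∣ Nat.card ↥(A ⊔ B) := by
  let f : ↥A × ↥B →* S := MonoidHom.noncommCoprod A.subtype B.subtype fun a b => hc a a.2 b b.2
  have hf : f.range = A ⊔ B := by
    have h1 : f.range = A.subtype.range ⊔ B.subtype.range := MonoidHom.noncommCoprod_range _ _ _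
    rw [h1]
    exact congrArg₂ (· ⊔ ·) (Subgroup.range_subtype A) (Subgroup.range_subtype B)
  have hk : Nat.card f.ker ∣ Nat.card (center ↥A) := by
    let g : ↥f.ker →* ↥(center ↥A) :=
      { toFun := fun x => ⟨(x : ↥A × ↥B).1, by
          have h1 : (((x : ↥A × ↥B).1 : S)) * ((x : ↥A × ↥B).2 : S) = 1 := x.2
          rw [mem_center_iff]
          intro a
          apply Subtype.ext
          rw [Subgroup.coe_mul, Subgroup.coe_mul, eq_inv_of_mul_eq_one_left h1]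
          exact hc a a.2 _ (B.inv_mem (x : ↥A × ↥B).2.2)⟩
        map_one' := rfl
        map_mul' := fun _ _ => rfl }
    have hg : Function.Injective g := by
      intro x y hxy
      have h1 : (((x : ↥A × ↥B).1 : S)) * ((x : ↥A × ↥B).2 : S) = 1 := x.2
      have h2 : (((y : ↥A × ↥B).1 : S)) * ((y : ↥A × ↥B).2 : S) = 1 := y.2
      have h3 : (x : ↥A × ↥B).1 = (y : ↥A × ↥B).1 := congrArg (fun u : ↥(center ↥A) => (u : ↥A)) hxy
      have h4 : ((x : ↥A × ↥B).2 : S) = ((y : ↥A × ↥B).2 : S) := by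
        rw [eq_inv_of_mul_eq_one_right h1, eq_inv_of_mul_eq_one_right h2, h3]
      exact Subtype.ext (Prod.ext h3 (Subtype.ext h4))
    exact card_dvd_of_injective g hg
  have h1 := f.ker.card_mul_index
  rw [index_ker, hf, Nat.card_prod, ← (center ↥A).card_mul_index] at h1
  obtain ⟨k, hk⟩ := hk
  rw [hk] at h1
  have h2 : Nat.card f.ker * Nat.card ↥(A ⊔ B) = Nat.card f.ker * (k * (center ↥A).index * Nat.card B) := by
    rw [h1]; ring
  have h3 := Nat.eq_of_mul_eq_mul_left (Nat.card_pos (α := f.ker)) h2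
  exact ⟨k, by rw [h3]; change _ = (center ↥A).index * _ * _; ring⟩

/-- the product of a list of pairwise commuting factors -/
theorem pp_list2 (hp : p.Prime) {c : ℕ} (hc0 : c ≠ 0) : ∀ Ls : List (Subgroup S), (∀ L ∈ Ls, Fac2 p c L) →
    Ls.Pairwise (fun A B => ∀ a ∈ A, ∀ b ∈ B, a * b = b * a) →
    PP p (c ^ Ls.length) (Nat.card ↥(Ls.foldr (· ⊔ ·) ⊥))
  | [], _, _ => by
    rw [List.length_nil, pow_zero]
    exact PP.of_dvd (one_dvd _)
  | L :: Ls, hF, hc => by
    rw [List.pairwise_cons] at hc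
    have h1 := pp_list2 hp hc0 Ls (fun L' h => hF L' (List.mem_cons_of_mem _ h)) hc.2
    have hL := hF L List.mem_cons_self
    have h2 : ∀ a ∈ L, ∀ b ∈ (Ls.foldr (· ⊔ ·) ⊥ : Subgroup S), a * b = b * a := by
      have h3 : (Ls.foldr (· ⊔ ·) ⊥ : Subgroup S) ≤ centralizer (L : Set S) := by
        have h4 : ∀ Ms : List (Subgroup S), (∀ M ∈ Ms, M ≤ centralizer (L : Set S)) →
            (Ms.foldr (· ⊔ ·) ⊥ : Subgroup S) ≤ centralizer (L : Set S) := by
          intro Ms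
          induction Ms with
          | nil => intro _; exact bot_le
          | cons M Ms ih =>
            intro h
            exact sup_le (h M List.mem_cons_self) (ih fun M' hM' => h M' (List.mem_cons_of_mem _ hM'))
        refine h4 Ls fun M hM b hb => ?_
        rw [mem_centralizer_iff]
        intro a ha
        exact hc.1 M hM a ha b hb
      intro a ha b hb
      exact (mem_centralizer_iff.1 (h3 hb)) a ha
    rw [List.length_cons, pow_succ']
    exact (PP.mul hp hc0 (pow_ne_zero _ hc0) hL.pp h1).trans (PP.of_dvd (card_sup h2))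

/-- `p` divides `|L / Z(L)|` -/
theorem Fac2.dvd {c : ℕ} {L : Subgroup S} (h : Fac2 p c L) (hpc : p ∣ c) : p ∣ Nat.card (↥L ⧸ center ↥L) := by
  have := h.pp 1 (by rwa [pow_one])
  rwa [pow_one] at this

/-- **Commuting factors, second form.** -/
theorem edat2_of (hp : p.Prime) (hcen : center S = ⊥) {c m : ℕ} (hc0 : c ≠ 0) {A B : Subgroup S}
    {Ls : List (Subgroup S)} (hF : ∀ L ∈ A :: B :: Ls, Fac2 p c L)
    (hc : (A :: B :: Ls).Pairwise (fun A B => ∀ a ∈ A, ∀ b ∈ B, a * b = b * a)) (hpc : p ∣ c)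
    (hS : Nat.card S ∣ c ^ (Ls.length + 2) * m) (hm : ¬ p ∣ m) : EDat p S := by
  have h1 := pp_list2 hp hc0 (A :: B :: Ls) hF hc
  have hA := hF A List.mem_cons_self
  have hB := hF B (List.mem_cons_of_mem _ List.mem_cons_self)
  have hcA : ∀ B' ∈ B :: Ls, ∀ a ∈ A, ∀ b ∈ B', a * b = b * a := (List.pairwise_cons.1 hc).1
  have hBne : B ≠ ⊥ := by
    rintro rfl
    have h2 := hB.dvd hpc
    have h3 : Nat.card (↥(⊥ : Subgroup S) ⧸ center ↥(⊥ : Subgroup S)) = 1 := Nat.card_unique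
    rw [h3] at h2
    exact hp.one_lt.ne' (Nat.dvd_one.1 h2)
  refine ⟨(A :: B :: Ls).foldr (· ⊔ ·) ⊥, A, ?_, ?_, hA.qs, hA.dvd hpc,
    card_lt hcen hBne (hcA B List.mem_cons_self)⟩
  · refine index_of_pp hp (PP.trans (PP.trans (PP.of_dvd hS) ?_) h1)
    rw [List.length_cons, List.length_cons]
    exact PP.cancel hp hm (PP.of_dvd dvd_rfl)
  · have h2 : ∀ Ms : List (Subgroup S), (∀ M ∈ Ms, M ≤ normalizer (A : Set S)) →
        (Ms.foldr (· ⊔ ·) ⊥ : Subgroup S) ≤ normalizer (A : Set S) := by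
      intro Ms
      induction Ms with
      | nil => intro _; exact bot_le
      | cons M Ms ih =>
        intro h
        exact sup_le (h M List.mem_cons_self) (ih fun M' hM' => h M' (List.mem_cons_of_mem _ hM'))
    refine h2 _ fun M hM => ?_
    rcases List.mem_cons.1 hM with rfl | hM
    · exact le_normalizer
    · refine le_trans ?_ (centralizer_le_normalizer (A : Set S))
      intro b hb
      rw [mem_centralizer_iff]
      intro a ha
      exact hcA M hM a ha b hb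

end

/-! ### type `D₄` -/

section

variable {F : Type u} [Field F] [Fintype F] {p q : ℕ} (hq : Fintype.card F = q) (hp : p.Prime) (h5 : 5 ≤ p)

include hq

theorem qs_d4 {D' : ChevalleyDatum} (hD' : InList D') {l : List ℕ} {σ : List ℤ} (h : EmbS chevD4 D' l σ) :
    IsQuasisimple ↥(sub hD' F (rts chevD4 l)) ∧
      Nat.card (↥(sub hD' F (rts chevD4 l)) ⧸ center ↥(sub hD' F (rts chevD4 l))) = Nat.card ↥(chevD4.group F) := by
  obtain ⟨θ, h1, h2, -⟩ := S1077.result (K := F) chevD4 (by simp)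
  have : IsSimpleGroup ↥(chevD4.group F) := (S1054.result chevD4 (by simp)).1
  rw [← h.range_pi hD']
  obtain ⟨h3, ⟨e⟩⟩ := qs_image θ h1 h2 (perf_st perf_d4) (h.pi hD' (F := F)) ⟨chevD4.stGen F 0 1, by
    rw [h.pi_gen hD' (by decide)]
    intro h4
    have h5 := xe_eq_one hD' F (h.lt ⟨0, by decide⟩) h4
    rw [mul_one] at h5
    have h6 := si_sq (F := F) h (r := 0) (by decide)
    rw [h5, mul_zero] at h6
    exact zero_ne_one h6⟩
  exact ⟨h3, Nat.card_congr e.toEquiv⟩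

include hp h5

theorem fac_d4 {D' : ChevalleyDatum} (hD' : InList D') {l : List ℕ} {σ : List ℤ} (h : EmbS chevD4 D' l σ) :
    Fac2 p ((q ^ 4 - 1) ^ 2) (sub hD' F (rts chevD4 l)) := by
  obtain ⟨h1, h2⟩ := qs_d4 hq hD' h
  refine ⟨h1, ?_⟩
  rw [h2]
  refine PP.of_mul hp (m := Nat.gcd 2 (q - 1) ^ 2) (fun h3 => ?_) (PP.of_dvd ?_)
  · have h4 := (hp.dvd_of_dvd_pow h3).trans (Nat.gcd_dvd_left 2 (q - 1))
    have := Nat.le_of_dvd (by norm_num) h4
    omega
  · rw [S1061.result hq]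
    exact ⟨q ^ 12 * (q ^ 2 - 1) * (q ^ 6 - 1), by ring⟩

end

theorem emb_e8a : EmbS chevD4 chevE8 [237, 117, 226, 159, 238, 119, 118, 227, 160, 239, 78, 11, 228, 161, 0, 79, 12, 121,
      120, 1, 80, 13, 122, 2]
    [-1, -1, 1, 1, 1, 1, 1, 1, 1, 1, 1, 1, 1, 1, 1, 1, 1, 1, 1, 1, 1, 1, -1, -1] where
  lt := by decide +kernel
  inj := by decide +kernel
  neg := by (delta Cfsg.Agent.H122.S5.si Cfsg.Agent.H122.S5.io; refine of_decide_eq_true ?_; rewrite [H90F.ng_fun, H90F.ld_fun, H90F.ff_fun]; decide +kernel)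
  comm := by (delta Cfsg.Agent.H122.S5.si Cfsg.Agent.H122.S5.ctm Cfsg.Agent.H122.S5.io; refine of_decide_eq_true ?_; rewrite [H90F.ct_fun, H90F.ng_fun, H90F.ld_fun, H90F.ff_fun, H90F.le_fun, H90F.mp_fun]; decide +kernel)
  one := by decide +kernel

theorem emb_e8b : EmbS chevD4 chevE8 [147, 113, 142, 136, 152, 130, 108, 141, 135, 148, 102, 96, 143, 137, 91, 104, 98,
      131, 109, 87, 103, 97, 126, 92] [] where
  lt := by decide +kernel
  inj := by (open scoped Cfsg.Agent.ChevFast.Lin in decide +kernel)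
  neg := by (rewrite [Cfsg.Agent.ChevFast.E8.neg]; decide +kernel)
  comm := by (delta Cfsg.Agent.H122.S5.si Cfsg.Agent.H122.S5.ctm Cfsg.Agent.H122.S5.io; refine of_decide_eq_true ?_; rewrite [H90F.ct_fun, H90F.ng_fun, H90F.ld_fun, H90F.ff_fun, H90F.le_fun, H90F.mp_fun]; decide +kernel)
  one := by decide +kernel

section

variable {F : Type u} [Field F] [Fintype F] {p q : ℕ} (hq : Fintype.card F = q) (hp : p.Prime) (h5 : 5 ≤ p)

include hq

include hp h5

/-- `E₈(q)`, `e = 4` -/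
theorem edat_e8_four (hp5 : p ≠ 5) (he : orderOf ((q : ℕ) : ZMod p) = 4) : EDat p ↥(chevE8.group F) := by
  have := finite_group (D := chevE8) F
  have hD : InList chevE8 := by simp [InList]
  have hq2 := two_le_card hq
  obtain ⟨m, hm, h1⟩ := exists_bound hp (by omega) he (by norm_num) 120 [2, 8, 12, 14, 18, 20, 24, 30]
    (fun d hd hed => by
      intro h
      have h1 : d / 4 ∣ 2 ^ 10 * 3 ^ 10 ∨ d / 4 = 5 := by clear h; revert d; decide
      rcases h1 with h1 | h1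
      · exact not_dvd_23 hp h5 h1 h
      · rw [h1] at h
        exact hp5 ((Nat.prime_dvd_prime_iff_eq hp (by norm_num)).1 h))
  have hk : ([2, 8, 12, 14, 18, 20, 24, 30] : List ℕ).countP (fun d => decide (4 ∣ d)) = 4 := by decide
  rw [hk, show (q ^ 4 - 1) ^ 4 = ((q ^ 4 - 1) ^ 2) ^ (([] : List (Subgroup ↥(chevE8.group F))).length + 2) by
    rw [← pow_mul]; rfl] at h1
  refine edat2_of hp (cen_of (by simp)) (pow_ne_zero 2 (pow_sub_ne hq2 (by norm_num)))
    (A := sub hD F (rts chevD4 [237, 117, 226, 159, 238, 119, 118, 227, 160, 239, 78, 11, 228, 161, 0, 79, 12, 121,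
      120, 1, 80, 13, 122, 2]))
    (B := sub hD F (rts chevD4 [147, 113, 142, 136, 152, 130, 108, 141, 135, 148, 102, 96, 143, 137, 91, 104, 98,
      131, 109, 87, 103, 97, 126, 92])) (Ls := []) ?_ ?_
    (dvd_pow ((dvd_iff (by omega) he 4).2 dvd_rfl) two_ne_zero) (h1 ▸ card_e8 hq) hm
  · intro L hL
    simp only [List.mem_cons, List.not_mem_nil, or_false] at hL
    rcases hL with rfl | rfl
    · exact fac_d4 hq hp h5 hD emb_e8a
    · exact fac_d4 hq hp h5 hD emb_e8b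
  · have h2 := pairwise_of hD F (l := [rts chevD4 [237, 117, 226, 159, 238, 119, 118, 227, 160, 239, 78, 11, 228, 161, 0,
      79, 12, 121, 120, 1, 80, 13, 122, 2], rts chevD4 [147, 113, 142, 136, 152, 130, 108, 141, 135, 148, 102, 96, 143,
      137, 91, 104, 98, 131, 109, 87, 103, 97, 126, 92]]) (by (delta Cfsg.Agent.H122.S5.pairB._f Cfsg.Agent.H122.S5.comB Cfsg.Agent.H122.S5.pairB Cfsg.Agent.H122.S5.rts Cfsg.Agent.H122.S5.io; rewrite [H90F.ct_fun, H90F.ng_fun, H90F.ld_fun, H90F.al_fun, H90F.mp_fun]; decide +kernel))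
    exact h2

end

end Cfsg.Agent.H122.S5
end

-- part: H122/S5/FSix
section
/-!
# S2274, X2: `F₄(q)` in `E₆(q)` and `²E₆(q)` (helper122)

* `edat_simple` : a simple subgroup of index prime to `p`;
* `edat_e6_f4` : `E₆(q)`, `p ∣ |F₄(q)|`, `p ∤ q (q⁵ - 1) (q⁹ - 1)`;
* `edat_te6_f4` : `²E₆(q)`, `p ∣ |F₄(q)|`, `p ∤ q (q⁵ + 1) (q⁹ + 1)`.
-/

set_option autoImplicit false
set_option linter.unusedSectionVars false

namespace Cfsg.Agent.H122.S5

open Subgroup Cfsg Cfsg.Lie Cfsg.Agent.ChevalleyStructure.Elts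
open Cfsg.Agent.ChevalleyStructure

universe u

/-- **A simple subgroup of index prime to `p`.** -/
theorem edat_simple {S T : Type*} [Group S] [Finite S] [Group T] (hT : IsSimpleGroup T ∧ ¬ IsMulCommutative T)
    (f : T →* S) (hf : Function.Injective f) {p : ℕ} (hpT : p ∣ Nat.card T) {m : ℕ}
    (hS : Nat.card S ∣ Nat.card T * m) (hm : ¬ p ∣ m) (hlt : Nat.card T < Nat.card S) : EDat p S := by
  have := hT.1
  have hfT : Finite T := Finite.of_injective f hf
  have hcen : center T = ⊥ := center_bot hT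
  have hperf : commutator T = ⊤ := by
    rcases (inferInstance : (commutator T).Normal).eq_bot_or_eq_top with h | h
    · exact absurd ((commutator_eq_bot_iff_center_eq_top T).1 h) (by rw [hcen]; exact bot_ne_top)
    · exact h
  have hne : ∃ x, f x ≠ 1 := by
    obtain ⟨x, hx⟩ := exists_ne (1 : T)
    exact ⟨x, fun h => hx (hf (h.trans (map_one f).symm))⟩
  obtain ⟨h1, ⟨e⟩⟩ := qs_image (MonoidHom.id T) Function.surjective_id
    (by rw [hcen, (MonoidHom.ker_eq_bot_iff _).2 Function.injective_id]) hperf f hne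
  have hcard : Nat.card (↥f.range ⧸ center ↥f.range) = Nat.card T := Nat.card_congr e.toEquiv
  have hL : Nat.card ↥f.range = Nat.card T := (Nat.card_congr (MonoidHom.ofInjective hf).toEquiv).symm
  refine ⟨f.range, f.range, ?_, le_normalizer, h1, hcard ▸ hpT, hcard ▸ hlt⟩
  intro h2
  apply hm
  have h3 := f.range.card_mul_index
  rw [hL] at h3
  rw [← h3] at hS
  exact h2.trans (Nat.dvd_of_mul_dvd_mul_left Nat.card_pos hS)

section

variable {F : Type u} [Field F] [Fintype F] {p q : ℕ} (hq : Fintype.card F = q) (hp : p.Prime)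

include hq hp

/-- `E₆(q)` through `F₄(q)` -/
theorem edat_e6_f4 (hpF : p ∣ Nat.card ↥(chevF4.group F)) (h0 : ¬ p ∣ q) (h1 : ¬ p ∣ q ^ 5 - 1) (h2 : ¬ p ∣ q ^ 9 - 1) :
    EDat p ↥(chevE6.group F) := by
  have := finite_group (D := chevE6) F
  have := finite_group (D := chevF4) F
  have hq2 := two_le_card hq
  have hc : Nat.gcd 3 (q - 1) * Nat.card ↥(chevE6.group F) =
      Nat.card ↥(chevF4.group F) * (q ^ 12 * (q ^ 5 - 1) * (q ^ 9 - 1)) := by
    rw [S1063.result hq, S1062.result hq]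
    ring
  refine edat_simple (S1054.result chevF4 (by simp)) (H129.FE.toE6 F) (H129.FE.toE6_injective F) hpF
    (Dvd.intro_left _ hc) ?_ ?_
  · intro h
    rcases hp.dvd_mul.1 h with h | h
    · rcases hp.dvd_mul.1 h with h | h
      · exact h0 (hp.dvd_of_dvd_pow h)
      · exact h1 h
    · exact h2 h
  · have h5 : 1 ≤ q ^ 5 - 1 := Nat.one_le_iff_ne_zero.2 (pow_sub_ne hq2 (by norm_num))
    have h9 : 1 ≤ q ^ 9 - 1 := Nat.one_le_iff_ne_zero.2 (pow_sub_ne hq2 (by norm_num))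
    have hg : Nat.gcd 3 (q - 1) < q ^ 12 * (q ^ 5 - 1) * (q ^ 9 - 1) := by
      calc Nat.gcd 3 (q - 1) ≤ q - 1 := Nat.le_of_dvd (by omega) (Nat.gcd_dvd_right _ _)
        _ < q := by omega
        _ ≤ q ^ 12 := Nat.le_self_pow (by norm_num) q
        _ ≤ q ^ 12 * (q ^ 5 - 1) := Nat.le_mul_of_pos_right _ h5
        _ ≤ _ := Nat.le_mul_of_pos_right _ h9
    by_contra hcon
    push Not at hcon
    have h3 : Nat.gcd 3 (q - 1) * Nat.card ↥(chevE6.group F) <
        Nat.card ↥(chevF4.group F) * (q ^ 12 * (q ^ 5 - 1) * (q ^ 9 - 1)) := by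
      calc Nat.gcd 3 (q - 1) * Nat.card ↥(chevE6.group F) ≤ Nat.gcd 3 (q - 1) * Nat.card ↥(chevF4.group F) :=
            Nat.mul_le_mul_left _ hcon
        _ = Nat.card ↥(chevF4.group F) * Nat.gcd 3 (q - 1) := mul_comm _ _
        _ < _ := Nat.mul_lt_mul_of_pos_left hg Nat.card_pos
    exact h3.ne hc

end

section

variable {K : Type} [Field K] [Fintype K] {p q : ℕ} (hq : IsPrimePow q) (hK : Fintype.card K = q ^ 2) (hp : p.Prime)

include hq hK hp

/-- `²E₆(q)` through `F₄(q)` -/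
theorem edat_te6_f4 (hpF : p ∣ q ^ 24 * (([2, 6, 8, 12] : List ℕ).map fun d => q ^ d - 1).prod) (h0 : ¬ p ∣ q)
    (h1 : ¬ p ∣ q ^ 5 + 1) (h2 : ¬ p ∣ q ^ 9 + 1) :
    EDat p ↥(twistedE6 K q) := by
  obtain ⟨k, _, _, ι, hk, hι⟩ := Cfsg.Agent.H343.exists_subfield K hq two_ne_zero hK
  have : Finite ↥(twistedE6 K q) := by
    have : Finite (GL chevE6.Idx K) := inferInstance
    infer_instance
  have := finite_group (D := chevF4) k
  have hq2 := two_le_card hk
  have hc : Nat.gcd 3 (q + 1) * Nat.card ↥(twistedE6 K q) =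
      Nat.card ↥(chevF4.group k) * (q ^ 12 * (q ^ 5 + 1) * (q ^ 9 + 1)) := by
    rw [S1066.result hq hK, S1062.result hk]
    ring
  have hF : Nat.card ↥(chevF4.group k) = q ^ 24 * (([2, 6, 8, 12] : List ℕ).map fun d => q ^ d - 1).prod := by
    rw [S1062.result hk]
    simp only [List.map_cons, List.map_nil, List.prod_cons, List.prod_nil, mul_one, ← mul_assoc]
  refine edat_simple (S1054.result chevF4 (by simp)) (H129.FE.toTE6 ι hι) (H129.FE.toTE6_injective ι hι) (hF ▸ hpF)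
    (Dvd.intro_left _ hc) ?_ ?_
  · intro h
    rcases hp.dvd_mul.1 h with h | h
    · rcases hp.dvd_mul.1 h with h | h
      · exact h0 (hp.dvd_of_dvd_pow h)
      · exact h1 h
    · exact h2 h
  · have hg : Nat.gcd 3 (q + 1) < q ^ 12 * (q ^ 5 + 1) * (q ^ 9 + 1) := by
      calc Nat.gcd 3 (q + 1) ≤ q + 1 := Nat.le_of_dvd (by omega) (Nat.gcd_dvd_right _ _)
        _ < q ^ 5 + 1 + 1 := by
          have : q ≤ q ^ 5 := Nat.le_self_pow (by norm_num) q
          omega
        _ ≤ q ^ 12 * (q ^ 5 + 1) := by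
          have : 2 ^ 1 ≤ q ^ 12 := (Nat.pow_le_pow_right (by norm_num) (by norm_num)).trans (Nat.pow_le_pow_left hq2 12)
          have h3 : 2 * (q ^ 5 + 1) ≤ q ^ 12 * (q ^ 5 + 1) := Nat.mul_le_mul_right _ this
          omega
        _ ≤ _ := Nat.le_mul_of_pos_right _ (by positivity)
    by_contra hcon
    push Not at hcon
    have h3 : Nat.gcd 3 (q + 1) * Nat.card ↥(twistedE6 K q) <
        Nat.card ↥(chevF4.group k) * (q ^ 12 * (q ^ 5 + 1) * (q ^ 9 + 1)) := by
      calc Nat.gcd 3 (q + 1) * Nat.card ↥(twistedE6 K q) ≤ Nat.gcd 3 (q + 1) * Nat.card ↥(chevF4.group k) :=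
            Nat.mul_le_mul_left _ hcon
        _ = Nat.card ↥(chevF4.group k) * Nat.gcd 3 (q + 1) := mul_comm _ _
        _ < _ := Nat.mul_lt_mul_of_pos_left hg Nat.card_pos
    exact h3.ne hc

end

theorem not_dvd_add {p q e n : ℕ} (hq : 1 ≤ q) (h3 : 3 ≤ p) (he : orderOf ((q : ℕ) : ZMod p) = e)
    (h : e ∣ n ∨ ¬ e ∣ 2 * n) : ¬ p ∣ q ^ n + 1 := by
  intro h1
  have h0 : 1 ≤ q ^ n := Nat.one_le_pow _ _ hq
  rcases h with h | h
  · have h2 := (dvd_iff hq he n).2 h
    have h4 := Nat.dvd_sub h1 h2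
    rw [show q ^ n + 1 - (q ^ n - 1) = 2 by omega] at h4
    have := Nat.le_of_dvd (by norm_num) h4
    omega
  · apply h
    rw [← dvd_iff hq he, show q ^ (2 * n) - 1 = (q ^ n + 1) * (q ^ n - 1) by
      rw [two_mul, pow_add]
      exact Nat.mul_self_sub_mul_self_eq (q ^ n) 1]
    exact h1.mul_right _

theorem dvd_f4_num {p q e : ℕ} (hq : 1 ≤ q) (he : orderOf ((q : ℕ) : ZMod p) = e)
    (h : e ∣ 2 ∨ e ∣ 6 ∨ e ∣ 8 ∨ e ∣ 12) : p ∣ q ^ 24 * (([2, 6, 8, 12] : List ℕ).map fun d => q ^ d - 1).prod := by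
  refine Dvd.dvd.mul_left ?_ _
  simp only [List.map_cons, List.map_nil, List.prod_cons, List.prod_nil, mul_one]
  rcases h with h | h | h | h
  · exact ((dvd_iff hq he 2).2 h).mul_right _
  · exact (((dvd_iff hq he 6).2 h).mul_right _).mul_left _
  · exact ((((dvd_iff hq he 8).2 h).mul_right _).mul_left _).mul_left _
  · exact ((((dvd_iff hq he 12).2 h).mul_left _).mul_left _).mul_left _

/-- **`E₆(q)`, `e ∈ {2, 4, 6, 8, 12}`** -/
theorem edat_e6_even {F : Type u} [Field F] [Fintype F] {p q e : ℕ} (hq : Fintype.card F = q) (hp : p.Prime)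
    (he : orderOf ((q : ℕ) : ZMod p) = e) (h : e = 2 ∨ e = 4 ∨ e = 6 ∨ e = 8 ∨ e = 12) :
    EDat p ↥(chevE6.group F) := by
  have hq2 := two_le_card hq
  have h0 : 0 < e := by omega
  refine edat_e6_f4 hq hp ?_ ?_ ?_ ?_
  · rw [S1062.result hq]
    have h1 := dvd_f4_num (p := p) (q := q) (by omega) he (by
      rcases h with rfl | rfl | rfl | rfl | rfl <;> decide)
    simpa only [List.map_cons, List.map_nil, List.prod_cons, List.prod_nil, mul_one, ← mul_assoc] using h1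
  · have := not_dvd_q hp he h0 1
    rwa [pow_one] at this
  · rw [dvd_iff (by omega) he]
    rcases h with rfl | rfl | rfl | rfl | rfl <;> decide
  · rw [dvd_iff (by omega) he]
    rcases h with rfl | rfl | rfl | rfl | rfl <;> decide

/-- **`²E₆(q)`, `e ∈ {1, 3, 4, 8, 12}`** -/
theorem edat_te6 {K : Type} [Field K] [Fintype K] {p q e : ℕ} (hq : IsPrimePow q) (hK : Fintype.card K = q ^ 2)
    (hp : p.Prime) (h3 : 3 ≤ p) (he : orderOf ((q : ℕ) : ZMod p) = e) (h : e = 1 ∨ e = 3 ∨ e = 4 ∨ e = 8 ∨ e = 12) :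
    EDat p ↥(twistedE6 K q) := by
  have hq2 := hq.two_le
  have h0 : 0 < e := by omega
  refine edat_te6_f4 hq hK hp ?_ ?_ ?_ ?_
  · exact dvd_f4_num (by omega) he (by rcases h with rfl | rfl | rfl | rfl | rfl <;> decide)
  · have := not_dvd_q hp he h0 1
    rwa [pow_one] at this
  · exact not_dvd_add (by omega) h3 he (by rcases h with rfl | rfl | rfl | rfl | rfl <;> decide)
  · exact not_dvd_add (by omega) h3 he (by rcases h with rfl | rfl | rfl | rfl | rfl <;> decide)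

end Cfsg.Agent.H122.S5
end

-- part: H790/Str/E8
section
/-!
# Strong pairs: `E₈(q)`, `e = 6, 8, 10, 12` (helper790, S2274)
-/

set_option autoImplicit false
set_option linter.unusedSectionVars false

universe u

namespace Cfsg.Agent.H790.Str.E8

open CoxeterSystem Cfsg.Agent.ChevalleyStructure.CoxeterGeom Cfsg.Agent.Tits.Roots Cfsg.Agent.Tits.Core
  Cfsg.Agent.Nodes.BNOf Cfsg.Agent.Nodes.Bruhat
open Cfsg.Lie Cfsg.Agent.ChevalleyStructure Cfsg.Agent.ChevalleyStructure.CoxeterGeomTypes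
open Cfsg.Agent.Nodes.RGDChev Cfsg.Agent.H35.ExcIdx
open Cfsg.Agent.H934.RowOrb Cfsg.Agent.H505.Cop.E8Num
open Cfsg.Agent.H172.SI (nm)
open Cfsg.Agent.H35.PoinNum (pr pr_cons pr_nil)

/-- the degrees -/
def dS : List ℕ := [2, 8, 12, 14, 18, 20, 24, 30]

/-- the degrees of the maximal parabolic subgroups -/
def dJ : Fin 8 → List ℕ := ![[1, 2, 4, 6, 8, 10, 12, 7], [1, 2, 3, 4, 5, 6, 7, 8], [1, 2, 2, 3, 4, 5, 6, 7],
  [1, 2, 3, 2, 2, 3, 4, 5], [1, 2, 3, 4, 5, 2, 3, 4], [1, 2, 4, 5, 6, 8, 2, 3], [1, 2, 5, 6, 8, 9, 12, 2],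
  [1, 2, 6, 8, 10, 12, 14, 18]]

section Par

variable {K : Type} [Field K] [Fintype K] {r f : ℕ} (hr : r.Prime) (hf : f ≠ 0)
  (hK : Fintype.card K = r ^ f) [CharP K r]

include hr hf hK in
theorem idx_all (i : Fin 8) : (PC hpE8 K {j | j ≠ i}).index * pr (r ^ f) (dJ i) = pr (r ^ f) dS := by
  fin_cases i
  · exact idx_0 hr hf hK
  · exact idx_1 hr hf hK
  · exact idx_2 hr hf hK
  · exact idx_3 hr hf hK
  · exact idx_4 hr hf hK
  · exact idx_5 hr hf hK
  · exact idx_6 hr hf hK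
  · exact idx_7 hr hf hK

/-- the numerical conditions -/
def NumOK (e : ℕ) : Prop :=
  (∀ k ∈ dS, e ∣ k → k ∣ 30 ^ 5) ∧ (∀ i, ∀ k ∈ dJ i, e ∣ k → k ∣ 30 ^ 5) ∧ ∀ i, nm e (dJ i) < nm e dS

instance (e : ℕ) : Decidable (NumOK e) := by unfold NumOK; infer_instance

include hr hf hK in
theorem idxOK {p e : ℕ} [Fact p.Prime] (h7 : 7 ≤ p) (hn : NumOK e) : Idx hpE8 K (r ^ f) p e dS dJ where
  idx := idx_all hr hf hK
  posS := by decide
  posJ := by decide
  wS k hk h := ndvd_of' h7 (hn.1 k hk h)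
  wJ i k hk h := ndvd_of' h7 (hn.2.1 i k hk h)
  lt := hn.2.2

theorem orbD5y : OrbOK AE [0, 1, 2, 3, 4] 0 LD5x := by constructor <;> decide +kernel

theorem path_y : PathOK CoxeterMatrix.E₈ [1, 2, 3] [1, 3, 2] [] 0 := path_0_4

include hr hf hK in
theorem idx_D5 : (PC hpE8 K {j | j ∈ ([0, 1, 2, 3, 4] : List (Fin 8))}).index * pr (r ^ f) [1, 1, 1, 2, 4, 5, 6, 8] =
    pr (r ^ f) dS := by
  have hq : 1 ≤ r ^ f := Nat.one_le_pow _ _ hr.pos
  have hr' : Fact r.Prime := ⟨hr⟩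
  have hA : AE = cartanOf chevE8 8 := cartan_eq.symm
  have hfin := finite_W hpE8 CoxeterMatrix.E₈.toCoxeterSystem
  refine idx_of' hr hf hK (card_orbit hR (hA ▸ orbD5y) (f := fun _ => r ^ f) (hX hK) (JL' := [1, 2, 3, 4]) (by decide) (card_orbit hR (hA ▸ orbD4) (f := fun _ => r ^ f) (hX hK) (JL' := [1, 2, 3]) (by decide) (card_step hR path_y (fun i _ => hX hK i) (card_nil hR)))) ?_
  simp only [pr_cons, pr_nil, ← br_mul hq]
  generalize r ^ f = q
  simp only [sum_D4, sum_D5x, FA_eq, List.length_cons, List.length_nil, Finset.prod_range_succ, Finset.prod_range_zero, Nat.reduceAdd]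
  have e6 := br_6 q
  have e8 := br_8 q
  have e10 := br_10 q
  have e12 := br_12 q
  have e18 := br_18 q
  have e1 : br 1 q = 1 := by simp [br]
  simp only [e6, e8, e10, e12, e18, e1]
  ring

include hr hf hK in
theorem idx_D6 : (PC hpE8 K {j | j ∈ ([1, 2, 3, 4, 5, 6] : List (Fin 8))}).index * pr (r ^ f) [1, 1, 2, 4, 6, 8, 10, 6] =
    pr (r ^ f) dS := by
  have hq : 1 ≤ r ^ f := Nat.one_le_pow _ _ hr.pos
  have hr' : Fact r.Prime := ⟨hr⟩
  have hA : AE = cartanOf chevE8 8 := cartan_eq.symm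
  have hfin := finite_W hpE8 CoxeterMatrix.E₈.toCoxeterSystem
  refine idx_of' hr hf hK (card_orbit hR (hA ▸ orbD6) (f := fun _ => r ^ f) (hX hK) (JL' := [1, 2, 3, 4, 5]) (by decide) (card_orbit hR (hA ▸ orbD5) (f := fun _ => r ^ f) (hX hK) (JL' := [1, 2, 3, 4]) (by decide) (card_orbit hR (hA ▸ orbD4) (f := fun _ => r ^ f) (hX hK) (JL' := [1, 2, 3]) (by decide) (card_step hR path_y (fun i _ => hX hK i) (card_nil hR))))) ?_
  simp only [pr_cons, pr_nil, ← br_mul hq]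
  generalize r ^ f = q
  simp only [sum_D4, sum_D5, sum_D6, FA_eq, List.length_cons, List.length_nil, Finset.prod_range_succ, Finset.prod_range_zero, Nat.reduceAdd]
  have e6 := br_6 q
  have e8 := br_8 q
  have e10 := br_10 q
  have e12 := br_12 q
  have e18 := br_18 q
  have e1 : br 1 q = 1 := by simp [br]
  simp only [e6, e8, e10, e12, e18, e1]
  ring

include hr hf hK in
theorem idx_E6 : (PC hpE8 K {j | j ∈ ([0, 1, 2, 3, 4, 5] : List (Fin 8))}).index * pr (r ^ f) [1, 1, 2, 5, 6, 8, 9, 12] =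
    pr (r ^ f) dS := by
  have hq : 1 ≤ r ^ f := Nat.one_le_pow _ _ hr.pos
  have hr' : Fact r.Prime := ⟨hr⟩
  have hA : AE = cartanOf chevE8 8 := cartan_eq.symm
  have hfin := finite_W hpE8 CoxeterMatrix.E₈.toCoxeterSystem
  refine idx_of' hr hf hK (card_orbit hR (hA ▸ orbE6) (f := fun _ => r ^ f) (hX hK) (JL' := [1, 2, 3, 4, 5]) (by decide) (card_orbit hR (hA ▸ orbD5) (f := fun _ => r ^ f) (hX hK) (JL' := [1, 2, 3, 4]) (by decide) (card_orbit hR (hA ▸ orbD4) (f := fun _ => r ^ f) (hX hK) (JL' := [1, 2, 3]) (by decide) (card_step hR path_y (fun i _ => hX hK i) (card_nil hR))))) ?_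
  simp only [pr_cons, pr_nil, ← br_mul hq]
  generalize r ^ f = q
  simp only [sum_D4, sum_D5, sum_E6, FA_eq, List.length_cons, List.length_nil, Finset.prod_range_succ, Finset.prod_range_zero, Nat.reduceAdd]
  have e6 := br_6 q
  have e8 := br_8 q
  have e10 := br_10 q
  have e12' := br_12' q
  have e18 := br_18 q
  have e1 : br 1 q = 1 := by simp [br]
  simp only [e6, e8, e10, e12', e18, e1]
  ring

theorem orders {q : ℕ} (hK : Fintype.card K = q) : 1 * Nat.card ↥(chevE8.group K) = q ^ 120 * pr q dS := by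
  have h3 := Cfsg.Agent.S1065.result hK
  unfold dS
  simp only [pr_cons, pr_nil]
  rw [one_mul, h3]
  ring

theorem num8 : H62.PPChev.num chevE8 (7 : Fin 8) % 6 = 3 := by decide +kernel

theorem o1 : orth1 chevE8 ([0, 1, 2, 3, 4] : List (Fin 8)) 239 = true := by (delta Cfsg.Agent.H790.Str.orth1; rewrite [H90F.ct_fun, H90F.rr_fun, H90F.ng_fun, H90F.si_fun, H90F.al_fun]; decide +kernel)
theorem o2 : orth1 chevE8 ([0, 1, 2, 3, 4] : List (Fin 8)) 238 = true := by (delta Cfsg.Agent.H790.Str.orth1; rewrite [H90F.ct_fun, H90F.rr_fun, H90F.ng_fun, H90F.si_fun, H90F.al_fun]; decide +kernel)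
theorem o3 : orth1 chevE8 ([1, 2, 3, 4, 5, 6] : List (Fin 8)) 239 = true := by (delta Cfsg.Agent.H790.Str.orth1; rewrite [H90F.ct_fun, H90F.rr_fun, H90F.ng_fun, H90F.si_fun, H90F.al_fun]; decide +kernel)
theorem o4 : orth1 chevE8 ([1, 2, 3, 4, 5, 6] : List (Fin 8)) 226 = true := by (delta Cfsg.Agent.H790.Str.orth1 Cfsg.Lie.ChevalleyDatum.chainRoot Cfsg.Lie.ChevalleyDatum.reflectRoot; rewrite [Cfsg.Agent.ChevFast.E8.cartan, Cfsg.Agent.ChevFast.E8.chainEntry, Cfsg.Agent.ChevFast.E8.commTerms, Cfsg.Agent.ChevFast.E8.neg]; decide +kernel)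
theorem o5 : orth1 chevE8 ([0, 1, 2, 3, 4, 5] : List (Fin 8)) 239 = true := by (delta Cfsg.Agent.H790.Str.orth1 Cfsg.Lie.ChevalleyDatum.chainRoot Cfsg.Lie.ChevalleyDatum.reflectRoot; rewrite [Cfsg.Agent.ChevFast.E8.cartan, Cfsg.Agent.ChevFast.E8.chainEntry, Cfsg.Agent.ChevFast.E8.commTerms, Cfsg.Agent.ChevFast.E8.neg]; decide +kernel)
theorem o6 : orth1 chevE8 ([0, 1, 2, 3, 4, 5] : List (Fin 8)) 238 = true := by (delta Cfsg.Agent.H790.Str.orth1; rewrite [H90F.ct_fun, H90F.rr_fun, H90F.ng_fun, H90F.si_fun, H90F.al_fun]; decide +kernel)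
theorem o7 : orth2 chevE8 239 238 = true := by (delta Cfsg.Agent.H790.Str.orth2; rewrite [Cfsg.Agent.ChevFast.E8.commTerms, Cfsg.Agent.ChevFast.E8.neg]; decide +kernel)
theorem o8 : orth2 chevE8 239 226 = true := by (delta Cfsg.Agent.H790.Str.orth2; rewrite [Cfsg.Agent.ChevFast.E8.commTerms, Cfsg.Agent.ChevFast.E8.neg]; decide +kernel)

end Par

section Row

open Cfsg.Agent.H132.S5 Cfsg.Agent.H533.T5

variable {p : ℕ} [hpp : Fact p.Prime]

theorem lists : ((chevE8, dS) : ChevalleyDatum × List ℕ) ∈ [(Cfsg.Lie.chevG2, [2, 6]), (Cfsg.Lie.chevB2, [2, 4]), (Cfsg.Lie.chevD4, [2, 4, 4, 6]), (Cfsg.Lie.chevF4, [2, 6, 8, 12]),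
      (Cfsg.Lie.chevE6, [2, 5, 6, 8, 9, 12]), (Cfsg.Lie.chevE7, [2, 6, 8, 10, 12, 14, 18]), (Cfsg.Lie.chevE8, [2, 8, 12, 14, 18, 20, 24, 30])] := by
  simp [dS]

/-- `p ≥ 11`, or `p = 7` and `e = 6` -/
theorem cases_p {e : ℕ} (h : e ∣ p - 1) (he : e = 6 ∨ e = 8 ∨ e = 10 ∨ e = 12) : 11 ≤ p ∨ p = 7 ∧ e = 6 := by
  by_cases h11 : 11 ≤ p
  · exact Or.inl h11
  right
  have h1 : p < 11 := by omega
  have h2 := hpp.out
  have h3 : 0 < p - 1 := by have := h2.two_le; omega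
  have h4 := Nat.le_of_dvd h3 h
  interval_cases p
  all_goals first | (clear * - h3 he h4; omega) | (exfalso; revert h2; norm_num; done)

/-- **`E₈(q)`, `e = 6, 8, 10, 12`: commutative Sylow subgroups.** -/
theorem comm {F : Type} [Field F] [Fintype F] (hF : ¬ p ∣ Fintype.card F) {e : ℕ}
    (he : orderOf (Fintype.card F : ZMod p) = e) (h4 : e = 6 ∨ e = 8 ∨ e = 10 ∨ e = 12)
    (P : Sylow p ↥(chevE8.group F)) : (IsMulCommutative ↥(P : Subgroup ↥(chevE8.group F)) :) := by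
  rcases cases_p (lt_of_order hF he) h4 with h11 | ⟨rfl, rfl⟩
  · exact comm_of_2378 rfl lists hF (ndvd_of (n := 14) h11 (by decide)) P
  · exact Cfsg.Agent.H28.T5TorRows.comm_E8_six he P

/-- **`E₈(q)`, `e = 6, 8, 10, 12`: strong pairs.** -/
theorem spair (B : SBox.{u} p) {S : Type u} [Group S] [Finite S] [IsSimpleGroup S] (hna : ¬ IsMulCommutative S)
    (hlt : SBelow.{u} p (Nat.card S)) {F : Type} [Field F] [Fintype F] (hF : ¬ p ∣ Fintype.card F)
    (E : S ≃* ↥(chevE8.group F)) {e : ℕ} (he : orderOf (Fintype.card F : ZMod p) = e)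
    (h4 : e = 6 ∨ e = 8 ∨ e = 10 ∨ e = 12) {x y : S} (hx : orderOf x = p) (hy : orderOf y = p) :
    SPair p (⊤ : Subgroup S) x y := by
  obtain ⟨r, hcr⟩ := CharP.exists F
  have hr : r.Prime := CharP.char_is_prime F r
  have hfr : Fact r.Prime := ⟨hr⟩
  obtain ⟨⟨f, hf0⟩, -, hK⟩ := FiniteField.card F r
  have hK : Fintype.card F = r ^ f := hK
  have hf : f ≠ 0 := hf0.ne'
  have hpq : ¬ p ∣ r ^ f := by rwa [← hK]
  have he' : orderOf ((r ^ f : ℕ) : ZMod p) = e := by rwa [← hK]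
  have hq2 := two_le hr hf
  have hc := cases_p (lt_of_order hF he) h4
  have h7 : 7 ≤ p := by omega
  have h2 : Odd p := hpp.out.odd_of_ne_two (by omega)
  have h2' : p ≠ 2 := by omega
  have hrp : r ≠ p := by
    rintro rfl
    exact hpq (dvd_pow_self r hf)
  have he0 : e ≠ 0 := by omega
  have hn : NumOK e := by
    rcases h4 with rfl | rfl | rfl | rfl <;> decide
  have hn2 : 2 ≤ nm e dS := by
    rcases h4 with rfl | rfl | rfl | rfl <;> decide
  have hI := idxOK hr hf hK (p := p) h7 hn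
  have hC : CardOK chevE8 F (r ^ f) p e dS :=
    cardOK_of h2 hpq hq2 he' hI.posS hI.wS (orders hK) (fun h => hpp.out.one_lt.ne' (Nat.dvd_one.1 h))
  have ha := one_le_padic (p := p) hq2 he' he0
  have hab := comm_congr E (comm hF he h4)
  have hH : Hom p (padicValNat p ((r ^ f) ^ e - 1)) ↥(chevE8.group F) := by
    rcases hc with h11 | ⟨rfl, rfl⟩
    · exact hom_of_2378 hK lists hpq (ndvd_of (n := 14) h11 (by decide)) he' hC (by omega) ha
    · refine hom_of_irr B hna hab E ha ?_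
      have h5 := order_E8_six (F := F) he
      rwa [hK] at h5
  have hcd : ∃ (P : Sylow p ↥(chevE8.group F)) (H V : Subgroup ↥(chevE8.group F)),
      (CD p r (P : Subgroup ↥(chevE8.group F)) H V :) := by
    rcases h4 with h | h | h | h
    · refine chev_six hpE8 hr hf hK h2 hpq he' h hI hC hH (i0 := 7) ?_ num8 hn2
      subst h; decide
    · refine chev_two hpE8 hr hf hK h2 hpq he' (by omega) hI hC hH hn2 (idx_D5 hr hf hK) (by decide) ?_ ?_ o1 o2 o7
      · intro k hk hek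
        refine ndvd_of' (n := 5) h7 ?_
        subst h
        revert k
        decide
      · subst h; decide
    · refine chev_two hpE8 hr hf hK h2 hpq he' (by omega) hI hC hH hn2 (idx_D6 hr hf hK) (by decide) ?_ ?_ o3 o4 o8
      · intro k hk hek
        refine ndvd_of' (n := 5) h7 ?_
        subst h
        revert k
        decide
      · subst h; decide
    · refine chev_two hpE8 hr hf hK h2 hpq he' (by omega) hI hC hH hn2 (idx_E6 hr hf hK) (by decide) ?_ ?_ o5 o6 o7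
      · intro k hk hek
        refine ndvd_of' (n := 5) h7 ?_
        subst h
        revert k
        decide
      · subst h; decide
  exact spair_of_equiv h2' B hna hlt hab E hrp hcd hx hy

end Row

end Cfsg.Agent.H790.Str.E8
end

-- part: H790/Str/E67
section
/-!
# Strong pairs: `E₆(q)`, `E₇(q)`, `e = 6` (helper790, S2274)
-/

set_option autoImplicit false
set_option linter.unusedSectionVars false

universe u

namespace Cfsg.Agent.H790.Str

open CoxeterSystem Cfsg.Agent.ChevalleyStructure.CoxeterGeom Cfsg.Agent.Tits.Roots Cfsg.Agent.Tits.Core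
  Cfsg.Agent.Nodes.BNOf Cfsg.Agent.Nodes.Bruhat
open Cfsg.Lie Cfsg.Agent.ChevalleyStructure Cfsg.Agent.ChevalleyStructure.CoxeterGeomTypes
open Cfsg.Agent.Nodes.RGDChev Cfsg.Agent.H35.ExcIdx
open Cfsg.Agent.H172.SI (nm)
open Cfsg.Agent.H35.PoinNum (pr pr_cons pr_nil)
open Cfsg.Agent.H132.S5 Cfsg.Agent.H533.T5

/-- the general form: `e = 6` -/
theorem spair_six {D : ChevalleyDatum} {l : ℕ} {M : CoxeterMatrix (Fin l)} (hp : IsType D l M) {p : ℕ}
    [hpp : Fact p.Prime] (B : SBox.{u} p) {S : Type u} [Group S] [Finite S] [IsSimpleGroup S]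
    (hna : ¬ IsMulCommutative S) (hlt : SBelow.{u} p (Nat.card S)) {F : Type} [Field F] [Fintype F]
    (hF : ¬ p ∣ Fintype.card F) (E : S ≃* ↥(D.group F)) (he : orderOf (Fintype.card F : ZMod p) = 6)
    {dS : List ℕ} {dJ : Fin l → List ℕ} {g N : ℕ} (hg : g ∣ 6)
    (hX : g * Nat.card ↥(D.group F) = Fintype.card F ^ N * pr (Fintype.card F) dS)
    (hidx : ∀ {r f : ℕ} (_ : r.Prime) (_ : f ≠ 0) (_ : Fintype.card F = r ^ f) [CharP F r], ∀ i : Fin l,
      (PC hp F {j | j ≠ i}).index * pr (r ^ f) (dJ i) = pr (r ^ f) dS)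
    (hp0 : ∀ k ∈ dS, 0 < k) (hp1 : ∀ i, ∀ k ∈ dJ i, 0 < k)
    (hw0 : ∀ k ∈ dS, 6 ∣ k → k ∣ 30 ^ 5) (hw1 : ∀ i, ∀ k ∈ dJ i, 6 ∣ k → k ∣ 30 ^ 5)
    (hn : ∀ i, nm 6 (dJ i) < nm 6 dS) (hn2 : 2 ≤ nm 6 dS) {i0 : Fin l} (hi0 : nm 6 dS = nm 6 (dJ i0) + 1)
    (hnum : H62.PPChev.num D i0 % 6 = 3)
    (hab : ∀ P : Sylow p ↥(D.group F), (IsMulCommutative ↥(P : Subgroup ↥(D.group F)) :))
    (hH : (∀ P : Sylow p S, IsMulCommutative ↥(P : Subgroup S)) → CardOK D F (Fintype.card F) p 6 dS →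
      1 ≤ padicValNat p (Fintype.card F ^ 6 - 1) → Hom p (padicValNat p (Fintype.card F ^ 6 - 1)) ↥(D.group F))
    {x y : S} (hx : orderOf x = p) (hy : orderOf y = p) : SPair p (⊤ : Subgroup S) x y := by
  obtain ⟨r, hcr⟩ := CharP.exists F
  have hr : r.Prime := CharP.char_is_prime F r
  have hfr : Fact r.Prime := ⟨hr⟩
  obtain ⟨⟨f, hf0⟩, -, hK⟩ := FiniteField.card F r
  have hK : Fintype.card F = r ^ f := hK
  have hf : f ≠ 0 := hf0.ne'
  have hpq : ¬ p ∣ r ^ f := by rwa [← hK]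
  have he' : orderOf ((r ^ f : ℕ) : ZMod p) = 6 := by rwa [← hK]
  have hq2 := two_le hr hf
  have h7 : 7 ≤ p := by
    have h3 : 0 < p - 1 := by have := hpp.out.two_le; omega
    have := Nat.le_of_dvd h3 (lt_of_order hF he)
    omega
  have h2 : Odd p := hpp.out.odd_of_ne_two (by omega)
  have h2' : p ≠ 2 := by omega
  have hrp : r ≠ p := by
    rintro rfl
    exact hpq (dvd_pow_self r hf)
  have hI : Idx hp F (r ^ f) p 6 dS dJ :=
    { idx := hidx hr hf hK
      posS := hp0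
      posJ := hp1
      wS := fun k hk h => ndvd_of' h7 (hw0 k hk h)
      wJ := fun i k hk h => ndvd_of' h7 (hw1 i k hk h)
      lt := hn }
  have hC : CardOK D F (r ^ f) p 6 dS :=
    cardOK_of h2 hpq hq2 he' hI.posS hI.wS (by rw [hX, hK]) (ndvd_six (n := 1) (by omega) (by rwa [pow_one]))
  have ha := one_le_padic (p := p) hq2 he' (by norm_num)
  have hab' := comm_congr E hab
  have hH' : Hom p (padicValNat p ((r ^ f) ^ 6 - 1)) ↥(D.group F) := by
    have h3 := hH hab' (by rw [hK]; exact hC) (by rw [hK]; exact ha)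
    rwa [hK] at h3
  exact spair_of_equiv h2' B hna hlt hab' E hrp (chev_six hp hr hf hK h2 hpq he' rfl hI hC hH' hi0 hnum hn2) hx hy

theorem lists7 : ((chevE7, [2, 6, 8, 10, 12, 14, 18]) : ChevalleyDatum × List ℕ) ∈ [(Cfsg.Lie.chevG2, [2, 6]), (Cfsg.Lie.chevB2, [2, 4]), (Cfsg.Lie.chevD4, [2, 4, 4, 6]), (Cfsg.Lie.chevF4, [2, 6, 8, 12]),
      (Cfsg.Lie.chevE6, [2, 5, 6, 8, 9, 12]), (Cfsg.Lie.chevE7, [2, 6, 8, 10, 12, 14, 18]), (Cfsg.Lie.chevE8, [2, 8, 12, 14, 18, 20, 24, 30])] := by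
  simp

theorem lists6 : ((chevE6, [2, 5, 6, 8, 9, 12]) : ChevalleyDatum × List ℕ) ∈ [(Cfsg.Lie.chevG2, [2, 6]), (Cfsg.Lie.chevB2, [2, 4]), (Cfsg.Lie.chevD4, [2, 4, 4, 6]), (Cfsg.Lie.chevF4, [2, 6, 8, 12]),
      (Cfsg.Lie.chevE6, [2, 5, 6, 8, 9, 12]), (Cfsg.Lie.chevE7, [2, 6, 8, 10, 12, 14, 18]), (Cfsg.Lie.chevE8, [2, 8, 12, 14, 18, 20, 24, 30])] := by
  simp

theorem num7 : H62.PPChev.num chevE7 (0 : Fin 7) % 6 = 3 := by decide +kernel
theorem num6 : H62.PPChev.num chevE6 (1 : Fin 6) % 6 = 3 := by decide +kernel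

section Rows

variable {p : ℕ} [hpp : Fact p.Prime]

theorem seven_or {q : ℕ} (hF : ¬ p ∣ q) (he : orderOf (q : ZMod p) = 6) : 11 ≤ p ∨ p = 7 := by
  by_cases h11 : 11 ≤ p
  · exact Or.inl h11
  right
  have h2 := hpp.out
  have h3 : 0 < p - 1 := by have := h2.two_le; omega
  have h4 := Nat.le_of_dvd h3 (lt_of_order hF he)
  have h1 : p < 11 := by omega
  interval_cases p
  all_goals first | omega | (exfalso; revert h2; norm_num; done)

theorem comm_e7 {F : Type} [Field F] [Fintype F] (hF : ¬ p ∣ Fintype.card F)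
    (he : orderOf (Fintype.card F : ZMod p) = 6) (P : Sylow p ↥(chevE7.group F)) :
    (IsMulCommutative ↥(P : Subgroup ↥(chevE7.group F)) :) := by
  rcases seven_or hF he with h11 | rfl
  · exact comm_of_2378 rfl lists7 hF (ndvd_of (n := 14) h11 (by decide)) P
  · exact Cfsg.Agent.H28.T5TorRows.comm_E7_six he P

theorem comm_e6 {F : Type} [Field F] [Fintype F] (hF : ¬ p ∣ Fintype.card F)
    (he : orderOf (Fintype.card F : ZMod p) = 6) (P : Sylow p ↥(chevE6.group F)) :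
    (IsMulCommutative ↥(P : Subgroup ↥(chevE6.group F)) :) := by
  have h7 : 7 ≤ p := by rcases seven_or hF he with h | h <;> omega
  exact comm_of_2378 rfl lists6 hF (ndvd_of' (n := 14) h7 (by decide)) P

/-- **`E₇(q)`, `e = 6`.** -/
theorem spair_e7 (B : SBox.{u} p) {S : Type u} [Group S] [Finite S] [IsSimpleGroup S] (hna : ¬ IsMulCommutative S)
    (hlt : SBelow.{u} p (Nat.card S)) {F : Type} [Field F] [Fintype F] (hF : ¬ p ∣ Fintype.card F)
    (E : S ≃* ↥(chevE7.group F)) (he : orderOf (Fintype.card F : ZMod p) = 6)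
    {x y : S} (hx : orderOf x = p) (hy : orderOf y = p) : SPair p (⊤ : Subgroup S) x y := by
  refine spair_six hpE7 B hna hlt hF E he (dS := [2, 6, 8, 10, 12, 14, 18])
    (dJ := ![[1, 2, 4, 6, 8, 10, 6], [1, 2, 3, 4, 5, 6, 7], [1, 2, 2, 3, 4, 5, 6], [1, 2, 3, 2, 2, 3, 4],
      [1, 2, 3, 4, 5, 2, 3], [1, 2, 4, 6, 8, 5, 2], [1, 2, 5, 6, 8, 9, 12]]) (g := Nat.gcd 2 (Fintype.card F - 1))
    (N := 63) ((Nat.gcd_dvd_left _ _).trans (by norm_num)) ?_ ?_ (by decide) (by decide) (by decide) (by decide)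
    (by decide) (by decide) (i0 := 0) (by decide) num7 (comm_e7 hF he) ?_ hx hy
  · have h3 := Cfsg.Agent.S1064.result (F := F) rfl
    simp only [pr_cons, pr_nil]
    rw [h3]
    ring
  · intro r f hr hf hK hcr i
    fin_cases i
    · exact Cfsg.Agent.H505.Cop.E7Num.idx_0 hr hf hK
    · exact Cfsg.Agent.H505.Cop.E7Num.idx_1 hr hf hK
    · exact Cfsg.Agent.H505.Cop.E7Num.idx_2 hr hf hK
    · exact Cfsg.Agent.H505.Cop.E7Num.idx_3 hr hf hK
    · exact Cfsg.Agent.H505.Cop.E7Num.idx_4 hr hf hK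
    · exact Cfsg.Agent.H505.Cop.E7Num.idx_5 hr hf hK
    · exact Cfsg.Agent.H505.Cop.E7Num.idx_6 hr hf hK
  · intro hab hC ha
    rcases seven_or hF he with h11 | rfl
    · exact hom_of_2378 rfl lists7 hF (ndvd_of (n := 14) h11 (by decide)) he hC (by decide) ha
    · exact hom_of_irr B hna hab E ha (order_E7_six he)

/-- **`E₆(q)`, `e = 6`.** -/
theorem spair_e6 (B : SBox.{u} p) {S : Type u} [Group S] [Finite S] [IsSimpleGroup S] (hna : ¬ IsMulCommutative S)
    (hlt : SBelow.{u} p (Nat.card S)) {F : Type} [Field F] [Fintype F] (hF : ¬ p ∣ Fintype.card F)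
    (E : S ≃* ↥(chevE6.group F)) (he : orderOf (Fintype.card F : ZMod p) = 6)
    {x y : S} (hx : orderOf x = p) (hy : orderOf y = p) : SPair p (⊤ : Subgroup S) x y := by
  have h7 : 7 ≤ p := by rcases seven_or hF he with h | h <;> omega
  refine spair_six hpE6 B hna hlt hF E he (dS := [2, 5, 6, 8, 9, 12])
    (dJ := ![[1, 2, 4, 6, 8, 5], [1, 2, 3, 4, 5, 6], [1, 2, 2, 3, 4, 5], [1, 2, 3, 2, 2, 3], [1, 2, 3, 4, 5, 2],
      [1, 2, 4, 6, 8, 5]]) (g := Nat.gcd 3 (Fintype.card F - 1))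
    (N := 36) ((Nat.gcd_dvd_left _ _).trans (by norm_num)) ?_ ?_ (by decide) (by decide) (by decide) (by decide)
    (by decide) (by decide) (i0 := 1) (by decide) num6 (comm_e6 hF he) ?_ hx hy
  · have h3 := Cfsg.Agent.S1063.result (F := F) rfl
    simp only [pr_cons, pr_nil]
    rw [h3]
    ring
  · intro r f hr hf hK hcr i
    fin_cases i
    · exact Cfsg.Agent.H505.Cop.E6Num.idx_0 hr hf hK
    · exact Cfsg.Agent.H505.Cop.E6Num.idx_1 hr hf hK
    · exact Cfsg.Agent.H505.Cop.E6Num.idx_2 hr hf hK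
    · exact Cfsg.Agent.H505.Cop.E6Num.idx_3 hr hf hK
    · exact Cfsg.Agent.H505.Cop.E6Num.idx_4 hr hf hK
    · exact Cfsg.Agent.H505.Cop.E6Num.idx_5 hr hf hK
  · intro hab hC ha
    exact hom_of_2378 rfl lists6 hF (ndvd_of' (n := 14) h7 (by decide)) he hC (by decide) ha

end Rows

end Cfsg.Agent.H790.Str
end

-- part: H790/Str/F4
section
/-!
# Strong pairs: `F₄(q)`, `e = 4, 6` (helper790, S2274)
-/

set_option autoImplicit false
set_option linter.unusedSectionVars false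

universe u

namespace Cfsg.Agent.H790.Str.F4

open CoxeterSystem Cfsg.Agent.ChevalleyStructure.CoxeterGeom Cfsg.Agent.Tits.Roots Cfsg.Agent.Tits.Core
  Cfsg.Agent.Nodes.BNOf Cfsg.Agent.Nodes.Bruhat
open Cfsg.Lie Cfsg.Agent.ChevalleyStructure Cfsg.Agent.ChevalleyStructure.CoxeterGeomTypes
open Cfsg.Agent.Nodes.RGDChev Cfsg.Agent.H35.ExcIdx
open Cfsg.Agent.H934.RowOrb Cfsg.Agent.H976.RowFG
open Cfsg.Agent.H172.SI (nm)
open Cfsg.Agent.H35.PoinNum (pr pr_cons pr_nil)

/-- the degrees -/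
def dS : List ℕ := [2, 6, 8, 12]

/-- the degrees of the maximal parabolic subgroups -/
def dJ : Fin 4 → List ℕ := ![[1, 2, 4, 6], [1, 2, 2, 3], [1, 2, 2, 3], [1, 2, 4, 6]]

section Par

variable {K : Type} [Field K] [Fintype K] {r f : ℕ} (hr : r.Prime) (hf : f ≠ 0)
  (hK : Fintype.card K = r ^ f) [CharP K r]

include hr hf hK in
theorem idx_of {J : Set (Fin 4)} {N : ℕ} (hN : Nat.card ↥(PC hpF4 K J) =
      N * Nat.card ↥(RGD.B CoxeterMatrix.F₄.toCoxeterSystem hpF4.isCartan (TT chevF4 K) (XX chevF4 4 K)))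
    {dJ : List ℕ} (h : N * (r ^ f - 1) ^ 4 = pr (r ^ f) dJ) :
    (PC hpF4 K J).index * pr (r ^ f) dJ = pr (r ^ f) dS := by
  rw [← h, ← mul_assoc]
  refine index_split hpF4 K hr hf hK CoxeterMatrix.F₄.toCoxeterSystem (d := 1) ?_ ?_ ⟨f * 24, ?_⟩
    (not_dvd_pr hr hf _ (by decide)) hN
  · rw [Nat.dvd_one]; exact hr.one_lt.ne'
  · rw [← hK]; exact Cfsg.Agent.S1035.result rfl (chevF4, 1) (by simp only [_root_.List.mem_cons, _root_.Prod.mk.injEq, _root_.and_true, _root_.List.not_mem_nil, _root_.or_false, _root_.true_or, _root_.or_true])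
  · have h3 := Cfsg.Agent.S1062.result hK
    rw [pow_mul]
    unfold dS
    simp only [pr_cons, pr_nil]
    rw [one_mul, h3]
    ring

include hr hf hK in
theorem cards : Nat.card ↥(PC hpF4 K {j | j ∈ ([1, 2] : List (Fin 4))}) = (Sg (r ^ f) 4 * Sg (r ^ f) 2) *
      Nat.card ↥(RGD.B CoxeterMatrix.F₄.toCoxeterSystem hpF4.isCartan (TT chevF4 K) (XX chevF4 4 K)) := by
  have hfr : Fact r.Prime := ⟨hr⟩
  have hfin := finite_W hpF4 CoxeterMatrix.F₄.toCoxeterSystem
  have hR := rgd (K := K) hpF4 CoxeterMatrix.F₄.toCoxeterSystem r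
  have hc : ∀ i, Nat.card (XX chevF4 4 K (sr i)) = r ^ f := fun i => by
    rw [card_XX hpF4 K CoxeterMatrix.F₄.toCoxeterSystem (isRoot_sr _ _ i), Nat.card_eq_fintype_card, hK]
  have hFA : FA [(2 : Fin 4)].length (r ^ f) * 1 = Sg (r ^ f) 2 := by simp [FA, Sg, Finset.sum_range_succ]
  have hN2 := card_step hR path2 (fun i _ => hc i) (card_nil hR)
  rw [hFA] at hN2
  have hN12 := card_orbit hR orb1 (f := fun _ => r ^ f) hc (JL' := [2]) (by decide) hN2
  rwa [sum_L1] at hN12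

include hr hf hK in
theorem idx_all (i : Fin 4) : (PC hpF4 K {j | j ≠ i}).index * pr (r ^ f) (dJ i) = pr (r ^ f) dS := by
  have hfr : Fact r.Prime := ⟨hr⟩
  have hfin := finite_W hpF4 CoxeterMatrix.F₄.toCoxeterSystem
  have hR := rgd (K := K) hpF4 CoxeterMatrix.F₄.toCoxeterSystem r
  have h1 : 1 ≤ r ^ f := Nat.one_le_pow _ _ hr.pos
  have hc : ∀ i, Nat.card (XX chevF4 4 K (sr i)) = r ^ f := fun i => by
    rw [card_XX hpF4 K CoxeterMatrix.F₄.toCoxeterSystem (isRoot_sr _ _ i), Nat.card_eq_fintype_card, hK]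
  have hN12 := cards hr hf hK
  have hN123 := card_orbit hR orb3 (f := fun _ => r ^ f) hc (JL' := [1, 2]) (by decide) hN12
  rw [sum_L3] at hN123
  have hN012 := card_orbit hR orb0 (f := fun _ => r ^ f) hc (JL' := [1, 2]) (by decide) hN12
  rw [sum_L0] at hN012
  have hN023 := card_step hR path_F4_1_0 (fun i _ => hc i) (card_step hR path_F4_1_1 (fun i _ => hc i) (card_nil hR))
  have hN013 := card_step hR path_F4_2_0 (fun i _ => hc i) (card_step hR path_F4_2_1 (fun i _ => hc i) (card_nil hR))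
  have hF1 : FA [(0 : Fin 4)].length (r ^ f) * (FA [(2 : Fin 4), 3].length (r ^ f) * 1) =
      Sg (r ^ f) 2 * (Sg (r ^ f) 2 * Sg (r ^ f) 3) := by
    simp [FA, Sg, Finset.prod_range_succ]
  have hF2 : FA [(0 : Fin 4), 1].length (r ^ f) * (FA [(3 : Fin 4)].length (r ^ f) * 1) =
      Sg (r ^ f) 2 * (Sg (r ^ f) 2 * Sg (r ^ f) 3) := by
    simp [FA, Sg, Finset.prod_range_succ]; ring
  rw [hF1] at hN023
  rw [hF2] at hN013
  have hset : ∀ i : Fin 4, ({j | j ≠ i} : Set (Fin 4)) =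
      {j | j ∈ (![([1, 2, 3] : List (Fin 4)), [0, 2, 3], [0, 1, 3], [0, 1, 2]] i)} := by
    intro i
    ext j
    show j ≠ i ↔ j ∈ _
    revert i j
    decide
  rw [hset]
  have hs1 : Sg (r ^ f) 1 = 1 := by simp [Sg]
  fin_cases i
  · refine idx_of hr hf hK hN123 ?_
    simp only [dJ, Fin.zero_eta, Matrix.cons_val_zero, pr_cons, pr_nil, Sg_mul_sub h1, hs1]
    ring
  · refine idx_of hr hf hK hN023 ?_
    simp only [dJ, Fin.mk_one, Matrix.cons_val_one, Matrix.cons_val_zero, pr_cons, pr_nil, Sg_mul_sub h1, hs1]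
    ring
  · refine idx_of hr hf hK hN013 ?_
    simp only [dJ, Fin.reduceFinMk, Matrix.cons_val, pr_cons, pr_nil, Sg_mul_sub h1, hs1]
    ring
  · refine idx_of hr hf hK hN012 ?_
    simp only [dJ, Fin.reduceFinMk, Matrix.cons_val, pr_cons, pr_nil, Sg_mul_sub h1, hs1]
    ring

include hr hf hK in
theorem idx_B2 : (PC hpF4 K {j | j ∈ ([1, 2] : List (Fin 4))}).index * pr (r ^ f) [1, 1, 2, 4] = pr (r ^ f) dS := by
  have h1 : 1 ≤ r ^ f := Nat.one_le_pow _ _ hr.pos
  have hs1 : Sg (r ^ f) 1 = 1 := by simp [Sg]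
  refine idx_of hr hf hK (cards hr hf hK) ?_
  simp only [pr_cons, pr_nil, Sg_mul_sub h1, hs1]
  ring

theorem orders {q : ℕ} (hK : Fintype.card K = q) : 1 * Nat.card ↥(chevF4.group K) = q ^ 24 * pr q dS := by
  have h3 := Cfsg.Agent.S1062.result hK
  unfold dS
  simp only [pr_cons, pr_nil]
  rw [one_mul, h3]
  ring

theorem num4 : H62.PPChev.num chevF4 (0 : Fin 4) % 6 = 3 := by decide +kernel

theorem o1 : orth1 chevF4 ([1, 2] : List (Fin 4)) 47 = true := by decide +kernel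
theorem o2 : orth1 chevF4 ([1, 2] : List (Fin 4)) 41 = true := by decide +kernel
theorem o3 : orth2 chevF4 47 41 = true := by decide +kernel

end Par

section Row

open Cfsg.Agent.H132.S5 Cfsg.Agent.H533.T5

variable {p : ℕ} [hpp : Fact p.Prime]

theorem lists : ((chevF4, dS) : ChevalleyDatum × List ℕ) ∈ [(Cfsg.Lie.chevG2, [2, 6]), (Cfsg.Lie.chevB2, [2, 4]), (Cfsg.Lie.chevD4, [2, 4, 4, 6]), (Cfsg.Lie.chevF4, [2, 6, 8, 12]),
      (Cfsg.Lie.chevE6, [2, 5, 6, 8, 9, 12]), (Cfsg.Lie.chevE7, [2, 6, 8, 10, 12, 14, 18]), (Cfsg.Lie.chevE8, [2, 8, 12, 14, 18, 20, 24, 30])] := by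
  simp [dS]

/-- **`F₄(q)`: commutative Sylow subgroups.** -/
theorem comm (h5 : 5 ≤ p) {F : Type} [Field F] [Fintype F] (hF : ¬ p ∣ Fintype.card F)
    (P : Sylow p ↥(chevF4.group F)) : (IsMulCommutative ↥(P : Subgroup ↥(chevF4.group F)) :) :=
  comm_of_2378 rfl lists hF (ndvd_six (n := 14) h5 (by decide)) P

/-- **`F₄(q)`, `e = 4, 6`: strong pairs.** -/
theorem spair (h5 : 5 ≤ p) (B : SBox.{u} p) {S : Type u} [Group S] [Finite S] [IsSimpleGroup S]
    (hna : ¬ IsMulCommutative S)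
    (hlt : SBelow.{u} p (Nat.card S)) {F : Type} [Field F] [Fintype F] (hF : ¬ p ∣ Fintype.card F)
    (E : S ≃* ↥(chevF4.group F)) {e : ℕ} (he : orderOf (Fintype.card F : ZMod p) = e)
    (h4 : e = 4 ∨ e = 6) {x y : S} (hx : orderOf x = p) (hy : orderOf y = p) :
    SPair p (⊤ : Subgroup S) x y := by
  obtain ⟨r, hcr⟩ := CharP.exists F
  have hr : r.Prime := CharP.char_is_prime F r
  have hfr : Fact r.Prime := ⟨hr⟩
  obtain ⟨⟨f, hf0⟩, -, hK⟩ := FiniteField.card F r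
  have hK : Fintype.card F = r ^ f := hK
  have hf : f ≠ 0 := hf0.ne'
  have hpq : ¬ p ∣ r ^ f := by rwa [← hK]
  have he' : orderOf ((r ^ f : ℕ) : ZMod p) = e := by rwa [← hK]
  have hq2 := two_le hr hf
  have h2 : Odd p := hpp.out.odd_of_ne_two (by omega)
  have h2' : p ≠ 2 := by omega
  have hrp : r ≠ p := by
    rintro rfl
    exact hpq (dvd_pow_self r hf)
  have he0 : e ≠ 0 := by omega
  have hn2 : nm e dS = 2 := by
    rcases h4 with rfl | rfl <;> decide
  have hI : Idx hpF4 F (r ^ f) p e dS dJ :=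
    { idx := idx_all hr hf hK
      posS := by decide
      posJ := by decide
      wS := fun k hk h => ndvd_six (n := 5) h5 (by
        revert k
        rcases h4 with rfl | rfl <;> decide)
      wJ := fun i k hk h => ndvd_six (n := 5) h5 (by
        revert i k
        rcases h4 with rfl | rfl <;> decide)
      lt := by
        rcases h4 with rfl | rfl <;> decide }
  have hC : CardOK chevF4 F (r ^ f) p e dS :=
    cardOK_of h2 hpq hq2 he' hI.posS hI.wS (orders hK) (fun h => hpp.out.one_lt.ne' (Nat.dvd_one.1 h))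
  have ha := one_le_padic (p := p) hq2 he' he0
  have hab := comm_congr E (comm h5 hF)
  have hH : Hom p (padicValNat p ((r ^ f) ^ e - 1)) ↥(chevF4.group F) :=
    hom_of_2378 hK lists hpq (ndvd_six (n := 14) h5 (by decide)) he' hC (by omega) ha
  have hcd : ∃ (P : Sylow p ↥(chevF4.group F)) (H V : Subgroup ↥(chevF4.group F)),
      (CD p r (P : Subgroup ↥(chevF4.group F)) H V :) := by
    rcases h4 with h | h
    · refine chev_two hpF4 hr hf hK h2 hpq he' (by omega) hI hC hH hn2.ge (idx_B2 hr hf hK) (by decide) ?_ ?_ o1 o2 o3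
      · intro k hk hek
        refine ndvd_six (n := 5) h5 ?_
        subst h
        revert k
        decide
      · subst h; decide
    · refine chev_six hpF4 hr hf hK h2 hpq he' h hI hC hH (i0 := 0) ?_ num4 hn2.ge
      subst h; decide
  exact spair_of_equiv h2' B hna hlt hab E hrp hcd hx hy

end Row

end Cfsg.Agent.H790.Str.F4
end

-- part: H28/S5Tor
section
/-!
# Homocyclic Sylow subgroups from maximal tori (S2274, rows `e = 6` of `³D₄(q)` and `²E₆(q)`)

* `omega_of_eig` : under the hypotheses of `T5Tor.comm_of_eig` a Sylow `ℓ`-subgroup has exponent dividing `ℓ ^ a` and at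
  most `ℓ ^ r` elements of order dividing `ℓ`;
* `omega_twD4`, `omega_twE6` : `³D₄(q)`, `²E₆(q)`, `q` of order `6` modulo `ℓ`.
-/

set_option autoImplicit false
set_option linter.unusedSectionVars false

namespace Cfsg.Agent.H28.S5Tor

open CoxeterSystem Cfsg Cfsg.Lie Cfsg.Lie.ChevalleyDatum
open Cfsg.Agent.ChevalleyStructure Cfsg.Agent.ChevalleyStructure.Elts Cfsg.Agent.ChevalleyStructure.CoxeterGeom
  Cfsg.Agent.ChevalleyStructure.CoxeterGeomTypes Cfsg.Agent.ChevalleyStructure.NPerm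
open Cfsg.Agent.Tits.Roots Cfsg.Agent.Tits.Core Cfsg.Agent.Nodes Cfsg.Agent.Nodes.Reps Cfsg.Agent.Nodes.BNOf
  Cfsg.Agent.Nodes.RGDChev Cfsg.Agent.Nodes.Bruhat Cfsg.Agent.Nodes.SubComb Cfsg.Agent.Nodes.Coroot
open Cfsg.Agent.KFacts.RgdField Cfsg.Agent.KFacts.RgdChevCoord Cfsg.Agent.BpExc.TorCent Cfsg.Agent.BpExc.TorChev
open Cfsg.Agent.GpExc.Field Cfsg.Agent.BpExc.Tow Cfsg.Agent.BpExc.TowChev Cfsg.Agent.BpExc.Fr
  Cfsg.Agent.BpExc.LangFr Cfsg.Agent.LangThm Cfsg.Agent.BpExc Cfsg.Agent.H129.TorusChar Cfsg.Agent.H129.TorusCent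
  Cfsg.Agent.H129.TorusTw Cfsg.Agent.H129.TorusMain Cfsg.Agent.H493.PGTorus Cfsg.Agent.H493.PGTwist

universe u

section Main

variable {D : ChevalleyDatum} {l : ℕ} {M : CoxeterMatrix (Fin l)} (hp : IsType D l M) {k : Type u} [Field k]
  [IsAlgClosed k] {W : Type*} [Group W] [Finite W] (cs : CoxeterSystem M W) {p e : ℕ} [Fact p.Prime] [CharP k p]
  {σ : MulAut ↥(D.group k)} {g : (Fin l → ℤ) ≃+ (Fin l → ℤ)}
  {G0 : Type*} [Group G0] {e0 : G0 →* ↥(D.group k)}

/-- **Torus elements from eigenfunctionals modulo `m`.** -/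
theorem exists_fam' (hσ : IsFrob p e σ) (F : Fr cs hp.isCartan (TT D k) (XX D l k) σ g) {d' : ℕ}
    {B' : Fin l → Fin l → ℤ} (hB : InvC D l d' B') (hd' : d' ≠ 0) {r : ℕ} {L : Fin r → (Fin l → ℤ) →+ ℤ} {m : ℕ}
    (hm0 : m ≠ 0) (hmp : ¬ p ∣ m) (hL : ∀ i x, (m : ℤ) ∣ L i (g x) - ((p ^ e : ℕ) : ℤ) * L i x)
    {x₀ : Fin r → Fin l → ℤ} (hx₀ : ∀ i j, L i (x₀ j) = if i = j then 1 else 0) :
    ∃ T : (Fin r → Fin m) → ↥(D.group k), Function.Injective T ∧
      (∀ j, T j ∈ TT D k ∧ σ (T j) = T j ∧ T j ^ m = 1) ∧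
      ∀ j (n : ℕ), T j ^ n = 1 → ∀ i, m ∣ n * (j i : ℕ) := by
  have hrk : (m : k) ≠ 0 := by
    rw [Ne, CharP.cast_eq_zero_iff k p]
    exact hmp
  have : NeZero (m : k) := ⟨hrk⟩
  obtain ⟨u, hu⟩ := HasEnoughRootsOfUnity.exists_primitiveRoot k m
  have hu0 : u ≠ 0 := hu.ne_zero hm0
  have hone : ∀ z : ℤ, u ^ z = 1 ↔ (m : ℤ) ∣ z := fun z => hu.zpow_eq_one_iff_dvd z
  have key : ∀ j : Fin r → Fin m, ∃ t ∈ TT D k, ∀ x, cX hp t x = u ^ (∑ i, ((j i : ℕ) : ℤ) * L i x) := by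
    intro j
    have hMC : IsMC (fun x : Fin l → ℤ => u ^ (∑ i, ((j i : ℕ) : ℤ) * L i x)) :=
      ⟨by
        have h1 : ∑ i, ((j i : ℕ) : ℤ) * L i 0 = 0 := Finset.sum_eq_zero fun i _ => by rw [map_zero, mul_zero]
        show u ^ _ = 1
        rw [h1, zpow_zero],
      fun x y => by
        have h1 : ∑ i, ((j i : ℕ) : ℤ) * L i (x + y) =
            (∑ i, ((j i : ℕ) : ℤ) * L i x) + ∑ i, ((j i : ℕ) : ℤ) * L i y := by
          rw [← Finset.sum_add_distrib]
          exact Finset.sum_congr rfl fun i _ => by rw [map_add, mul_add]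
        show u ^ _ = u ^ _ * u ^ _
        rw [h1, zpow_add₀ hu0]⟩
    obtain ⟨t, ht, hcX⟩ := exists_cX hp hB hd' hMC fun i =>
      IsAlgClosed.exists_pow_nat_eq _ (Nat.pos_of_ne_zero hd')
    exact ⟨t, ht, hcX⟩
  choose T hT hcX using key
  have h1 : ∀ (j : Fin r → Fin m) (i : Fin r), ∑ i', ((j i' : ℕ) : ℤ) * L i' (x₀ i) = ((j i : ℕ) : ℤ) := by
    intro j i
    rw [Finset.sum_eq_single i]
    · rw [hx₀, if_pos rfl, mul_one]
    · intro i' _ hne
      rw [hx₀, if_neg hne, mul_zero]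
    · intro h
      exact absurd (Finset.mem_univ i) h
  refine ⟨T, fun j j' hj => funext fun i => Fin.ext ?_, fun j => ⟨hT j, ?_, ?_⟩, fun j n hn i => ?_⟩
  · have h2 := hcX j (x₀ i)
    rw [hj, hcX j', h1, h1] at h2
    have h3 : u ^ (j' i : ℕ) = u ^ (j i : ℕ) := by exact_mod_cast h2
    exact (hu.pow_inj (j' i).2 (j i).2 h3).symm
  · have hσt : σ (T j) ∈ TT D k := (F.tor _).2 (hT j)
    refine cX_inj hp hσt (hT j) fun i => ?_
    have h1 : sr i = g (g.symm (sr i)) := (g.apply_symm_apply _).symm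
    rw [h1, cX_sigma hp cs hσ F (hT j), hcX, hcX, ← zpow_natCast, ← zpow_mul]
    have h2 : (m : ℤ) ∣ (∑ i', ((j i' : ℕ) : ℤ) * L i' (g (g.symm (sr i)))) -
        (∑ i', ((j i' : ℕ) : ℤ) * L i' (g.symm (sr i))) * ((p ^ e : ℕ) : ℤ) := by
      rw [Finset.sum_mul, ← Finset.sum_sub_distrib]
      refine Finset.dvd_sum fun i' _ => ?_
      obtain ⟨N, hN⟩ := hL i' (g.symm (sr i))
      refine ⟨((j i' : ℕ) : ℤ) * N, ?_⟩
      calc _ = ((j i' : ℕ) : ℤ) * (L i' (g (g.symm (sr i))) - ((p ^ e : ℕ) : ℤ) * L i' (g.symm (sr i))) := by ring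
        _ = _ := by rw [hN]; ring
    obtain ⟨N, hN⟩ := h2
    rw [← sub_add_cancel (∑ i', ((j i' : ℕ) : ℤ) * L i' (g (g.symm (sr i))))
      ((∑ i', ((j i' : ℕ) : ℤ) * L i' (g.symm (sr i))) * ((p ^ e : ℕ) : ℤ)), hN, zpow_add₀ hu0,
      (hone ((m : ℤ) * N)).2 (dvd_mul_right _ _), one_mul]
  · refine cX_inj hp (pow_mem (hT j) m) (one_mem _) fun i => ?_
    rw [cX_pow hp (hT j), cX_one, hcX, ← zpow_natCast, ← zpow_mul, hone]
    exact dvd_mul_left _ _
  · have h2 : cX hp (T j ^ n) (x₀ i) = 1 := by rw [hn, cX_one]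
    rw [cX_pow hp (hT j), hcX, h1, ← zpow_natCast, ← zpow_mul, hone] at h2
    have h3 : (m : ℤ) ∣ ((n * (j i : ℕ) : ℕ) : ℤ) := by
      push_cast
      rwa [mul_comm]
    exact_mod_cast h3

/-- The elements of order dividing `ℓ` in `(ℤ / ℓ ^ a) ^ r`. -/
theorem card_fam_le {ℓ a r : ℕ} [hℓ : Fact ℓ.Prime] :
    Nat.card {j : Fin r → Fin (ℓ ^ a) // ∀ i, ℓ ^ a ∣ ℓ * (j i : ℕ)} ≤ ℓ ^ r := by
  have hl := hℓ.out.pos
  rcases Nat.eq_zero_or_pos a with rfl | ha
  · have h1 : Nat.card {j : Fin r → Fin (ℓ ^ 0) // ∀ i, ℓ ^ 0 ∣ ℓ * (j i : ℕ)} ≤ Nat.card (Fin r → Fin (ℓ ^ 0)) :=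
      Nat.card_le_card_of_injective _ Subtype.val_injective
    refine h1.trans ?_
    rw [Nat.card_fun, Nat.card_eq_fintype_card, Fintype.card_fin, pow_zero, one_pow]
    exact Nat.one_le_pow _ _ hl
  · obtain ⟨b, rfl⟩ : ∃ b, a = b + 1 := ⟨a - 1, by omega⟩
    have hdiv : ∀ j : {j : Fin r → Fin (ℓ ^ (b + 1)) // ∀ i, ℓ ^ (b + 1) ∣ ℓ * (j i : ℕ)}, ∀ i, ℓ ^ b ∣ (j.1 i : ℕ) := by
      intro j i
      have h1 : ℓ * ℓ ^ b ∣ ℓ * (j.1 i : ℕ) := (dvd_of_eq (pow_succ' ℓ b).symm).trans (j.2 i)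
      exact (Nat.mul_dvd_mul_iff_left hl).1 h1
    let f : {j : Fin r → Fin (ℓ ^ (b + 1)) // ∀ i, ℓ ^ (b + 1) ∣ ℓ * (j i : ℕ)} → (Fin r → Fin ℓ) := fun j i =>
      ⟨(j.1 i : ℕ) / ℓ ^ b, by
        rw [Nat.div_lt_iff_lt_mul (pow_pos hl b), ← pow_succ']
        exact (j.1 i).2⟩
    have hf : Function.Injective f := by
      intro j j' h
      apply Subtype.ext
      funext i
      apply Fin.ext
      have h1 : (j.1 i : ℕ) / ℓ ^ b = (j'.1 i : ℕ) / ℓ ^ b := congrArg Fin.val (congrFun h i)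
      rw [← Nat.div_mul_cancel (hdiv j i), h1, Nat.div_mul_cancel (hdiv j' i)]
    refine (Nat.card_le_card_of_injective f hf).trans ?_
    rw [Nat.card_fun, Nat.card_eq_fintype_card, Nat.card_eq_fintype_card, Fintype.card_fin, Fintype.card_fin]

/-- **Homocyclic Sylow subgroups from a torus.** -/
theorem omega_of_eig [Finite G0] (hk : LocFin k) (he : 0 < e) (hσ : IsFrob p e σ)
    (F : Fr cs hp.isCartan (TT D k) (XX D l k) σ g) {d' : ℕ} {B' : Fin l → Fin l → ℤ} (hB : InvC D l d' B')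
    (hd' : d' ≠ 0) (he0 : Function.Injective e0) {d : ℕ} (hd : ∀ y, σ y = y → y ^ d ∈ e0.range)
    {w : W} {Th : Fin l → Fin l → ℤ} (hw : ∀ j, rep cs hp.isCartan w (g (sr j)) = Th j)
    {f : ℕ} {c : Fin (f + 1) → ℤ} {r : ℕ} {V : Fin r → Fin (f + 1) → Fin l → ℤ} {U : Fin r → Fin l → ℤ}
    (h : ∀ i, EigOK (fun i j => Th j i) c (V i) (U i)) (hUV : ∀ i j, i ≠ j → ∀ s, ∑ m, U j m * V i s m = 0)
    {ℓ : ℕ} [hℓ : Fact ℓ.Prime] (hℓd : ¬ ℓ ∣ d) (hℓp : ℓ ≠ p) {a : ℕ}
    (ha : ((ℓ ^ a : ℕ) : ℤ) ∣ pv c ((p ^ e : ℕ) : ℤ)) (hcard : (Nat.card G0).factorization ℓ ≤ a * r)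
    (P : Sylow ℓ G0) : IsMulCommutative (P : Subgroup G0) ∧ (∀ x ∈ (P : Subgroup G0), x ^ ℓ ^ a = 1) ∧
      Nat.card {x : G0 // x ∈ (P : Subgroup G0) ∧ x ^ ℓ = 1} ≤ ℓ ^ r := by
  have hm0 : ℓ ^ a ≠ 0 := pow_ne_zero _ hℓ.out.ne_zero
  have hcop : (ℓ ^ a).Coprime d := ((Nat.Prime.coprime_iff_not_dvd hℓ.out).2 hℓd).pow_left a
  obtain ⟨n, z, hz, hσ', F'⟩ := exists_z hp cs hk he hσ F w
  have hmp : ¬ p ∣ ℓ ^ a := fun h1 =>
    hℓp ((Nat.prime_dvd_prime_iff_eq (Fact.out : p.Prime) hℓ.out).1 ((Fact.out : p.Prime).dvd_of_dvd_pow h1)).symm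
  obtain ⟨T, hTi, hT, hTo⟩ := exists_fam' hp cs hσ' F' hB hd' (L := fun i => lam (V i) ((p ^ e : ℕ) : ℤ)) hm0 hmp
    (fun i x => hL_of_eig hp cs hw (h i) ha x) (x₀ := U) (fun i j => by
      by_cases hij : i = j
      · subst hij
        rw [if_pos rfl]
        exact lam_unit (h i) _
      · rw [if_neg hij]
        exact lam_zero (hUV i j hij) _)
  have hcommT : ∀ x y : G0, z⁻¹ * e0 x * z ∈ TT D k → z⁻¹ * e0 y * z ∈ TT D k → x * y = y * x := by
    intro x y hx hy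
    apply he0
    have h1 := TT_comm hp _ hx _ hy
    have h2 : e0 x * e0 y = z * (z⁻¹ * e0 x * z * (z⁻¹ * e0 y * z)) * z⁻¹ := by group
    have h3 : e0 y * e0 x = z * (z⁻¹ * e0 y * z * (z⁻¹ * e0 x * z)) * z⁻¹ := by group
    rw [map_mul, map_mul, h2, h3, h1]
  let A : Subgroup G0 :=
    { carrier := {x | z⁻¹ * e0 x * z ∈ TT D k ∧ x ^ ℓ ^ a = 1}
      mul_mem' := by
        rintro x y ⟨hx, hx'⟩ ⟨hy, hy'⟩
        refine ⟨?_, ?_⟩
        · have h1 : z⁻¹ * e0 (x * y) * z = z⁻¹ * e0 x * z * (z⁻¹ * e0 y * z) := by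
            rw [map_mul]
            group
          rw [h1]
          exact mul_mem hx hy
        · have h1 : Commute x y := hcommT x y hx hy
          rw [h1.mul_pow, hx', hy', one_mul]
      one_mem' := ⟨by rw [map_one, mul_one, inv_mul_cancel]; exact one_mem _, one_pow _⟩
      inv_mem' := by
        rintro x ⟨hx, hx'⟩
        refine ⟨?_, by rw [inv_pow, hx', inv_one]⟩
        have h1 : z⁻¹ * e0 x⁻¹ * z = (z⁻¹ * e0 x * z)⁻¹ := by
          rw [map_inv]
          group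
        rw [h1]
        exact inv_mem hx }
  have hex : ∀ j : Fin r → Fin (ℓ ^ a), ∃ x : G0, e0 x = z * T j ^ d * z⁻¹ := by
    intro j
    obtain ⟨x, hx⟩ := hd _ (fix_conj hz (hT j).2.1)
    exact ⟨x, by rw [hx, conj_pow]⟩
  choose X hX using hex
  have hXA : ∀ j, X j ∈ A := by
    intro j
    refine ⟨?_, he0 ?_⟩
    · have h1 : z⁻¹ * e0 (X j) * z = T j ^ d := by
        rw [hX]
        group
      rw [h1]
      exact pow_mem (hT j).1 d
    · rw [map_pow, hX, conj_pow, ← pow_mul, mul_comm d, pow_mul, (hT j).2.2, one_pow, mul_one, mul_inv_cancel, map_one]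
  have hXi : Function.Injective (fun j => (⟨X j, hXA j⟩ : ↥A)) := by
    intro j j' hjj
    apply hTi
    have h1 : X j = X j' := congrArg Subtype.val hjj
    have h2 : T j ^ d = T j' ^ d := by
      have h3 : z * T j ^ d * z⁻¹ = z * T j' ^ d * z⁻¹ := by rw [← hX, ← hX, h1]
      exact mul_left_cancel (mul_right_cancel h3)
    have hc : Commute (T j) (T j')⁻¹ := (show Commute (T j) (T j') from TT_comm hp _ (hT j).1 _ (hT j').1).inv_right
    have h3 : orderOf (T j * (T j')⁻¹) ∣ Nat.gcd (ℓ ^ a) d := by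
      refine Nat.dvd_gcd (orderOf_dvd_of_pow_eq_one ?_) (orderOf_dvd_of_pow_eq_one ?_)
      · rw [hc.mul_pow, inv_pow, (hT j).2.2, (hT j').2.2, inv_one, one_mul]
      · rw [hc.mul_pow, inv_pow, h2, mul_inv_cancel]
    rw [hcop, Nat.dvd_one, orderOf_eq_one_iff] at h3
    exact mul_inv_eq_one.1 h3
  have hAcomm : ∀ x ∈ A, ∀ y ∈ A, x * y = y * x := fun x hx y hy => hcommT x y hx.1 hy.1
  have hAp : ∀ x ∈ A, x ^ ℓ ^ a = 1 := fun x hx => hx.2
  have h1 := Nat.card_le_card_of_injective _ hXi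
  rw [Nat.card_fun, Nat.card_eq_fintype_card, Nat.card_eq_fintype_card, Fintype.card_fin, Fintype.card_fin,
    ← pow_mul] at h1
  have hcA : ℓ ^ (Nat.card G0).factorization ℓ ≤ Nat.card A := (Nat.pow_le_pow_right hℓ.out.pos hcard).trans h1
  refine ⟨T5Tor.sylow_comm (a := a) A hAcomm hAp hcA P, ?_⟩
  -- `A` is a Sylow subgroup
  have hAl : IsPGroup ℓ A := fun x => ⟨a, Subtype.ext (hAp x x.2)⟩
  obtain ⟨Q, hQ⟩ := hAl.exists_le_sylow
  have hAQ : A = (Q : Subgroup G0) := by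
    refine Subgroup.eq_of_le_of_card_ge hQ ?_
    rw [Q.card_eq_multiplicity]
    exact hcA
  obtain ⟨y, hy⟩ := MulAction.exists_smul_eq G0 Q P
  have hPA : ∀ x ∈ (P : Subgroup G0), y⁻¹ * x * y ∈ A := by
    intro x hx
    rw [← hy, Sylow.coe_subgroup_smul, Subgroup.mem_pointwise_smul_iff_inv_smul_mem] at hx
    rw [hAQ]
    simpa only [MulAut.smul_def, MulAut.conj_inv_apply, _root_.MulAut.inv_apply, _root_.MulAut.conj_symm_apply] using hx
  -- every element of `A` is one of the `X j`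
  have hcAle : Nat.card A ≤ ℓ ^ (a * r) := by
    rw [hAQ, Q.card_eq_multiplicity]
    exact Nat.pow_le_pow_right hℓ.out.pos hcard
  have hbij : Function.Bijective (fun j => (⟨X j, hXA j⟩ : ↥A)) := by
    refine (Nat.bijective_iff_injective_and_card _).2 ⟨hXi, ?_⟩
    rw [Nat.card_fun, Nat.card_eq_fintype_card, Nat.card_eq_fintype_card, Fintype.card_fin, Fintype.card_fin,
      ← pow_mul]
    exact le_antisymm h1 hcAle
  refine ⟨fun x hx => ?_, ?_⟩
  · have h2 := hAp _ (hPA x hx)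
    have h3 : (y⁻¹ * x * y) ^ ℓ ^ a = y⁻¹ * x ^ ℓ ^ a * y := by
      have := conj_pow (i := ℓ ^ a) (a := y⁻¹) (b := x)
      rwa [inv_inv] at this
    rw [h3] at h2
    have h4 : x ^ ℓ ^ a = y * (y⁻¹ * x ^ ℓ ^ a * y) * y⁻¹ := by group
    rw [h4, h2, mul_one, mul_inv_cancel]
  · have hsur : ∀ x : {x : G0 // x ∈ (P : Subgroup G0) ∧ x ^ ℓ = 1},
        ∃ j : {j : Fin r → Fin (ℓ ^ a) // ∀ i, ℓ ^ a ∣ ℓ * (j i : ℕ)}, X j.1 = y⁻¹ * x.1 * y := by
      intro x
      obtain ⟨j, hj⟩ := hbij.2 ⟨_, hPA x.1 x.2.1⟩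
      have hj' : X j = y⁻¹ * x.1 * y := congrArg Subtype.val hj
      refine ⟨⟨j, fun i => ?_⟩, hj'⟩
      apply hTo
      -- `T j ^ ℓ = 1`
      have h2 : X j ^ ℓ = 1 := by
        have h3 : (y⁻¹ * x.1 * y) ^ ℓ = y⁻¹ * x.1 ^ ℓ * y := by
          have := conj_pow (i := ℓ) (a := y⁻¹) (b := x.1)
          rwa [inv_inv] at this
        rw [hj', h3, x.2.2, mul_one, inv_mul_cancel]
      have h4 : (T j ^ ℓ) ^ d = 1 := by
        have h5 := congrArg e0 h2
        rw [map_pow, hX, conj_pow, map_one] at h5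
        have h6 : (T j ^ d) ^ ℓ = z⁻¹ * (z * (T j ^ d) ^ ℓ * z⁻¹) * z := by group
        rw [← pow_mul, mul_comm, pow_mul, h6, h5, mul_one, inv_mul_cancel]
      have h7 : orderOf (T j ^ ℓ) ∣ Nat.gcd (ℓ ^ a) d := by
        refine Nat.dvd_gcd (orderOf_dvd_of_pow_eq_one ?_) (orderOf_dvd_of_pow_eq_one h4)
        rw [← pow_mul, mul_comm, pow_mul, (hT j).2.2, one_pow]
      rw [hcop, Nat.dvd_one, orderOf_eq_one_iff] at h7
      exact h7
    choose J hJ using hsur
    have hJi : Function.Injective J := by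
      intro x x' hxx
      apply Subtype.ext
      have h2 : y⁻¹ * x.1 * y = y⁻¹ * x'.1 * y := by rw [← hJ x, ← hJ x', hxx]
      exact mul_left_cancel (mul_right_cancel h2)
    exact (Nat.card_le_card_of_injective J hJi).trans card_fam_le

end Main

/-! ### The tables -/

section Tab

open Cfsg.Agent.H129.WData Cfsg.Agent.H378.CycTab Cfsg.Agent.H28.T5TorRows

/-- the partial products -/
def LD : List (Fin 4 × Mat 4) := [
    (2, ![![0, -1, -1, 0],
      ![-1, 0, 0, 0],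
      ![1, 1, 0, 0],
      ![1, 1, 1, 1]]),
    (0, ![![0, -1, 0, 0],
      ![-1, 0, 0, 0],
      ![1, 1, 1, 0],
      ![1, 1, 0, 1]]),
    (1, ![![-1, -1, 0, 0],
      ![1, 0, 0, 0],
      ![0, 1, 1, 0],
      ![0, 1, 0, 1]]),
    (0, ![![-1, 0, 0, 0],
      ![1, 1, 0, 0],
      ![0, 0, 1, 0],
      ![0, 0, 0, 1]])]

/-- the matrix -/
def MD : Mat 4 := ![![1, 1, 0, 0],
      ![-1, 0, 0, 0],
      ![1, 1, 1, 1],
      ![0, -1, -1, 0]]

/-- the eigenfunctionals -/
def VD : Fin 2 → Fin (1 + 1) → Fin 4 → ℤ := ![![![1, -1, 1, -1], ![0, 1, 0, 0]],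
    ![![0, 0, 0, -1], ![0, 0, 1, 0]]]

/-- the dual vectors -/
def UD : Fin 2 → Fin 4 → ℤ := ![![1, 0, 0, 0],
    ![-1, 0, 0, -1]]

/-- the partial products -/
def LE : List (Fin 6 × Mat 6) := [
    (0, ![![-1, -1, -1, -1, -1, 0],
      ![0, 0, -1, -1, -1, 0],
      ![0, 0, 0, -1, 0, 0],
      ![0, 0, 0, 1, 1, 0],
      ![0, 1, 1, 1, 0, 0],
      ![1, 0, 1, 1, 1, 1]]),
    (2, ![![0, -1, -1, -1, -1, 0],
      ![-1, 0, -1, -1, -1, 0],
      ![0, 0, 0, -1, 0, 0],
      ![0, 0, 0, 1, 1, 0],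
      ![1, 1, 1, 1, 0, 0],
      ![0, 0, 1, 1, 1, 1]]),
    (3, ![![0, -1, 0, -1, -1, 0],
      ![-1, 0, -1, -1, -1, 0],
      ![0, 0, -1, -1, 0, 0],
      ![0, 0, 1, 1, 1, 0],
      ![1, 1, 1, 1, 0, 0],
      ![0, 0, 0, 1, 1, 1]]),
    (4, ![![0, -1, 0, -1, -1, 0],
      ![-1, 0, -1, -1, -1, 0],
      ![0, 0, -1, 0, 0, 0],
      ![0, 0, 1, 1, 1, 0],
      ![1, 1, 1, 1, 0, 0],
      ![0, 0, 0, 0, 1, 1]]),
    (0, ![![0, -1, 0, -1, 0, 0],
      ![-1, 0, -1, -1, 0, 0],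
      ![0, 0, -1, 0, 0, 0],
      ![0, 0, 1, 1, 0, 0],
      ![1, 1, 1, 1, 1, 0],
      ![0, 0, 0, 0, 0, 1]]),
    (2, ![![0, -1, 0, -1, 0, 0],
      ![0, 0, -1, -1, 0, 0],
      ![-1, 0, -1, 0, 0, 0],
      ![1, 0, 1, 1, 0, 0],
      ![0, 1, 1, 1, 1, 0],
      ![0, 0, 0, 0, 0, 1]]),
    (1, ![![0, -1, -1, -1, 0, 0],
      ![0, 0, 0, -1, 0, 0],
      ![-1, 0, 0, 0, 0, 0],
      ![1, 0, 1, 1, 0, 0],
      ![0, 1, 0, 1, 1, 0],
      ![0, 0, 0, 0, 0, 1]]),
    (3, ![![0, 0, -1, -1, 0, 0],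
      ![0, -1, 0, -1, 0, 0],
      ![-1, 0, 0, 0, 0, 0],
      ![1, 1, 1, 1, 0, 0],
      ![0, 0, 0, 1, 1, 0],
      ![0, 0, 0, 0, 0, 1]]),
    (0, ![![0, 0, -1, 0, 0, 0],
      ![0, -1, 0, 0, 0, 0],
      ![-1, 0, 0, 0, 0, 0],
      ![1, 1, 1, 1, 0, 0],
      ![0, 0, 0, 0, 1, 0],
      ![0, 0, 0, 0, 0, 1]]),
    (2, ![![-1, 0, -1, 0, 0, 0],
      ![0, -1, 0, 0, 0, 0],
      ![1, 0, 0, 0, 0, 0],
      ![0, 1, 1, 1, 0, 0],
      ![0, 0, 0, 0, 1, 0],
      ![0, 0, 0, 0, 0, 1]]),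
    (1, ![![-1, 0, 0, 0, 0, 0],
      ![0, -1, 0, 0, 0, 0],
      ![1, 0, 1, 0, 0, 0],
      ![0, 1, 0, 1, 0, 0],
      ![0, 0, 0, 0, 1, 0],
      ![0, 0, 0, 0, 0, 1]]),
    (0, ![![-1, 0, 0, 0, 0, 0],
      ![0, 1, 0, 0, 0, 0],
      ![1, 0, 1, 0, 0, 0],
      ![0, 0, 0, 1, 0, 0],
      ![0, 0, 0, 0, 1, 0],
      ![0, 0, 0, 0, 0, 1]])]

/-- the matrix -/
def ME : Mat 6 := ![![1, 0, 1, 1, 1, 1],
      ![0, 0, -1, -1, -1, 0],
      ![0, 1, 1, 1, 0, 0],
      ![0, 0, 0, 1, 1, 0],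
      ![0, 0, 0, -1, 0, 0],
      ![-1, -1, -1, -1, -1, 0]]

/-- the eigenfunctionals -/
def VE : Fin 3 → Fin (1 + 1) → Fin 6 → ℤ := ![![![0, -1, 1, 0, 0, -1], ![0, 1, 0, 0, 0, 0]],
    ![![1, -1, 0, 1, -1, -1], ![0, 0, 0, 0, 1, 0]],
    ![![0, 0, 0, 0, 0, -1], ![1, 0, 0, 0, 0, 0]]]

/-- the dual vectors -/
def UE : Fin 3 → Fin 6 → ℤ := ![![0, 0, 1, 0, 0, 0],
    ![0, 0, 0, 1, 0, 0],
    ![0, 0, -1, -1, 0, -1]]

theorem chD : ChainOK Cfsg.Agent.H493.PGD4T.Am LD := by decide +kernel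

theorem thD : ∀ j, hd LD (Cfsg.Agent.H493.PGD4T.pi j) = MD j := by decide +kernel

theorem okD : TabOK MD c6 VD UD := by decide +kernel

theorem chE : ChainOK A6 LE := by decide +kernel

theorem thE : ∀ j, hd LE (Cfsg.Agent.H493.TwE6Alg.pi j) = ME j := by decide +kernel

theorem okE : TabOK ME c6 VE UE := by decide +kernel

end Tab

/-! ### The rows -/

section Rows

open Cfsg.Agent.H129.WData Cfsg.Agent.H378.CycTab Cfsg.Agent.H28.T5TorRows Cfsg.Agent.H172.SI
open Cfsg.Agent.H129 Cfsg.Agent.H129.TriD4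

variable {K : Type} [Field K] [Fintype K] {q : ℕ} {ℓ : ℕ} [hℓ : Fact ℓ.Prime]

/-- the weights vanish -/
theorem wt_eq_zero {e : ℕ} {ds : List ℕ} (h : ∀ k ∈ ds, e ∣ k → ¬ ℓ ∣ k) : wt ℓ e ds = 0 := by
  induction ds with
  | nil => rfl
  | cons k ds ih =>
    rw [wt, ih fun k hk => h k (List.mem_cons_of_mem _ hk), add_zero]
    split_ifs with h1
    · exact padicValNat.eq_zero_of_not_dvd (h k List.mem_cons_self h1)
    · rfl

theorem ndvd_of_five (h5 : 5 ≤ ℓ) : ¬ ℓ ∣ 6 ∧ ¬ ℓ ∣ 12 ∧ ¬ ℓ ∣ 18 ∧ ¬ ℓ ∣ 24 := by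
  have h2 : ¬ ℓ ∣ 2 := fun h => by have := Nat.le_of_dvd (by norm_num) h; omega
  have h3 : ¬ ℓ ∣ 3 := fun h => by have := Nat.le_of_dvd (by norm_num) h; omega
  have hl := hℓ.out
  refine ⟨?_, ?_, ?_, ?_⟩
  · rw [show 6 = 2 * 3 by norm_num, hl.dvd_mul]; itauto
  · rw [show 12 = 2 * 2 * 3 by norm_num, hl.dvd_mul, hl.dvd_mul]; itauto
  · rw [show 18 = 2 * 3 * 3 by norm_num, hl.dvd_mul, hl.dvd_mul]; itauto
  · rw [show 24 = 2 * 2 * 2 * 3 by norm_num, hl.dvd_mul, hl.dvd_mul, hl.dvd_mul]; itauto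

/-- **`²E₆(q)`, `q` of order `6` modulo `ℓ`.** -/
theorem omega_twE6 (h5 : 5 ≤ ℓ) (hq : IsPrimePow q) (hK : Fintype.card K = q ^ 2)
    (ho : orderOf (q : ZMod ℓ) = 6) (P : Sylow ℓ ↥(twistedE6 K q)) :
    (IsMulCommutative (P : Subgroup ↥(twistedE6 K q)) :) ∧
      (∀ x ∈ (P : Subgroup ↥(twistedE6 K q)), x ^ ℓ ^ padicValNat ℓ (q ^ 6 - 1) = 1) ∧
      Nat.card {x : ↥(twistedE6 K q) // x ∈ (P : Subgroup ↥(twistedE6 K q)) ∧ x ^ ℓ = 1} ≤ ℓ ^ 3 := by
  have := Cfsg.Agent.H493.PGE6.finW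
  have hodd : Odd ℓ := hℓ.out.odd_of_ne_two (by omega)
  obtain ⟨p, e, hpF, hpk, he, hqe, hk⟩ := Cfsg.Agent.H493.PGE6T.setup hq hK
  have hqe' : (q : ℤ) = ((p ^ e : ℕ) : ℤ) := by rw [hqe]
  have hℓq := not_dvd_of (by norm_num) ho
  have hℓp : ℓ ≠ p := by
    rintro rfl
    exact hℓq (hqe ▸ dvd_pow_self _ he.ne')
  refine omega_of_eig RGDTwE6.hp CoxeterMatrix.E₆.toCoxeterSystem hk he Cfsg.Agent.H493.TwE6Alg.isFrob_tau
    (Cfsg.Agent.H493.TwE6Alg.fr_tau _)
    TorusChar.invC_E6 (by norm_num)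
    (Cfsg.Agent.H493.TwE6Alg.embT_injective (algebraMap K (AlgebraicClosure K)) q) (d := Nat.gcd 3 (q + 1))
    (fun y hy => Cfsg.Agent.H493.TwE6Alg.tau_pow _ hqe hq hK hy) (Cfsg.Agent.H493.PGE6T.lin _ chE thE)
    okE.1 okE.2 (fun h => ?_) hℓp (a := padicValNat ℓ (q ^ 6 - 1)) ?_ ?_ P
  · have := Nat.le_of_dvd (by norm_num) (h.trans (Nat.gcd_dvd_left _ _))
    omega
  · rw [← hqe']
    exact dvd_c6 hq.pos ho
  · have h1 := fact_le (ℓ := ℓ) hodd hℓq hq.two_le (n := Nat.card ↥(twistedE6 K q)) (N := 36)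
      (ds := [2, 10, 6, 8, 18, 12]) (by decide) ?_
    · have hw : wt ℓ 6 [2, 10, 6, 8, 18, 12] = 0 := by
        refine wt_eq_zero fun k hk h6 => ?_
        simp only [List.mem_cons, List.not_mem_nil, or_false] at hk
        obtain ⟨n1, n2, n3, -⟩ := ndvd_of_five (ℓ := ℓ) h5
        rcases hk with rfl | rfl | rfl | rfl | rfl | rfl
        · norm_num at h6
        · norm_num at h6
        · exact n1
        · norm_num at h6
        · exact n3
        · exact n2
      rw [ho, hw, add_zero] at h1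
      exact h1
    · refine ⟨Nat.gcd 3 (q + 1) * ((q ^ 5 - 1) * (q ^ 9 - 1)), ?_⟩
      have h2 := Cfsg.Agent.S1066.result hq hK
      have h5 : q ^ 10 - 1 = (q ^ 5 + 1) * (q ^ 5 - 1) := by
        rw [← Nat.sq_sub_sq, ← pow_mul]
      have h9 : q ^ 18 - 1 = (q ^ 9 + 1) * (q ^ 9 - 1) := by
        rw [← Nat.sq_sub_sq, ← pow_mul]
      have h3 : pr q [2, 10, 6, 8, 18, 12] =
          (q ^ 2 - 1) * ((q ^ 10 - 1) * ((q ^ 6 - 1) * ((q ^ 8 - 1) * ((q ^ 18 - 1) * ((q ^ 12 - 1) * 1))))) := rfl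
      rw [h3, h5, h9]
      calc _ = q ^ 36 * (q ^ 2 - 1) * (q ^ 5 + 1) * (q ^ 6 - 1) * (q ^ 8 - 1) * (q ^ 9 + 1) * (q ^ 12 - 1) *
            ((q ^ 5 - 1) * (q ^ 9 - 1)) := by ring
        _ = _ := by rw [← h2]; ring

/-- **`³D₄(q)`, `q` of order `6` modulo `ℓ`.** -/
theorem omega_twD4 (h5 : 5 ≤ ℓ) (hq : IsPrimePow q) (hK : Fintype.card K = q ^ 3)
    (ho : orderOf (q : ZMod ℓ) = 6) (P : Sylow ℓ ↥(twistedD4 K q)) :
    (IsMulCommutative (P : Subgroup ↥(twistedD4 K q)) :) ∧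
      (∀ x ∈ (P : Subgroup ↥(twistedD4 K q)), x ^ ℓ ^ padicValNat ℓ (q ^ 6 - 1) = 1) ∧
      Nat.card {x : ↥(twistedD4 K q) // x ∈ (P : Subgroup ↥(twistedD4 K q)) ∧ x ^ ℓ = 1} ≤ ℓ ^ 2 := by
  have := Cfsg.Agent.H493.PGD4T.finW
  have hodd : Odd ℓ := hℓ.out.odd_of_ne_two (by omega)
  obtain ⟨p, e, hpF, hpk, he, hqe, hk⟩ := Cfsg.Agent.H493.PGD4T.setup hq hK
  have hqe' : (q : ℤ) = ((p ^ e : ℕ) : ℤ) := by rw [hqe]
  have hℓq := not_dvd_of (by norm_num) ho
  have hℓp : ℓ ≠ p := by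
    rintro rfl
    exact hℓq (hqe ▸ dvd_pow_self _ he.ne')
  refine omega_of_eig RGDTwD4.hp coxeterD4.toCoxeterSystem hk he isFrob_tau (fr_tau _) TorusChar.invC_D4
    (by norm_num) (embT_injective (algebraMap K (AlgebraicClosure K)) hq hK) (d := 1)
    (fun y hy => by rw [pow_one]; exact tau_range _ hqe hq hK hy) (Cfsg.Agent.H493.PGD4T.lin _ chD thD)
    okD.1 okD.2 (fun h => hℓ.out.one_lt.ne' (Nat.dvd_one.1 h)) hℓp (a := padicValNat ℓ (q ^ 6 - 1)) ?_ ?_ P
  · rw [← hqe']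
    exact dvd_c6 hq.pos ho
  · have h1 := fact_le (ℓ := ℓ) hodd hℓq hq.two_le (n := Nat.card ↥(twistedD4 K q)) (N := 12)
      (ds := [2, 6, 12]) (by decide) ?_
    · have hw : wt ℓ 6 [2, 6, 12] = 0 := by
        refine wt_eq_zero fun k hk h6 => ?_
        simp only [List.mem_cons, List.not_mem_nil, or_false] at hk
        obtain ⟨n1, n2, n3, -⟩ := ndvd_of_five (ℓ := ℓ) h5
        rcases hk with rfl | rfl | rfl
        · norm_num at h6
        · exact n1
        · exact n2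
      rw [ho, hw, add_zero] at h1
      exact h1
    · refine ⟨q ^ 4 - 1, ?_⟩
      have h2 := Cfsg.Agent.S1067.result hq hK
      have h12 : q ^ 12 - 1 = (q ^ 8 + q ^ 4 + 1) * (q ^ 4 - 1) := by
        have h1 : 1 ≤ q ^ 4 := Nat.one_le_pow _ _ hq.pos
        apply Nat.sub_eq_of_eq_add
        obtain ⟨x, hx⟩ := Nat.exists_eq_add_of_le h1
        have e8 : q ^ 8 = (q ^ 4) ^ 2 := by rw [← pow_mul]
        have e12 : q ^ 12 = (q ^ 4) ^ 3 := by rw [← pow_mul]
        rw [e8, e12, hx, Nat.add_sub_cancel_left]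
        ring
      have h3 : pr q [2, 6, 12] = (q ^ 2 - 1) * ((q ^ 6 - 1) * ((q ^ 12 - 1) * 1)) := rfl
      rw [h3, h12, h2]
      ring

end Rows

end Cfsg.Agent.H28.S5Tor
end

-- part: H28/S5Par
section
/-!
# Centralisers of hyperplanes and parabolic subgroups (S2274, rows `e ≡ 6`)

* `CDat p S` : the data of `H132.S5.spair_of_cent'`; `CDat.congr`, `CDat.spair`;
* `not_dvd_pred` : the arithmetic;
* `no_norm_of_index` : a Sylow `p`-subgroup normalises no nontrivial `r`-subgroup if `p` divides the indices of the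
  maximal parabolic subgroups;
* `cdat_of_par` : the data from a parabolic subgroup of corank one.
-/

set_option autoImplicit false
set_option linter.unusedSectionVars false

universe u

namespace Cfsg.Agent.H28.S5Par

open Cfsg Subgroup

/-! ### The data -/

/-- The data of `H132.S5.spair_of_cent'`. -/
def CDat (p : ℕ) (S : Type*) [Group S] : Prop :=
  ∃ (P : Sylow p S) (r : ℕ) (V T : Subgroup S), IsMulCommutative (P : Subgroup S) ∧ r.Prime ∧ r ≠ p ∧
    (∀ K : Subgroup S, IsPGroup r K → (P : Subgroup S) ≤ normalizer (K : Set S) → K = ⊥) ∧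
    V ≤ (P : Subgroup S) ∧ (∀ v ∈ V, v ^ p = 1) ∧ V ≠ ⊥ ∧
    Nat.card {x : S // x ∈ (P : Subgroup S) ∧ x ^ p = 1} ≤ p * Nat.card V ∧
    IsPGroup r T ∧ (∀ t ∈ T, ∀ v ∈ V, Commute t v) ∧ ¬ Nat.card T ∣ p - 1

theorem CDat.congr {p : ℕ} [hp : Fact p.Prime] {S S' : Type*} [Group S] [Group S'] [Finite S] [Finite S']
    (e : S ≃* S') (h : CDat p S') : CDat p S := by
  obtain ⟨P, r, V, T, hP, hr, hrp, hn, hV, hVp, hV1, hc, hT, hTV, hTc⟩ := h
  have hmem : ∀ (K : Subgroup S') (x : S), x ∈ K.comap e.toMonoidHom ↔ e x ∈ K := fun K x => Iff.rfl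
  have hP' : IsPGroup p ((P : Subgroup S').comap e.toMonoidHom) := P.isPGroup'.comap_of_injective _ e.injective
  have hmc : ∀ K : Subgroup S', Nat.card ↥(K.comap e.toMonoidHom) = Nat.card K := fun K =>
    Nat.card_congr
      { toFun := fun x => ⟨e x.1, x.2⟩
        invFun := fun x => ⟨e.symm x.1, by rw [hmem, e.apply_symm_apply]; exact x.2⟩
        left_inv := fun x => Subtype.ext (e.symm_apply_apply _)
        right_inv := fun x => Subtype.ext (e.apply_symm_apply _) }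
  have hcS : Nat.card S = Nat.card S' := Nat.card_congr e.toEquiv
  have hidx : ¬ p ∣ ((P : Subgroup S').comap e.toMonoidHom).index := by
    have h1 := ((P : Subgroup S').comap e.toMonoidHom).card_mul_index
    have h2 := (P : Subgroup S').card_mul_index
    rw [hmc, hcS, ← h2] at h1
    rw [Nat.eq_of_mul_eq_mul_left Nat.card_pos h1]
    exact P.not_dvd_index
  refine ⟨hP'.toSylow hidx, r, V.comap e.toMonoidHom, T.comap e.toMonoidHom, ?_, hr, hrp, ?_, ?_, ?_, ?_, ?_, ?_, ?_,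
    ?_⟩
  · refine ⟨⟨fun x y => Subtype.ext (e.injective ?_)⟩⟩
    have hx : e x.1 ∈ (P : Subgroup S') := x.2
    have hy : e y.1 ∈ (P : Subgroup S') := y.2
    have h1 := congrArg Subtype.val (hP.is_comm.comm (⟨e x.1, hx⟩ : ↥(P : Subgroup S')) ⟨e y.1, hy⟩)
    show e (x.1 * y.1) = e (y.1 * x.1)
    rw [map_mul, map_mul]
    exact h1
  · intro K hK hPK
    have h1 : K.map e.toMonoidHom = ⊥ := by
      refine hn _ (hK.map _) fun x hx => ?_
      have h2 : e.symm x ∈ ((P : Subgroup S').comap e.toMonoidHom) := by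
        rw [hmem, e.apply_symm_apply]; exact hx
      have h3 := mem_normalizer_iff.1 (hPK h2)
      rw [mem_normalizer_iff]
      intro y
      have h4 := h3 (e.symm y)
      have key : ∀ z : S', z ∈ K.map e.toMonoidHom ↔ e.symm z ∈ K := by
        intro z
        constructor
        · rintro ⟨k, hk, rfl⟩
          show e.symm (e k) ∈ K
          rw [e.symm_apply_apply]; exact hk
        · intro h
          exact ⟨_, h, e.apply_symm_apply z⟩
      show y ∈ K.map e.toMonoidHom ↔ x * y * x⁻¹ ∈ K.map e.toMonoidHom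
      rw [key, key, map_mul, map_mul, map_inv]
      exact h4
    exact (Subgroup.map_eq_bot_iff_of_injective K e.injective).1 h1
  · intro x hx
    exact hV hx
  · intro v hv
    apply e.injective
    rw [map_pow, map_one]
    exact hVp _ hv
  · intro h1
    apply hV1
    rw [eq_bot_iff]
    intro v hv
    have h2 : e.symm v ∈ V.comap e.toMonoidHom := by rw [hmem, e.apply_symm_apply]; exact hv
    rw [h1, mem_bot] at h2
    rw [mem_bot, ← e.apply_symm_apply v, h2, map_one]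
  · rw [hmc]
    refine le_trans (le_of_eq (Nat.card_congr
      { toFun := fun x => ⟨e x.1, x.2.1, by rw [← map_pow, x.2.2, map_one]⟩
        invFun := fun x => ⟨e.symm x.1, show e (e.symm x.1) ∈ (P : Subgroup S') by rw [e.apply_symm_apply]; exact x.2.1, by
          rw [← map_pow, x.2.2, map_one]⟩
        left_inv := fun x => Subtype.ext (e.symm_apply_apply _)
        right_inv := fun x => Subtype.ext (e.apply_symm_apply _) })) hc
  · exact hT.comap_of_injective _ e.injective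
  · intro t ht v hv
    apply e.injective
    rw [map_mul, map_mul]
    exact hTV _ ht _ hv
  · rwa [hmc]

open Cfsg.Agent.H132.S5 Cfsg.Agent.H533.T5 in
/-- **The strong pairs from the data.** -/
theorem CDat.spair {p : ℕ} [hp : Fact p.Prime] (h2 : p ≠ 2) {S : Type u} [Group S] [Finite S] [IsSimpleGroup S]
    (B : SBox.{u} p) (hna : ¬ IsMulCommutative S) (hlt : SBelow.{u} p (Nat.card S)) (h : CDat p S) {x y : S}
    (hx : orderOf x = p) (hy : orderOf y = p) : SPair p (⊤ : Subgroup S) x y := by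
  obtain ⟨P, r, V, T, hP, hr, hrp, hn, hV, hVp, hV1, hc, hT, hTV, hTc⟩ := h
  have : Fact r.Prime := ⟨hr⟩
  have hVo : V ≤ omega p (P : Subgroup S) (comm_of_hab hP) := fun v hv => mem_omega.2 ⟨hV hv, hVp v hv⟩
  refine spair_of_cent' h2 B hna hlt P hP hrp hn hVo hV1 ?_ hT hTV (fun h => hTc h.2) hx hy
  intro z hz hzV w hw
  set Ω := omega p (P : Subgroup S) (comm_of_hab hP) with hΩ
  have hcΩ : Nat.card Ω ≤ p * Nat.card V := hc
  -- the quotient has order `p`
  have hcomm : ∀ a ∈ Ω, ∀ b ∈ Ω, a * b = b * a := fun a ha b hb =>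
    comm_of_hab hP a (mem_omega.1 ha).1 b (mem_omega.1 hb).1
  set V' : Subgroup Ω := V.subgroupOf Ω with hV'
  have hnorm : V'.Normal := by
    refine ⟨fun v hv g => ?_⟩
    have h1 : g * v * g⁻¹ = v := by
      apply Subtype.ext
      show (g : S) * v * (g : S)⁻¹ = v
      rw [hcomm _ g.2 _ v.2, mul_inv_cancel_right]
    rwa [h1]
  have hcV : Nat.card V' = Nat.card V := Nat.card_congr (subgroupOfEquivOfLe hVo).toEquiv
  have hidx : V'.index ≤ p := by
    have h1 := V'.card_mul_index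
    rw [hcV] at h1
    rw [← h1, mul_comm p] at hcΩ
    exact Nat.le_of_mul_le_mul_left hcΩ Nat.card_pos
  have hzq : (QuotientGroup.mk ⟨z, hz⟩ : Ω ⧸ V') ≠ 1 := by
    rw [Ne, QuotientGroup.eq_one_iff]
    exact hzV
  have hzp : (QuotientGroup.mk ⟨z, hz⟩ : Ω ⧸ V') ^ p = 1 := by
    rw [← QuotientGroup.mk_pow, QuotientGroup.eq_one_iff]
    have h1 : (⟨z, hz⟩ : Ω) ^ p = 1 := Subtype.ext (mem_omega.1 hz).2
    rw [h1]
    exact one_mem _
  have hord : orderOf (QuotientGroup.mk ⟨z, hz⟩ : Ω ⧸ V') = p := orderOf_eq_prime hzp hzq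
  have htop : zpowers (QuotientGroup.mk ⟨z, hz⟩ : Ω ⧸ V') = ⊤ := by
    refine Subgroup.eq_top_of_le_card _ ?_
    rw [Nat.card_zpowers, hord]
    exact hidx
  have h3 : (QuotientGroup.mk ⟨w, hw⟩ : Ω ⧸ V')⁻¹ ∈ zpowers (QuotientGroup.mk ⟨z, hz⟩ : Ω ⧸ V') := by
    rw [htop]; exact mem_top _
  obtain ⟨n, hn'⟩ := mem_zpowers_iff.1 h3
  refine ⟨n, ?_⟩
  have h4 : (QuotientGroup.mk (⟨w, hw⟩ * (⟨z, hz⟩ : Ω) ^ n) : Ω ⧸ V') = 1 := by
    rw [QuotientGroup.mk_mul, QuotientGroup.mk_zpow, hn', mul_inv_cancel]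
  rw [QuotientGroup.eq_one_iff] at h4
  exact h4

/-! ### Arithmetic -/

/-- the power is `-1` -/
theorem pow_eq_neg_one {ℓ : ℕ} [hℓ : Fact ℓ.Prime] {q m : ℕ} (ho : orderOf (q : ZMod ℓ) = 6) (hm : m % 6 = 3) :
    (q : ZMod ℓ) ^ m = -1 := by
  have h6 : (q : ZMod ℓ) ^ 6 = 1 := by rw [← ho]; exact pow_orderOf_eq_one _
  have h3 : (q : ZMod ℓ) ^ 3 ≠ 1 := fun h => by
    have := orderOf_dvd_of_pow_eq_one h
    rw [ho] at this
    norm_num at this
  have h4 : (q : ZMod ℓ) ^ 3 = -1 := by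
    have h5 : ((q : ZMod ℓ) ^ 3 - 1) * ((q : ZMod ℓ) ^ 3 + 1) = 0 := by
      have e : ((q : ZMod ℓ) ^ 3 - 1) * ((q : ZMod ℓ) ^ 3 + 1) = (q : ZMod ℓ) ^ 6 - 1 := by ring
      rw [e, h6, sub_self]
    rcases mul_eq_zero.1 h5 with h | h
    · exact absurd (sub_eq_zero.1 h) h3
    · exact eq_neg_of_add_eq_zero_left h
  have h7 : m = 6 * (m / 6) + 3 := by omega
  rw [h7, pow_add, pow_mul, h6, one_pow, one_mul, h4]

/-- **Arithmetic.** -/
theorem not_dvd_pred {ℓ : ℕ} [hℓ : Fact ℓ.Prime] {r f m j : ℕ} (hr : r.Prime)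
    (ho : orderOf ((r ^ f : ℕ) : ZMod ℓ) = 6) (hm : m % 6 = 3) (hj : ((r ^ j : ℕ) : ZMod ℓ) = ((r ^ f : ℕ) : ZMod ℓ) ^ m) :
    ¬ r ^ j ∣ ℓ - 1 := by
  intro hdvd
  have hl := hℓ.out
  rw [pow_eq_neg_one ho hm] at hj
  have h1 : ℓ ∣ r ^ j + 1 := by
    rw [← CharP.cast_eq_zero_iff (ZMod ℓ) ℓ]
    push_cast at hj ⊢
    rw [hj]; ring
  have hl3 : 3 ≤ ℓ := by
    have h0 : ((r ^ f : ℕ) : ZMod ℓ) ≠ 0 := by
      intro h5
      rw [h5, orderOf_eq_zero_iff'.2 (fun n hn h6 => by rw [zero_pow hn.ne'] at h6; exact zero_ne_one h6)] at ho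
      omega
    have h2 := ZMod.orderOf_dvd_card_sub_one h0
    rw [ho] at h2
    have h3 := Nat.le_of_dvd (by have := hl.two_le; omega) h2
    omega
  have hf : f ≠ 0 := by
    rintro rfl
    rw [pow_zero, Nat.cast_one, orderOf_one] at ho
    omega
  have hle : r ^ j ≤ ℓ - 1 := Nat.le_of_dvd (by omega) hdvd
  have hge : ℓ ≤ r ^ j + 1 := Nat.le_of_dvd (by positivity) h1
  have heq : r ^ j = ℓ - 1 := by omega
  have hj0 : j ≠ 0 := by
    rintro rfl
    rw [pow_zero] at heq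
    omega
  -- the order of `r` modulo `ℓ`
  set n := orderOf (r : ZMod ℓ) with hn
  have hjr : (r : ZMod ℓ) ^ j = -1 := by rw [← hj]; push_cast; rfl
  have h2j : (r : ZMod ℓ) ^ (2 * j) = 1 := by rw [mul_comm, pow_mul, hjr]; ring
  have hnd : n ∣ 2 * j := orderOf_dvd_of_pow_eq_one h2j
  have hnpos : 0 < n := Nat.pos_of_dvd_of_pos hnd (by omega)
  have hnj : j < n := by
    by_contra hcon
    push Not at hcon
    have h3 : (r : ZMod ℓ) ^ n = 1 := pow_orderOf_eq_one _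
    have h4 : ℓ ∣ r ^ n - 1 := by
      rw [← CharP.cast_eq_zero_iff (ZMod ℓ) ℓ, Nat.cast_sub (Nat.one_le_pow _ _ hr.pos)]
      push_cast
      rw [h3, sub_self]
    have h5 : 1 < r ^ n := Nat.one_lt_pow hnpos.ne' hr.one_lt
    have h6 := Nat.le_of_dvd (by omega) h4
    have h7 : r ^ n ≤ r ^ j := Nat.pow_le_pow_right hr.pos hcon
    omega
  have hn2 : n = 2 * j := by
    obtain ⟨c, hc⟩ := hnd
    rcases Nat.lt_or_ge c 2 with h3 | h3
    · interval_cases c
      · omega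
      · omega
    · have : n * 2 ≤ n * c := Nat.mul_le_mul_left _ h3
      omega
  have h6n : 6 ∣ n := by
    have h3 : orderOf ((r : ZMod ℓ) ^ f) = n / Nat.gcd n f := orderOf_pow' _ hf
    have h4 : orderOf ((r : ZMod ℓ) ^ f) = 6 := by rw [← ho]; push_cast; rfl
    rw [h4] at h3
    rw [h3]
    exact Nat.div_dvd_of_dvd (Nat.gcd_dvd_left _ _)
  obtain ⟨i, hi⟩ : 3 ∣ j := by omega
  have h8 : r ^ i + 1 ∣ ℓ := by
    have e : ℓ = r ^ j + 1 := by (clear * - hl3 heq; omega)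
    rw [e, hi, mul_comm 3, pow_mul]
    have h3 : (r ^ i) ^ 3 + 1 = (r ^ i + 1) * ((r ^ i) ^ 2 - r ^ i + 1) := by
      have h4 : r ^ i ≤ (r ^ i) ^ 2 := Nat.le_self_pow (by norm_num) _
      zify [h4]
      ring
    rw [h3]
    exact dvd_mul_right _ _
  have hi0 : i ≠ 0 := by rintro rfl; omega
  rcases (Nat.dvd_prime hl).1 h8 with h3 | h3
  · have := Nat.one_le_pow i r hr.pos
    omega
  · have h4 : r ^ i = r ^ j := by (clear * - heq h3; omega)
    have h5 := Nat.pow_right_injective hr.two_le h4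
    omega

/-! ### Abelian groups -/

/-- the order and the socle of an abelian group of exponent dividing `p ^ a` -/
theorem card_le_omega {A : Type*} [CommGroup A] [Finite A] (p : ℕ) : ∀ a : ℕ,
    Nat.card {x : A // x ^ p ^ a = 1} ≤ Nat.card {x : A // x ^ p = 1} ^ a
  | 0 => by
    rw [pow_zero, pow_zero]
    refine le_of_eq (Nat.card_eq_one_iff_unique.2 ⟨⟨fun x y => Subtype.ext ?_⟩, ⟨⟨1, one_pow _⟩⟩⟩)
    have h1 := x.2
    have h2 := y.2
    rw [pow_one] at h1 h2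
    rw [h1, h2]
  | a + 1 => by
    have ih := card_le_omega (A := A) p a
    let B : ℕ → Subgroup A := fun i => (powMonoidHom (p ^ i) : A →* A).ker
    have hB : ∀ i x, x ∈ B i ↔ x ^ p ^ i = 1 := fun i x => by
      rw [MonoidHom.mem_ker]; rfl
    let f : B (a + 1) →* B 1 :=
      { toFun := fun x => ⟨x.1 ^ p ^ a, by
          rw [hB, pow_one, ← pow_mul, ← pow_succ]
          exact (hB _ _).1 x.2⟩
        map_one' := Subtype.ext (one_pow _)
        map_mul' := fun x y => Subtype.ext (mul_pow _ _ _) }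
    have h1 : Nat.card (B (a + 1)) = Nat.card f.range * Nat.card f.ker := by
      rw [mul_comm, ← Subgroup.index_ker, Subgroup.card_mul_index]
    have h2 : Nat.card f.range ≤ Nat.card (B 1) := Nat.card_le_card_of_injective _ Subtype.val_injective
    have h3 : Nat.card f.ker ≤ Nat.card (B a) := by
      refine Nat.card_le_card_of_injective (fun x => ⟨x.1.1, ?_⟩) ?_
      · rw [hB]
        exact congrArg Subtype.val x.2
      · intro x y h
        have h4 : x.1.1 = y.1.1 := congrArg (fun z : B a => (z : A)) h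
        exact Subtype.ext (Subtype.ext h4)
    have hc : ∀ i, Nat.card (B i) = Nat.card {x : A // x ^ p ^ i = 1} := fun i =>
      Nat.card_congr (Equiv.subtypeEquivRight fun x => hB i x)
    have hc1 : Nat.card (B 1) = Nat.card {x : A // x ^ p = 1} := by rw [hc, pow_one]
    calc Nat.card {x : A // x ^ p ^ (a + 1) = 1} = Nat.card (B (a + 1)) := (hc _).symm
      _ = Nat.card f.range * Nat.card f.ker := h1
      _ ≤ Nat.card (B 1) * Nat.card (B a) := Nat.mul_le_mul h2 h3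
      _ ≤ Nat.card {x : A // x ^ p = 1} * Nat.card {x : A // x ^ p = 1} ^ a := by
        rw [hc1, hc]
        exact Nat.mul_le_mul_left _ ih
      _ = _ := (pow_succ' _ _).symm

/-! ### Parabolic subgroups -/

section Par

open CoxeterSystem Cfsg.Agent.ChevalleyStructure.CoxeterGeom Cfsg.Agent.Tits.Roots Cfsg.Agent.Tits.Core
  Cfsg.Agent.Nodes.Reps Cfsg.Agent.Nodes.BNOf Cfsg.Agent.Nodes.StabComb Cfsg.Agent.Nodes.LeviDec
  Cfsg.Agent.KFacts.RgdBorelTits Cfsg.Agent.KFacts.RgdFilt Cfsg.Agent.H1.RgdRow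

variable {I W Y : Type*} [Fintype I] [DecidableEq I] [Group W] [Group Y] {M : CoxeterMatrix I}
  {cs : CoxeterSystem M W} {A : I → I → ℤ} {h : IsCartan M A} {r : ℕ} {T : Subgroup Y} {n : I → Y}
  {X : (I → ℤ) → Subgroup Y} {R : RGD cs h r T n X}

/-- **A Sylow `p`-subgroup normalises no nontrivial `r`-subgroup.** -/
theorem no_norm_of_index [Finite W] [Finite Y] [hr : Fact r.Prime] {F : (I → ℤ) → ℝ → Subgroup Y} (hF : Filt R F)
    (hG : Cfsg.Agent.Nodes.RGDLib.G1 cs h X = ⊤) {p : ℕ} [Fact p.Prime]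
    (hidx : ∀ j : I, p ∣ (PJ cs h T X {i | i ≠ j}).index) (P : Sylow p Y) (K : Subgroup Y) (hK : IsPGroup r K)
    (hPK : (P : Subgroup Y) ≤ normalizer (K : Set Y)) : K = ⊥ := by
  by_contra hK1
  obtain ⟨g, J, hJ, -, hN⟩ := borel_tits_of_filt hF hG hK hK1
  obtain ⟨j, hj⟩ := (Set.ne_univ_iff_exists_notMem J).1 hJ
  have h1 : (P : Subgroup Y) ≤ cj g (PJ cs h T X {i | i ≠ j}) := by
    refine hPK.trans (hN.trans (Subgroup.map_mono (Cfsg.Agent.BiChar.RankPar.PJ_mono fun i hi => ?_)))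
    show i ≠ j
    rintro rfl
    exact hj hi
  have h2 : (cj g (PJ cs h T X {i | i ≠ j})).index = (PJ cs h T X {i | i ≠ j}).index :=
    Subgroup.index_map_equiv _ (MulAut.conj g)
  exact P.not_dvd_index ((hidx j).trans (h2 ▸ Subgroup.index_dvd_of_le h1))

/-- the fixed points of a `p`-group on a normalised subgroup -/
theorem card_cent_modEq [Finite Y] {p : ℕ} [Fact p.Prime] {V Q : Subgroup Y} (hV : IsPGroup p V)
    (hVQ : V ≤ normalizer (Q : Set Y)) :
    Nat.card Q ≡ Nat.card ↥(Q ⊓ centralizer (V : Set Y)) [MOD p] := by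
  let act : MulAction V Q :=
    { smul := fun v x => ⟨v.1 * x.1 * v.1⁻¹, (mem_normalizer_iff.1 (hVQ v.2) x.1).1 x.2⟩
      one_smul := fun x => Subtype.ext (by
        show (1 : Y) * x.1 * (1 : Y)⁻¹ = x.1
        group)
      mul_smul := fun v w x => Subtype.ext (by
        show (v.1 * w.1) * x.1 * (v.1 * w.1)⁻¹ = v.1 * (w.1 * x.1 * w.1⁻¹) * v.1⁻¹
        group) }
  have h1 := hV.card_modEq_card_fixedPoints Q
  have h2 : Nat.card (MulAction.fixedPoints V Q) = Nat.card ↥(Q ⊓ centralizer (V : Set Y)) := by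
    refine Nat.card_congr
      { toFun := fun x => ⟨x.1.1, mem_inf.2 ⟨x.1.2, mem_centralizer_iff.2 fun v hv => ?_⟩⟩
        invFun := fun x => ⟨⟨x.1, (mem_inf.1 x.2).1⟩, fun v => Subtype.ext ?_⟩
        left_inv := fun x => rfl
        right_inv := fun x => rfl }
    · have h3 := congrArg Subtype.val (x.2 ⟨v, hv⟩)
      have h4 : v * x.1.1 * v⁻¹ = x.1.1 := h3
      exact mul_inv_eq_iff_eq_mul.1 h4
    · show v.1 * x.1 * v.1⁻¹ = x.1
      rw [mem_centralizer_iff.1 (mem_inf.1 x.2).2 v.1 v.2, mul_inv_cancel_right]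
  rwa [h2] at h1

/-- **The data from a parabolic subgroup.** -/
theorem cdat_of_par [Finite W] [Finite Y] [hr : Fact r.Prime] {F : (I → ℤ) → ℝ → Subgroup Y} (hF : Filt R F)
    (hG : Cfsg.Agent.Nodes.RGDLib.G1 cs h X = ⊤) {p : ℕ} [hp : Fact p.Prime] (hrp : r ≠ p)
    (hidx : ∀ j : I, p ∣ (PJ cs h T X {i | i ≠ j}).index) {j₀ : I} {k a f m : ℕ} (hk : 1 ≤ k) (ha : 1 ≤ a)
    (hcomm : ∀ P : Sylow p Y, IsMulCommutative (P : Subgroup Y))
    (hexp : ∀ P : Sylow p Y, ∀ x ∈ (P : Subgroup Y), x ^ p ^ a = 1)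
    (hom : ∀ P : Sylow p Y, Nat.card {x : Y // x ∈ (P : Subgroup Y) ∧ x ^ p = 1} ≤ p ^ (k + 1))
    (hcV : Nat.card (VJ cs h X {i | i ≠ j₀}) = (r ^ f) ^ m) (hm : m % 6 = 3)
    (ho : orderOf ((r ^ f : ℕ) : ZMod p) = 6) (hPJ : p ^ (a * k) ∣ Nat.card (PJ cs h T X {i | i ≠ j₀})) :
    CDat p Y := by
  classical
  set Q := VJ cs h X {i | i ≠ j₀} with hQ
  set L := PJ cs h T X {i | i ≠ j₀} with hL
  obtain ⟨P0⟩ : Nonempty (Sylow p L) := inferInstance
  set H0 : Subgroup Y := (P0 : Subgroup L).map L.subtype with hH0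
  have hH0p : IsPGroup p H0 := P0.isPGroup'.map _
  have hH0L : H0 ≤ L := Subgroup.map_subtype_le _
  have hcH0 : p ^ (a * k) ≤ Nat.card H0 := by
    have h1 : Nat.card H0 = Nat.card (P0 : Subgroup L) :=
      (Nat.card_congr ((P0 : Subgroup L).equivMapOfInjective L.subtype L.subtype_injective).toEquiv).symm
    rw [h1]
    exact Nat.le_of_dvd Nat.card_pos (P0.pow_dvd_card_of_pow_dvd_card hPJ)
  obtain ⟨P, hP⟩ := hH0p.exists_le_sylow
  have hPc := hcomm P
  let CG : CommGroup H0 :=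
    { (inferInstance : Group H0) with
      mul_comm := fun x y => Subtype.ext (show x.1 * y.1 = y.1 * x.1 from congrArg Subtype.val
        (hPc.is_comm.comm (⟨x.1, hP x.2⟩ : ↥(P : Subgroup Y)) ⟨y.1, hP y.2⟩)) }
  -- the socle of `H0`
  let Om : Subgroup H0 := (powMonoidHom p : H0 →* H0).ker
  have hOm : ∀ x, x ∈ Om ↔ x ^ p = 1 := fun x => by rw [MonoidHom.mem_ker]; rfl
  have h1 : Nat.card H0 ≤ Nat.card Om ^ a := by
    have h2 := card_le_omega (A := H0) p a
    have h3 : Nat.card {x : H0 // x ^ p ^ a = 1} = Nat.card H0 := by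
      refine Nat.card_congr
        { toFun := fun x => x.1
          invFun := fun x => ⟨x, Subtype.ext (hexp P _ (hP x.2))⟩
          left_inv := fun x => rfl
          right_inv := fun x => rfl }
    have h4 : Nat.card {x : H0 // x ^ p = 1} = Nat.card Om :=
      Nat.card_congr (Equiv.subtypeEquivRight fun x => (hOm x).symm)
    rwa [h3, h4] at h2
  obtain ⟨s, hs⟩ := IsPGroup.iff_card.1 (hH0p.to_subgroup Om)
  have hks : k ≤ s := by
    have h2 := hcH0.trans h1
    rw [hs, ← pow_mul] at h2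
    have h3 := (Nat.pow_le_pow_iff_right hp.out.one_lt).1 h2
    rw [mul_comm s] at h3
    exact Nat.le_of_mul_le_mul_left h3 ha
  obtain ⟨V0, hV0⟩ := Sylow.exists_subgroup_card_pow_prime (G := Om) p (n := k) (by rw [hs]; exact pow_dvd_pow p hks)
  set V : Subgroup Y := (V0.map Om.subtype).map H0.subtype with hV
  have hcVV : Nat.card V = p ^ k := by
    rw [← hV0]
    refine (Nat.card_congr (((V0.map Om.subtype).equivMapOfInjective H0.subtype
      H0.subtype_injective).toEquiv)).symm.trans ?_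
    exact (Nat.card_congr ((V0.equivMapOfInjective Om.subtype Om.subtype_injective).toEquiv)).symm
  have hVH : V ≤ H0 := Subgroup.map_subtype_le _
  have hVp : ∀ v ∈ V, v ^ p = 1 := by
    rintro _ ⟨_, ⟨v, -, rfl⟩, rfl⟩
    exact congrArg Subtype.val ((hOm _).1 v.2)
  have hV1 : V ≠ ⊥ := by
    intro h2
    rw [h2, Subgroup.card_bot] at hcVV
    have := Nat.one_lt_pow (Nat.one_le_iff_ne_zero.1 hk) hp.out.one_lt
    omega
  have hVpg : IsPGroup p V := hH0p.to_le hVH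
  have hQr : IsPGroup r Q := VJ_isPGroup R _
  have hTr : IsPGroup r ↥(Q ⊓ centralizer (V : Set Y)) := hQr.to_le inf_le_left
  refine ⟨P, r, V, Q ⊓ centralizer (V : Set Y), hPc, hr.out, hrp, fun K hK hPK => no_norm_of_index hF hG hidx P K hK hPK,
    hVH.trans hP, hVp, hV1, ?_, hTr, ?_, ?_⟩
  · rw [hcVV, ← pow_succ']
    exact hom P
  · intro t ht v hv
    exact (mem_centralizer_iff.1 (mem_inf.1 ht).2 v hv).symm
  · obtain ⟨j, hj⟩ := IsPGroup.iff_card.1 hTr
    rw [hj]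
    refine not_dvd_pred hr.out ho hm ?_
    have h2 := card_cent_modEq hVpg ((hVH.trans hH0L).trans (PJ_le_normalizer_VJ R {i | i ≠ j₀}))
    rw [hcV, hj] at h2
    have h3 := (ZMod.natCast_eq_natCast_iff _ _ _).2 h2
    rw [← h3]
    push_cast
    rfl

end Par

end Cfsg.Agent.H28.S5Par
end

-- part: H28/S5SixRows
section
/-!
# Strong pairs in `³D₄(q)` and `²E₆(q)`, `q` of order `6` modulo `p` (S2274)

* `cdat_twD4`, `cdat_twE6` : the data `S5Par.CDat`;
* `spair_twD4`, `spair_twE6` : the strong pairs.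
-/

set_option autoImplicit false
set_option linter.unusedSectionVars false

universe u

namespace Cfsg.Agent.H28.S5SixRows

open CoxeterSystem Cfsg Cfsg.Lie Cfsg.Agent.ChevalleyStructure Cfsg.Agent.ChevalleyStructure.CoxeterGeom
  Cfsg.Agent.ChevalleyStructure.CoxeterGeomTypes
  Cfsg.Agent.Tits.Roots Cfsg.Agent.Tits.Core Cfsg.Agent.Nodes.Reps Cfsg.Agent.Nodes.BNOf
  Cfsg.Agent.Nodes.RGDChev
  Cfsg.Agent.Nodes.StabComb Cfsg.Agent.Nodes.Bruhat Cfsg.Agent.Nodes.LeviDec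
  Cfsg.Agent.ParSys.RootCount Cfsg.Agent.ParSys.RootExc
open Cfsg.Agent.H35.ExcIdx Cfsg.Agent.H28.S5Par

/-! ### Arithmetic -/

section Num

variable {q p : ℕ} [hp : Fact p.Prime]

theorem dvd_of_pow {k : ℕ} (hq : 1 ≤ q) (ho : orderOf (q : ZMod p) = 6) (hk : 6 ∣ k) : p ∣ q ^ k - 1 := by
  rw [← CharP.cast_eq_zero_iff (ZMod p) p, Nat.cast_sub (Nat.one_le_pow _ _ hq)]
  push_cast
  rw [orderOf_dvd_iff_pow_eq_one.1 (ho ▸ hk), sub_self]

theorem ndvd_of_pow {k : ℕ} (hq : 1 ≤ q) (ho : orderOf (q : ZMod p) = 6) (hk : ¬ 6 ∣ k) : ¬ p ∣ q ^ k - 1 := by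
  intro h
  apply hk
  rw [← ho, orderOf_dvd_iff_pow_eq_one]
  rw [← CharP.cast_eq_zero_iff (ZMod p) p, Nat.cast_sub (Nat.one_le_pow _ _ hq)] at h
  push_cast at h
  exact sub_eq_zero.1 h

theorem one_le_a (hq : 2 ≤ q) (ho : orderOf (q : ZMod p) = 6) : 1 ≤ padicValNat p (q ^ 6 - 1) := by
  apply one_le_padicValNat_of_dvd
  · have := Nat.one_lt_pow (n := 6) (by norm_num) (show 1 < q by omega)
    omega
  · exact dvd_of_pow (by omega) ho (dvd_refl _)

/-- the `p`-part of `q ^ 6 - 1` divides a factor -/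
theorem pow_dvd_fac {A B : ℕ} (h : A * B = q ^ 6 - 1) (hA : ¬ p ∣ A) : p ^ padicValNat p (q ^ 6 - 1) ∣ B := by
  have h1 : p ^ padicValNat p (q ^ 6 - 1) ∣ A * B := by rw [h]; exact pow_padicValNat_dvd
  exact (Nat.Coprime.pow_left _ ((Nat.Prime.coprime_iff_not_dvd hp.out).2 hA)).dvd_of_dvd_mul_left h1

theorem pow_dvd_cube (hq : 1 ≤ q) (ho : orderOf (q : ZMod p) = 6) : p ^ padicValNat p (q ^ 6 - 1) ∣ 1 + q ^ 3 := by
  refine pow_dvd_fac (A := q ^ 3 - 1) ?_ (ndvd_of_pow hq ho (by norm_num))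
  have h1 : 1 ≤ q ^ 3 := Nat.one_le_pow _ _ hq
  obtain ⟨x, hx⟩ := Nat.exists_eq_add_of_le h1
  have e6 : q ^ 6 = (q ^ 3) ^ 2 := by rw [← pow_mul]
  rw [e6, hx, Nat.add_sub_cancel_left]
  symm
  apply Nat.sub_eq_of_eq_add
  ring

theorem pow_dvd_sq (hq : 1 ≤ q) (ho : orderOf (q : ZMod p) = 6) :
    p ^ padicValNat p (q ^ 6 - 1) ∣ 1 + q ^ 2 + q ^ 4 := by
  refine pow_dvd_fac (A := q ^ 2 - 1) ?_ (ndvd_of_pow hq ho (by norm_num))
  have h1 : 1 ≤ q ^ 2 := Nat.one_le_pow _ _ hq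
  obtain ⟨x, hx⟩ := Nat.exists_eq_add_of_le h1
  have e6 : q ^ 6 = (q ^ 2) ^ 3 := by rw [← pow_mul]
  have e4 : q ^ 4 = (q ^ 2) ^ 2 := by rw [← pow_mul]
  rw [e6, e4, hx, Nat.add_sub_cancel_left]
  symm
  apply Nat.sub_eq_of_eq_add
  ring

theorem dvd_nine (ho : orderOf (q : ZMod p) = 6) : p ∣ q ^ 9 + 1 := by
  have h1 := pow_eq_neg_one (m := 9) ho (by norm_num)
  rw [← CharP.cast_eq_zero_iff (ZMod p) p]
  push_cast
  rw [h1]
  ring

theorem dvd_tri (hq : 1 ≤ q) (ho : orderOf (q : ZMod p) = 6) : p ∣ q ^ 8 + q ^ 4 + 1 := by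
  have h1 : (q ^ 4 - 1) * (q ^ 8 + q ^ 4 + 1) = q ^ 12 - 1 := by
    have h1 : 1 ≤ q ^ 4 := Nat.one_le_pow _ _ hq
    obtain ⟨x, hx⟩ := Nat.exists_eq_add_of_le h1
    have e8 : q ^ 8 = (q ^ 4) ^ 2 := by rw [← pow_mul]
    have e12 : q ^ 12 = (q ^ 4) ^ 3 := by rw [← pow_mul]
    rw [e8, e12, hx, Nat.add_sub_cancel_left]
    symm
    apply Nat.sub_eq_of_eq_add
    ring
  have h2 : p ∣ (q ^ 4 - 1) * (q ^ 8 + q ^ 4 + 1) := by
    rw [h1]; exact dvd_of_pow hq ho (by norm_num)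
  exact (hp.out.dvd_mul.1 h2).resolve_left (ndvd_of_pow hq ho (by norm_num))

end Num

/-! ### `³D₄(q)` -/

section D4

theorem d4_idx0 {q i : ℕ} (hq : 2 ≤ q) (h : i * (1 + q ^ 3) * ((q - 1) ^ 2 * (q ^ 2 + q + 1)) =
    (q ^ 2 - 1) * (q ^ 6 - 1) * (q ^ 8 + q ^ 4 + 1)) : i = (q + 1) * (q ^ 8 + q ^ 4 + 1) := by
  obtain ⟨x, rfl⟩ : ∃ x, q = x + 1 := ⟨q - 1, by omega⟩
  have e1 : (x + 1) ^ 2 - 1 = x * (x + 2) := by
    apply Nat.sub_eq_of_eq_add; ring
  have e2 : (x + 1) ^ 6 - 1 = x * ((x + 1) ^ 2 + (x + 1) + 1) * (1 + (x + 1) ^ 3) := by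
    apply Nat.sub_eq_of_eq_add; ring
  rw [e1, e2, Nat.add_sub_cancel] at h
  have hpos : 0 < (1 + (x + 1) ^ 3) * (x ^ 2 * ((x + 1) ^ 2 + (x + 1) + 1)) := by
    have : 0 < x := by omega
    (clear * - this; positivity)
  apply Nat.eq_of_mul_eq_mul_right hpos
  calc i * ((1 + (x + 1) ^ 3) * (x ^ 2 * ((x + 1) ^ 2 + (x + 1) + 1)))
      = i * (1 + (x + 1) ^ 3) * (x ^ 2 * ((x + 1) ^ 2 + (x + 1) + 1)) := by ring
    _ = _ := by rw [h]; (set_option synthInstance.maxSize 99999 in exact Cfsg.Agent.Lib.RingK.eqN (by decide +kernel))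

theorem d4_idx1 {q i : ℕ} (hq : 2 ≤ q) (h : i * (1 + q) * ((q - 1) ^ 2 * (q ^ 2 + q + 1)) =
    (q ^ 2 - 1) * (q ^ 6 - 1) * (q ^ 8 + q ^ 4 + 1)) : i = (q ^ 3 + 1) * (q ^ 8 + q ^ 4 + 1) := by
  obtain ⟨x, rfl⟩ : ∃ x, q = x + 1 := ⟨q - 1, by omega⟩
  have e1 : (x + 1) ^ 2 - 1 = x * (x + 2) := by
    apply Nat.sub_eq_of_eq_add; ring
  have e2 : (x + 1) ^ 6 - 1 = x * ((x + 1) ^ 2 + (x + 1) + 1) * (1 + (x + 1) ^ 3) := by
    apply Nat.sub_eq_of_eq_add; ring
  rw [e1, e2, Nat.add_sub_cancel] at h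
  have hpos : 0 < (1 + (x + 1)) * (x ^ 2 * ((x + 1) ^ 2 + (x + 1) + 1)) := by
    have : 0 < x := by omega
    (clear * - this; positivity)
  apply Nat.eq_of_mul_eq_mul_right hpos
  calc i * ((1 + (x + 1)) * (x ^ 2 * ((x + 1) ^ 2 + (x + 1) + 1)))
      = i * (1 + (x + 1)) * (x ^ 2 * ((x + 1) ^ 2 + (x + 1) + 1)) := by ring
    _ = _ := by rw [h]; (set_option synthInstance.maxSize 99999 in exact Cfsg.Agent.Lib.RingK.eqN (by decide +kernel))

open Cfsg.Agent.Nodes.RGDTwD4 Cfsg.Agent.ClosedExc.TwD4 Cfsg.Agent.H934.RowTwD4 in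
/-- **The data of `³D₄(q)`.** -/
theorem cdat_twD4 {K : Type} [Field K] [Fintype K] {q : ℕ} (hq : IsPrimePow q) (hK : Fintype.card K = q ^ 3)
    {p : ℕ} [hp : Fact p.Prime] (h5 : 5 ≤ p) (ho : orderOf (q : ZMod p) = 6) : CDat p ↥(twistedD4 K q) := by
  obtain ⟨φ, hφ⟩ := D4Fixed.exists_frob hq hK
  have hle := D4Fixed.twisted_le_fix hK hφ
  have : Finite (GL chevD4.Idx K) := inferInstance
  obtain ⟨r, hcr⟩ := CharP.exists K
  have hr : Fact r.Prime := ⟨CharP.char_is_prime K r⟩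
  have h2 : 2 ≤ q := hq.two_le
  have h1q : 1 ≤ q := by omega
  obtain ⟨f, hf⟩ : ∃ f, q = r ^ f := by
    obtain ⟨f, hf0, hf⟩ := FiniteField.card K r
    have h1 : q ∣ r ^ (f : ℕ) := by rw [← hf, hK]; exact dvd_pow_self q (by norm_num)
    obtain ⟨g, -, hg⟩ := (Nat.dvd_prime_pow hr.out).1 h1
    exact ⟨g, hg⟩
  have hf0 : f ≠ 0 := by
    rintro rfl
    rw [pow_zero] at hf
    omega
  have hrq : r ∣ q := by rw [hf]; exact dvd_pow_self r hf0
  have hpq : ¬ p ∣ q := Cfsg.Agent.H28.T5TorRows.not_dvd_of (by norm_num) ho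
  have hrp : r ≠ p := by rintro rfl; exact hpq hrq
  have hW : Finite CoxeterMatrix.G₂.Group := Cfsg.Agent.Nodes.RGDFold.finite_W
    (hp := Cfsg.Agent.Nodes.RGDTwD4.hp) CoxeterMatrix.G₂.toCoxeterSystem isCartan foldData
  have R := _root_.Cfsg.Agent.Nodes.RGDTwD4.rgd CoxeterMatrix.G₂.toCoxeterSystem hK hφ r
  have hG1 : Nodes.RGDLib.G1 CoxeterMatrix.G₂.toCoxeterSystem isCartan (X φ q) = ⊤ := _root_.Cfsg.Agent.Nodes.RGDTwD4.G1_eq_top _ hK hφ
  have hGG : GG CoxeterMatrix.G₂.toCoxeterSystem isCartan (T K q) (X φ q) = ⊤ := by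
    rw [eq_top_iff, ← hG1]
    exact le_sup_right
  have hc := Cfsg.Agent.H934.RowTwD4.card_X hφ (by omega) hK
  have hcV := Cfsg.Agent.H62.PPTwist.card_VJ R Cfsg.Agent.H62.PPTwist.D4.posRoots (by decide +kernel) (q := q)
    Cfsg.Agent.H62.PPTwist.D4.w (by decide +kernel)
    (by
      intro i
      rw [hc i]
      fin_cases i
      · exact (pow_one q).symm
      · rfl) 0
  have hN0 := card_step R path1 (y := q ^ 3) (fun i hi => by
    rw [List.mem_singleton] at hi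
    rw [hc, hi]
    rfl) (card_nil R)
  have path0 : PathOK CoxeterMatrix.G₂ [0] [0] [] 0 := by constructor <;> decide +kernel
  have hN1 := card_step R path0 (y := q) (fun i hi => by
    rw [List.mem_singleton] at hi
    rw [hc, hi]
    rfl) (card_nil R)
  have hT : 1 * Nat.card ↥(T K q) = (q - 1) ^ 2 * (q ^ 2 + q + 1) := by
    rw [one_mul, ← Cfsg.Agent.S1106.result hq hK]
    exact Nat.card_congr (Subgroup.subgroupOfEquivOfLe inf_le_right).toEquiv
  have hS : 1 * Nat.card ↥(twistedD4 K q) = r ^ (f * 12) * ((q ^ 2 - 1) * (q ^ 6 - 1) * (q ^ 8 + q ^ 4 + 1)) := by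
    rw [one_mul, Cfsg.Agent.S1067.result hq hK, pow_mul, ← hf]
    ring
  have hsub : ∀ k, k ≠ 0 → ¬ r ∣ q ^ k - 1 := by
    intro k hk h3
    have h4 : r ∣ q ^ k := dvd_pow hrq hk
    have h5 : 1 ≤ q ^ k := Nat.one_le_pow _ _ (by omega)
    have h6 := Nat.dvd_sub h4 h3
    rw [Nat.sub_sub_self h5] at h6
    exact hr.out.one_lt.ne' (Nat.dvd_one.1 h6)
  have hP : ¬ r ∣ (q ^ 2 - 1) * (q ^ 6 - 1) * (q ^ 8 + q ^ 4 + 1) := by
    rw [hr.out.dvd_mul, hr.out.dvd_mul]
    rintro ((h3 | h3) | h3)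
    · exact hsub 2 (by norm_num) h3
    · exact hsub 6 (by norm_num) h3
    · have h4 : r ∣ q ^ 8 + q ^ 4 := dvd_add (dvd_pow hrq (by norm_num)) (dvd_pow hrq (by norm_num))
      exact hr.out.one_lt.ne' (Nat.dvd_one.1 ((Nat.dvd_add_right h4).1 h3))
  have h60 := index_eq R hGG hN0 (d := 1) (fun h => hr.out.one_lt.ne' (Nat.dvd_one.1 h)) hT hS hP
  have h61 := index_eq R hGG hN1 (d := 1) (fun h => hr.out.one_lt.ne' (Nat.dvd_one.1 h)) hT hS hP
  have hFA0 : FA [(1 : Fin 2)].length (q ^ 3) * 1 = 1 + q ^ 3 := by simp [FA, Finset.sum_range_succ]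
  have hFA1 : FA [(0 : Fin 2)].length q * 1 = 1 + q := by simp [FA, Finset.sum_range_succ]
  rw [hFA0] at h60 hN0
  rw [hFA1] at h61
  have hJ0 : ({i | i ≠ 0} : Set (Fin 2)) = {j | j ∈ ([1] : List (Fin 2))} := by ext j; revert j; decide
  have hJ1 : ({i | i ≠ 1} : Set (Fin 2)) = {j | j ∈ ([0] : List (Fin 2))} := by ext j; revert j; decide
  have hJ0' : ({i | i ≠ 0} : Set (Fin 2)) = {0}ᶜ := by ext j; simp
  refine cdat_of_par (Cfsg.Agent.KFacts.RgdFiltTwAll.filt_fold CoxeterMatrix.G₂.toCoxeterSystem isCartan foldData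
    (foldGrp hφ hle) r) hG1 hrp (j₀ := 0) (k := 1) (a := padicValNat p (q ^ 6 - 1)) (f := f) (m := 9) (fun j => ?_)
    le_rfl (one_le_a h2 ho) (fun P => (Cfsg.Agent.H28.S5Tor.omega_twD4 h5 hq hK ho P).1)
    (fun P => (Cfsg.Agent.H28.S5Tor.omega_twD4 h5 hq hK ho P).2.1)
    (fun P => (Cfsg.Agent.H28.S5Tor.omega_twD4 h5 hq hK ho P).2.2) ?_ (by norm_num) (by rw [← hf]; exact ho) ?_
  · fin_cases j
    · show p ∣ (PJ CoxeterMatrix.G₂.toCoxeterSystem isCartan (T K q) (X φ q) {i | i ≠ 0}).index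
      rw [hJ0, d4_idx0 h2 h60]
      exact Dvd.dvd.mul_left (dvd_tri h1q ho) _
    · show p ∣ (PJ CoxeterMatrix.G₂.toCoxeterSystem isCartan (T K q) (X φ q) {i | i ≠ 1}).index
      rw [hJ1, d4_idx1 h2 h61]
      exact Dvd.dvd.mul_left (dvd_tri h1q ho) _
  · show Nat.card (VJ CoxeterMatrix.G₂.toCoxeterSystem isCartan (X φ q) {i | i ≠ 0}) = _
    rw [hJ0', hcV, ← hf]
    exact congrArg (q ^ ·) (by decide +kernel)
  · show _ ∣ Nat.card (PJ CoxeterMatrix.G₂.toCoxeterSystem isCartan (T K q) (X φ q) {i | i ≠ 0})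
    rw [hJ0, hN0, mul_one]
    exact Dvd.dvd.mul_right (pow_dvd_cube h1q ho) _

end D4

/-! ### `²E₆(q)` -/

section E6

open Cfsg.Agent.H169.RealTE6 Cfsg.Agent.H35.PoinNum

theorem chain00 : ChainOK Nodes.RGDTwE6.A [1, 2, 3] [3, 2, 1, 2, 3] 0 := by constructor <;> decide +kernel
theorem chain01 : ChainOK Nodes.RGDTwE6.A [1, 2] [2, 1, 2] 0 := by constructor <;> decide +kernel
theorem chain02 : ChainOK Nodes.RGDTwE6.A [1] [1] 0 := by constructor <;> decide +kernel

theorem poly0 (q : ℕ) : (∑ t ∈ Finset.range 6, wt (fE q) [3, 2, 1, 2, 3] 0 t) *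
    ((∑ t ∈ Finset.range 4, wt (fE q) [2, 1, 2] 0 t) * ((∑ t ∈ Finset.range 2, wt (fE q) [1] 0 t) * 1)) =
    (1 + q ^ 3) * (1 + q ^ 2 + q ^ 4) * ((1 + q ^ 5) * (1 + q ^ 2) * (1 + q)) := by
  simp only [Finset.sum_range_succ, wt, List.range_succ, fE, _root_.Fin.isValue, _root_.List.getD_eq_getElem?_getD, _root_.Order.lt_two_iff, _root_.Finset.range_one, _root_.Finset.sum_singleton, _root_.List.range_zero, _root_.List.map_nil, _root_.List.prod_nil, _root_.List.nil_append, _root_.List.map_cons, _root_.List.length_cons, _root_.List.length_nil, _root_.zero_add, _root_.Nat.reduceAdd, _root_.Nat.ofNat_pos, _root_.getElem?_pos, _root_.List.getElem_cons_zero, _root_.Option.getD_some, _root_.Fin.coe_ofNat_eq_mod, _root_.Nat.mod_succ, _root_.Nat.not_ofNat_le_one, ↓ _root_.reduceIte, _root_.List.prod_cons, _root_.mul_one, _root_.List.cons_append, _root_.Nat.one_lt_ofNat, _root_.List.getElem_cons_succ, _root_.Nat.reduceMod, _root_.Nat.reduceLT,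 _root_.Nat.one_mod, _root_.Std.le_refl, _root_.Nat.lt_add_one, _root_.Order.lt_one_iff]
  ring

theorem e6_idx0 {q i : ℕ} (hq : 2 ≤ q) (h : i * ((1 + q ^ 3) * (1 + q ^ 2 + q ^ 4) * ((1 + q ^ 5) * (1 + q ^ 2) * (1 + q))) *
    ((q - 1) ^ 4 * (q + 1) ^ 2) = PT q) : i = (q ^ 4 + 1) * (q ^ 9 + 1) * (q ^ 2 + q + 1) * (q ^ 6 + 1) := by
  obtain ⟨x, rfl⟩ := Nat.exists_eq_add_of_le hq
  have e1 : 2 + x - 1 = x + 1 := by omega
  have e2 : (2 + x) ^ 2 - 1 = (x + 1) * (x + 3) := by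
    apply Nat.sub_eq_of_eq_add; ring
  have e6 : (2 + x) ^ 6 - 1 = (x + 1) * (x + 3) * (1 + (2 + x) ^ 2 + (2 + x) ^ 4) := by
    apply Nat.sub_eq_of_eq_add; ring
  have e8 : (2 + x) ^ 8 - 1 = (x + 1) * (x + 3) * (1 + (2 + x) ^ 2) * (1 + (2 + x) ^ 4) := by
    apply Nat.sub_eq_of_eq_add; ring
  have e12 : (2 + x) ^ 12 - 1 = (x + 1) * ((2 + x) ^ 2 + (2 + x) + 1) * (1 + (2 + x) ^ 3) * ((2 + x) ^ 6 + 1) := by
    apply Nat.sub_eq_of_eq_add; (set_option synthInstance.maxSize 99999 in exact Cfsg.Agent.Lib.RingK.eqN (by decide +kernel))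
  have hpos : 0 < (1 + (2 + x) ^ 3) * (1 + (2 + x) ^ 2 + (2 + x) ^ 4) * ((1 + (2 + x) ^ 5) * (1 + (2 + x) ^ 2) *
      (x + 3)) * ((x + 1) ^ 4 * (x + 3) ^ 2) := by (clear * -; positivity)
  refine Nat.eq_of_mul_eq_mul_right hpos ?_
  unfold PT at h
  rw [e1, e2, e6, e8, e12] at h
  have e3 : 1 + (2 + x) = x + 3 := by omega
  have e4 : 2 + x + 1 = x + 3 := by omega
  rw [e3, e4] at h
  linear_combination (norm := (set_option synthInstance.maxSize 99999 in exact Cfsg.Agent.Lib.RingK.eqN (by decide +kernel))) h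

open Cfsg.Agent.ChevalleyStructure.TwE6Basic (exists_frob) in
/-- **The data of `²E₆(q)`.** -/
theorem cdat_twE6 {K : Type} [Field K] [Fintype K] {q : ℕ} (hq : IsPrimePow q) (hK : Fintype.card K = q ^ 2)
    {p : ℕ} [hp : Fact p.Prime] (h5 : 5 ≤ p) (ho : orderOf (q : ZMod p) = 6) : CDat p ↥(twistedE6 K q) := by
  obtain ⟨φ, hφ, hqq⟩ := exists_frob hq hK
  have : Finite (GL chevE6.Idx K) := inferInstance
  obtain ⟨r, hcr⟩ := CharP.exists K
  have hr : Fact r.Prime := ⟨CharP.char_is_prime K r⟩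
  have h2 : 2 ≤ q := hq.two_le
  have h1q : 1 ≤ q := by omega
  obtain ⟨f, hf⟩ : ∃ f, q = r ^ f := by
    obtain ⟨f, hf0, hf⟩ := FiniteField.card K r
    have h1 : q ∣ r ^ (f : ℕ) := by rw [← hf, hK]; exact dvd_pow_self q (by norm_num)
    obtain ⟨g, -, hg⟩ := (Nat.dvd_prime_pow hr.out).1 h1
    exact ⟨g, hg⟩
  have hf0 : f ≠ 0 := by
    rintro rfl
    rw [pow_zero] at hf
    omega
  have hrq : r ∣ q := by rw [hf]; exact dvd_pow_self r hf0
  have hpq : ¬ p ∣ q := Cfsg.Agent.H28.T5TorRows.not_dvd_of (by norm_num) ho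
  have hrp : r ≠ p := by rintro rfl; exact hpq hrq
  have hW : Finite CoxeterMatrix.F₄.Group := Nodes.RGDFold.finite_W (hp := Nodes.RGDTwE6.hp)
    CoxeterMatrix.F₄.toCoxeterSystem Nodes.RGDTwE6.isCartan Nodes.RGDTwE6.foldData
  have R := Nodes.RGDTwE6.rgd CoxeterMatrix.F₄.toCoxeterSystem hφ hqq r
  have hG1 : Nodes.RGDLib.G1 CoxeterMatrix.F₄.toCoxeterSystem Nodes.RGDTwE6.isCartan (Nodes.RGDTwE6.X φ q) = ⊤ :=
    Nodes.RGDTwE6.G1_eq_top _ hφ hqq
  have hGG : GG CoxeterMatrix.F₄.toCoxeterSystem Nodes.RGDTwE6.isCartan (Nodes.RGDTwE6.T K q)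
      (Nodes.RGDTwE6.X φ q) = ⊤ := by
    rw [eq_top_iff, ← hG1]
    exact le_sup_right
  have hc := card_X_tw (φ := φ) hφ hqq (by omega) hK
  have hcV := Cfsg.Agent.H62.PPTwist.card_VJ R (L := LF4) posRoots_F4 Cfsg.Agent.H62.PPTwist.E6.nodup_LF4 (q := q)
    Cfsg.Agent.H62.PPTwist.E6.w Cfsg.Agent.H62.PPTwist.E6.w_refl
    (by
      intro i
      rw [hc i]
      have h1 : ∀ i : Fin 4, Cfsg.Agent.H62.PPTwist.E6.w (Pi.single i 1) = if (i : ℕ) < 2 then 1 else 2 := by
        decide +kernel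
      rw [h1]
      unfold fE
      split_ifs
      · rw [pow_one]
      · rfl) 0
  have hP : ¬ r ∣ PT q := by
    intro h3
    have h4 : r ∣ pr q [2, 6, 8, 10, 12, 18] := by
      rw [← PT_mul (by omega)]; exact Dvd.dvd.mul_right h3 _
    rw [hf] at h4
    exact not_dvd_pr hr.out hf0 _ (by simp only [_root_.List.mem_cons, _root_.List.not_mem_nil, _root_.or_false, _root_.forall_eq_or_imp, _root_.Order.lt_two_iff, _root_.zero_le, _root_.Nat.ofNat_pos, _root_.forall_eq, _root_.and_self]) h4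
  have hT : Nat.gcd 3 (q + 1) * Nat.card ↥(Nodes.RGDTwE6.T K q) = (q - 1) ^ 4 * (q + 1) ^ 2 := by
    rw [← Cfsg.Agent.S1102.result hq hK]
    congr 1
    exact Nat.card_congr (Subgroup.subgroupOfEquivOfLe inf_le_right).toEquiv
  have hd : ¬ r ∣ Nat.gcd 3 (q + 1) := by
    intro h3
    have h4 : r ∣ q + 1 := h3.trans (Nat.gcd_dvd_right _ _)
    exact hr.out.one_lt.ne' (Nat.dvd_one.1 ((Nat.dvd_add_right hrq).1 h4))
  have hS : Nat.gcd 3 (q + 1) * Nat.card ↥(twistedE6 K q) = r ^ (f * 36) * PT q := by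
    rw [Cfsg.Agent.S1066.result hq hK, pow_mul, ← hf]
    unfold PT
    ring
  have hJ0 : ({i | i ≠ 0} : Set (Fin 4)) = {j | j ∈ ([1, 2, 3] : List (Fin 4))} := by ext j; revert j; decide
  have hJ3 : ({i | i ≠ 3} : Set (Fin 4)) = {j | j ∈ ([0, 1, 2] : List (Fin 4))} := by ext j; revert j; decide
  have hJ0' : ({i | i ≠ 0} : Set (Fin 4)) = {0}ᶜ := by ext j; simp
  -- the parabolic subgroup of type `²A₅`
  have hN0 := card_PJ_chain R hc chain00 (J' := [1, 2]) (by decide) (card_PJ_chain R hc chain01 (J' := [1])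
    (by decide) (card_PJ_chain R hc chain02 (J' := []) (by decide) (card_nil R)))
  have hI0 := index_eq R hGG hN0 hd hT hS hP
  have hN3 := card_PJ_chain R hc chain0 (J' := [1, 2]) (by decide) (card_PJ_chain R hc chain1 (J' := [2])
    (by decide) (card_PJ_chain R hc chain2 (J' := []) (by decide) (card_nil R)))
  have hI3 := index_eq R hGG hN3 hd hT hS hP
  have hl0 : List.length [(3 : Fin 4), 2, 1, 2, 3] + 1 = 6 := rfl
  have hl1 : List.length [(2 : Fin 4), 1, 2] + 1 = 4 := rfl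
  have hl2 : List.length [(1 : Fin 4)] + 1 = 2 := rfl
  have hl3 : List.length [(0 : Fin 4), 1, 2, 1, 0] + 1 = 6 := rfl
  have hl4 : List.length [(1 : Fin 4), 2, 1] + 1 = 4 := rfl
  have hl5 : List.length [(2 : Fin 4)] + 1 = 2 := rfl
  rw [hl0, hl1, hl2, poly0] at hN0 hI0
  rw [hl3, hl4, hl5, poly] at hI3
  have hi0 := e6_idx0 h2 hI0
  have hi3 := idx_cancel h2 hI3
  have hpS : p ∣ Nat.card ↥(twistedE6 K q) := by
    have h3 : p ∣ Nat.card ↥(PJ CoxeterMatrix.F₄.toCoxeterSystem Nodes.RGDTwE6.isCartan (Nodes.RGDTwE6.T K q)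
        (Nodes.RGDTwE6.X φ q) {j | j ∈ ([1, 2, 3] : List (Fin 4))}) := by
      rw [hN0]
      refine Dvd.dvd.mul_right (Dvd.dvd.mul_right (Dvd.dvd.mul_right ?_ _) _) _
      exact (dvd_pow_self p (Nat.one_le_iff_ne_zero.1 (one_le_a h2 ho))).trans (pow_dvd_cube h1q ho) |>.trans (dvd_refl _)
    exact h3.trans (Subgroup.card_subgroup_dvd_card _)
  have hpr' : ¬ p ∣ r := fun h => hrp ((Nat.prime_dvd_prime_iff_eq hp.out hr.out).1 h).symm
  have hpq1 : ¬ p ∣ q - 1 := by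
    have := ndvd_of_pow (k := 1) h1q ho (by norm_num)
    rwa [pow_one] at this
  have hD2 := (data_TwE6_2 (φ := φ) hr.out hf0 hf hφ hqq hK).idx p hp.out hpS hpr' hpq1
  have hD1 := (data_TwE6_1 (φ := φ) hr.out hf0 hf hφ hqq hK).idx p hp.out hpS hpr' hpq1
  have h9 : p ∣ q ^ 9 + 1 := dvd_nine ho
  refine cdat_of_par (Cfsg.Agent.KFacts.RgdFiltTwAll.filt_fold CoxeterMatrix.F₄.toCoxeterSystem
    Nodes.RGDTwE6.isCartan Nodes.RGDTwE6.foldData (Nodes.RGDTwE6.foldGrp hφ hqq) r) hG1 hrp (j₀ := 0) (k := 2)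
    (a := padicValNat p (q ^ 6 - 1)) (f := f) (m := 21) (fun j => ?_)
    (by norm_num) (one_le_a h2 ho) (fun P => (Cfsg.Agent.H28.S5Tor.omega_twE6 h5 hq hK ho P).1)
    (fun P => (Cfsg.Agent.H28.S5Tor.omega_twE6 h5 hq hK ho P).2.1)
    (fun P => (Cfsg.Agent.H28.S5Tor.omega_twE6 h5 hq hK ho P).2.2) ?_ (by norm_num) (by rw [← hf]; exact ho) ?_
  · fin_cases j
    · show p ∣ (PJ CoxeterMatrix.F₄.toCoxeterSystem Nodes.RGDTwE6.isCartan (Nodes.RGDTwE6.T K q)
        (Nodes.RGDTwE6.X φ q) {i | i ≠ 0}).index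
      rw [hJ0, hi0]
      exact Dvd.dvd.mul_right (Dvd.dvd.mul_right (Dvd.dvd.mul_left h9 _) _) _
    · exact hD1
    · exact hD2
    · show p ∣ (PJ CoxeterMatrix.F₄.toCoxeterSystem Nodes.RGDTwE6.isCartan (Nodes.RGDTwE6.T K q)
        (Nodes.RGDTwE6.X φ q) {i | i ≠ 3}).index
      rw [hJ3, hi3]
      unfold IX
      exact Dvd.dvd.mul_right (Dvd.dvd.mul_left h9 _) _
  · show Nat.card (VJ CoxeterMatrix.F₄.toCoxeterSystem Nodes.RGDTwE6.isCartan (Nodes.RGDTwE6.X φ q) {i | i ≠ 0}) = _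
    rw [hJ0', hcV, ← hf]
    exact congrArg (q ^ ·) (by decide +kernel)
  · show _ ∣ Nat.card (PJ CoxeterMatrix.F₄.toCoxeterSystem Nodes.RGDTwE6.isCartan (Nodes.RGDTwE6.T K q)
      (Nodes.RGDTwE6.X φ q) {i | i ≠ 0})
    rw [hJ0, hN0]
    refine Dvd.dvd.mul_right (Dvd.dvd.mul_right ?_ _) _
    rw [pow_mul, sq]
    exact mul_dvd_mul (pow_dvd_cube h1q ho) (pow_dvd_sq h1q ho)

end E6

/-! ### The strong pairs -/

section Final

open Cfsg.Agent.H132.S5 Cfsg.Agent.H533.T5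

variable {p : ℕ} [hp : Fact p.Prime] {S : Type u} [Group S] [Finite S] [IsSimpleGroup S]

/-- **Strong pairs in `³D₄(q)`, `q` of order `6` modulo `p`.** -/
theorem spair_twD4 (h5 : 5 ≤ p) (B : SBox.{u} p) (hna : ¬ IsMulCommutative S) (hlt : SBelow.{u} p (Nat.card S))
    {K : Type} [Field K] [Fintype K] {q : ℕ} (hq : IsPrimePow q) (hK : Fintype.card K = q ^ 3)
    (ho : orderOf (q : ZMod p) = 6) (e : S ≃* ↥(twistedD4 K q)) {x y : S} (hx : orderOf x = p) (hy : orderOf y = p) :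
    SPair p (⊤ : Subgroup S) x y := by
  have : Finite (GL chevD4.Idx K) := inferInstance
  exact CDat.spair (by omega) B hna hlt ((cdat_twD4 hq hK h5 ho).congr e) hx hy

/-- **Strong pairs in `²E₆(q)`, `q` of order `6` modulo `p`.** -/
theorem spair_twE6 (h5 : 5 ≤ p) (B : SBox.{u} p) (hna : ¬ IsMulCommutative S) (hlt : SBelow.{u} p (Nat.card S))
    {K : Type} [Field K] [Fintype K] {q : ℕ} (hq : IsPrimePow q) (hK : Fintype.card K = q ^ 2)
    (ho : orderOf (q : ZMod p) = 6) (e : S ≃* ↥(twistedE6 K q)) {x y : S} (hx : orderOf x = p) (hy : orderOf y = p) :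
    SPair p (⊤ : Subgroup S) x y := by
  have : Finite (GL chevE6.Idx K) := inferInstance
  exact CDat.spair (by omega) B hna hlt ((cdat_twE6 hq hK h5 ho).congr e) hx hy

end Final

end Cfsg.Agent.H28.S5SixRows
end

-- part: H157/S5/TD4Dat
section
/-!
# S2274: commuting products in `³D₄(q)` (helper157)

* `edat_one` : `q` of order `1` or `2` modulo `p`: `SL₂(q³)` and the long root `SL₂(q)`;
* `edat_three` : `q` of order `3` modulo `p`: the long root `SL₃(q)` and the torus of order `q² + q + 1`.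
-/

set_option autoImplicit false
set_option linter.unusedSectionVars false

namespace Cfsg.Agent.H157.S5.TD4Dat

open Subgroup Cfsg Cfsg.Lie Cfsg.Agent.H868 Cfsg.Agent.H868.KTwD4 Cfsg.Agent.H122.S5
open Cfsg.Agent.H92.ExcSL2 Cfsg.Agent.ChevalleyStructure Cfsg.Agent.ChevalleyStructure.Elts
  Cfsg.Agent.ChevalleyStructure.SL2Hom

/-! ### numbers -/

section Num

variable {p q : ℕ}

theorem dvd_iff' (hq : 1 ≤ q) (n : ℕ) : p ∣ q ^ n - 1 ↔ orderOf (q : ZMod p) ∣ n := by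
  rw [orderOf_dvd_iff_pow_eq_one, ← CharP.cast_eq_zero_iff (ZMod p) p, Nat.cast_sub (Nat.one_le_pow _ _ hq)]
  push_cast
  exact sub_eq_zero

theorem sub_one_mul (hq : 1 ≤ q) : (q ^ 2 - 1) * (q ^ 4 + q ^ 2 + 1) = q ^ 6 - 1 := by
  obtain ⟨x, hx⟩ := Nat.exists_eq_add_of_le (Nat.one_le_pow 2 q hq)
  have e4 : q ^ 4 = (q ^ 2) ^ 2 := by rw [← pow_mul]
  have e6 : q ^ 6 = (q ^ 2) ^ 3 := by rw [← pow_mul]
  rw [e4, e6, hx, Nat.add_sub_cancel_left]
  symm
  apply Nat.sub_eq_of_eq_add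
  ring

theorem eight_mul (hq : 1 ≤ q) : (q ^ 4 - 1) * (q ^ 8 + q ^ 4 + 1) = q ^ 12 - 1 := by
  obtain ⟨x, hx⟩ := Nat.exists_eq_add_of_le (Nat.one_le_pow 4 q hq)
  have e8 : q ^ 8 = (q ^ 4) ^ 2 := by rw [← pow_mul]
  have e12 : q ^ 12 = (q ^ 4) ^ 3 := by rw [← pow_mul]
  rw [e8, e12, hx, Nat.add_sub_cancel_left]
  symm
  apply Nat.sub_eq_of_eq_add
  ring

theorem four_mul : (q ^ 4 - q ^ 2 + 1) * (q ^ 4 + q ^ 2 + 1) = q ^ 8 + q ^ 4 + 1 := by
  have h0 : q ^ 2 ≤ q ^ 4 := by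
    rcases Nat.eq_zero_or_pos q with rfl | h
    · norm_num
    · exact Nat.pow_le_pow_right h (by norm_num)
  zify [h0]
  ring

theorem two_mul' : (q ^ 2 - q + 1) * (q ^ 2 + q + 1) = q ^ 4 + q ^ 2 + 1 := by
  have h0 : q ≤ q ^ 2 := Nat.le_self_pow (by norm_num) _
  zify [h0]
  ring

theorem six_mul : (q ^ 2 + 1) * (q ^ 4 - q ^ 2 + 1) = q ^ 6 + 1 := by
  have h0 : q ^ 2 ≤ q ^ 4 := by
    rcases Nat.eq_zero_or_pos q with rfl | h
    · norm_num
    · exact Nat.pow_le_pow_right h (by norm_num)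
  zify [h0]
  ring

theorem three_mul' : (q + 1) * (q ^ 2 - q + 1) = q ^ 3 + 1 := by
  have h0 : q ≤ q ^ 2 := Nat.le_self_pow (by norm_num) _
  zify [h0]
  ring

theorem cube_mul (hq : 1 ≤ q) : (q ^ 3 - 1) * (q ^ 3 + 1) = q ^ 6 - 1 := by
  obtain ⟨x, hx⟩ := Nat.exists_eq_add_of_le (Nat.one_le_pow 3 q hq)
  have e6 : q ^ 6 = (q ^ 3) ^ 2 := by rw [← pow_mul]
  rw [e6, hx, Nat.add_sub_cancel_left]
  symm
  apply Nat.sub_eq_of_eq_add
  ring

/-- `q ^ k ≡ 1` -/
theorem pow_one_of {k : ℕ} (h : orderOf (q : ZMod p) ∣ k) : (q : ZMod p) ^ k = 1 := orderOf_dvd_iff_pow_eq_one.1 h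

theorem ndvd_two (h5 : 5 ≤ p) {n : ℕ} (h : (n : ZMod p) = 2) : ¬ p ∣ n := by
  intro h1
  rw [← CharP.cast_eq_zero_iff (ZMod p) p, h] at h1
  have h2 : p ∣ 2 := by
    rw [← CharP.cast_eq_zero_iff (ZMod p) p]
    exact_mod_cast h1
  exact absurd (Nat.le_of_dvd (by norm_num) h2) (by omega)

theorem ndvd_three (h5 : 5 ≤ p) {n : ℕ} (h : (n : ZMod p) = 3) : ¬ p ∣ n := by
  intro h1
  rw [← CharP.cast_eq_zero_iff (ZMod p) p, h] at h1
  have h2 : p ∣ 3 := by
    rw [← CharP.cast_eq_zero_iff (ZMod p) p]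
    exact_mod_cast h1
  exact absurd (Nat.le_of_dvd (by norm_num) h2) (by omega)

theorem ndvd_four (h5 : 5 ≤ p) (he : orderOf (q : ZMod p) ∣ 2) : ¬ p ∣ q ^ 4 + q ^ 2 + 1 := by
  refine ndvd_three h5 ?_
  have h2 := pow_one_of (k := 2) he
  have h4 := pow_one_of (k := 4) (he.trans (by norm_num))
  push_cast
  rw [h2, h4]
  norm_num

theorem ndvd_eight (h5 : 5 ≤ p) (he : orderOf (q : ZMod p) ∣ 4) : ¬ p ∣ q ^ 8 + q ^ 4 + 1 := by
  refine ndvd_three h5 ?_
  have h4 := pow_one_of (k := 4) he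
  have h8 := pow_one_of (k := 8) (he.trans (by norm_num))
  push_cast
  rw [h8, h4]
  norm_num

/-- **The orders of `q`.** -/
theorem cases_order (hp : p.Prime) (h5 : 5 ≤ p) (hq : 1 ≤ q) (hpq : ¬ p ∣ q)
    (h : p ∣ q ^ 12 * (q ^ 8 + q ^ 4 + 1) * (q ^ 6 - 1) * (q ^ 2 - 1)) :
    orderOf (q : ZMod p) ∣ 2 ∨ orderOf (q : ZMod p) = 3 ∨ orderOf (q : ZMod p) = 6 ∨ orderOf (q : ZMod p) = 12 := by
  have h12 : orderOf (q : ZMod p) ∣ 12 := by
    rw [hp.dvd_mul, hp.dvd_mul, hp.dvd_mul] at h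
    rcases h with ((h | h) | h) | h
    · exact absurd (hp.dvd_of_dvd_pow h) hpq
    · exact (dvd_iff' hq 12).1 (by rw [← eight_mul hq]; exact Dvd.dvd.mul_left h _)
    · exact ((dvd_iff' hq 6).1 h).trans (by norm_num)
    · exact ((dvd_iff' hq 2).1 h).trans (by norm_num)
  have h4 : orderOf (q : ZMod p) ≠ 4 := by
    intro h4
    rw [hp.dvd_mul, hp.dvd_mul, hp.dvd_mul] at h
    rcases h with ((h | h) | h) | h
    · exact absurd (hp.dvd_of_dvd_pow h) hpq
    · exact ndvd_eight h5 h4.dvd h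
    · have := (dvd_iff' hq 6).1 h
      rw [h4] at this
      revert this
      decide
    · have := (dvd_iff' hq 2).1 h
      rw [h4] at this
      revert this
      decide
  have key : ∀ e, e ∣ 12 → e ≠ 4 → e ∣ 2 ∨ e = 3 ∨ e = 6 ∨ e = 12 := by
    intro e he
    have : e ≤ 12 := Nat.le_of_dvd (by norm_num) he
    interval_cases e <;> revert he <;> decide
  exact key _ h12 h4

end Num

/-! ### the subgroups -/

section Grp

variable {K : Type} [Field K] {φ : K →+* K} {q : ℕ}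

/-- `SL₂(q³)` -/
noncomputable def Bh (hφ : ∀ x, φ x = x ^ q) : SL2 K →* ↥(twistedD4 K q) :=
  ((chevD4.group K).subtype.comp (B φ)).codRestrict (twistedD4 K q) (fun g => B_mem hφ g)

theorem coe_Bh (hφ : ∀ x, φ x = x ^ q) (g : SL2 K) :
    ((Bh hφ g : ↥(twistedD4 K q)) : GL chevD4.Idx K) = ((B φ g : ↥(chevD4.group K)) : GL chevD4.Idx K) := rfl

/-- the fixed field -/
abbrev Fq (φ : K →+* K) : Subfield K := φ.eqLocusField (RingHom.id K)

theorem Fq_fix (t : Fq φ) : φ (t : K) = t := t.2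

theorem map_up' (t : Fq φ) : Matrix.SpecialLinearGroup.map (Fq φ).subtype (up t) = up (t : K) := by
  apply Subtype.ext
  show (Fq φ).subtype.mapMatrix (up t).1 = (up (t : K)).1
  ext i j
  (revert i j; simp only [up, _root_.Fin.forall_fin_succ, _root_.RingHom.mapMatrix_apply, _root_.Subfield.coe_subtype, _root_.Matrix.map_apply, _root_.Matrix.of_apply, _root_.Matrix.cons_val', _root_.Matrix.cons_val_fin_one, Fin.isValue, _root_.Matrix.cons_val_zero, _root_.Matrix.cons_val_succ, _root_.forall_const, _root_.OneMemClass.coe_one, _root_.and_self, _root_.ZeroMemClass.coe_zero, _root_.implies_true])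

theorem map_lo' (t : Fq φ) : Matrix.SpecialLinearGroup.map (Fq φ).subtype (lo t) = lo (t : K) := by
  apply Subtype.ext
  show (Fq φ).subtype.mapMatrix (lo t).1 = (lo (t : K)).1
  ext i j
  (revert i j; simp only [lo, _root_.Fin.forall_fin_succ, _root_.RingHom.mapMatrix_apply, _root_.Subfield.coe_subtype, _root_.Matrix.map_apply, _root_.Matrix.of_apply, _root_.Matrix.cons_val', _root_.Matrix.cons_val_fin_one, Fin.isValue, _root_.Matrix.cons_val_zero, _root_.Matrix.cons_val_succ, _root_.forall_const, _root_.OneMemClass.coe_one, _root_.ZeroMemClass.coe_zero, _root_.and_self, _root_.implies_true])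

/-- the long root homomorphism -/
noncomputable def A (φ : K →+* K) : SL2 (Fq φ) →* ↥(chevD4.group K) :=
  (_root_.Cfsg.Agent.H92.ExcSL2.ph hD4 l23).comp (Matrix.SpecialLinearGroup.map (Fq φ).subtype)

theorem A_apply (g : SL2 (Fq φ)) : A φ g = _root_.Cfsg.Agent.H92.ExcSL2.ph hD4 l23 (Matrix.SpecialLinearGroup.map (Fq φ).subtype g) := rfl

theorem A_mem (hφ : ∀ x, φ x = x ^ q) (g : SL2 (Fq φ)) :
    ((A φ g : ↥(chevD4.group K)) : GL chevD4.Idx K) ∈ twistedD4 K q := by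
  have h3 : Subgroup.closure (Set.range (up (F := Fq φ)) ∪ Set.range (lo (F := Fq φ))) ≤
      (twistedD4 K q).comap ((chevD4.group K).subtype.comp (A φ)) := by
    rw [Subgroup.closure_le]
    rintro _ (⟨t, rfl⟩ | ⟨t, rfl⟩)
    · show ((A φ (up t) : ↥(chevD4.group K)) : GL chevD4.Idx K) ∈ twistedD4 K q
      rw [A_apply, map_up']
      exact A_up_mem hφ (Fq_fix t)
    · show ((A φ (lo t) : ↥(chevD4.group K)) : GL chevD4.Idx K) ∈ twistedD4 K q
      rw [A_apply, map_lo']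
      exact A_lo_mem hφ (Fq_fix t)
  exact h3 (mem_closure_SL2 g)

/-- the long root `SL₂(q)` -/
noncomputable def Ah (hφ : ∀ x, φ x = x ^ q) : SL2 (Fq φ) →* ↥(twistedD4 K q) :=
  ((chevD4.group K).subtype.comp (A φ)).codRestrict (twistedD4 K q) (fun g => A_mem hφ g)

theorem comm_AB (hφ : ∀ x, φ x = x ^ q) (g : SL2 K) (x : SL2 (Fq φ)) : Bh hφ g * Ah hφ x = Ah hφ x * Bh hφ g := by
  have h1 := (commute_B (φ := φ) (Matrix.SpecialLinearGroup.map (Fq φ).subtype x) g).eq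
  apply Subtype.ext
  exact (congrArg (fun z : ↥(chevD4.group K) => (z : GL chevD4.Idx K)) h1).symm

theorem card_Fq [Fintype K] (hq : 1 < q) (hK : Fintype.card K = q ^ 3) (hφ : ∀ x, φ x = x ^ q) :
    Nat.card (Fq φ) = q := by
  have h1 := D4U.card_fix_field hq hK hφ
  exact h1

theorem center_eq [Fintype K] (hq : IsPrimePow q) (hK : Fintype.card K = q ^ 3) :
    Subgroup.center ↥(twistedD4 K q) = ⊥ := by
  have h := S1071.result hq hK
  have := h.1
  rcases Subgroup.Normal.eq_bot_or_eq_top (inferInstance : (center ↥(twistedD4 K q)).Normal) with h1 | h1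
  · exact h1
  · exact absurd ⟨⟨fun a b => ((mem_center_iff.1 (h1 ▸ mem_top b)) a)⟩⟩ h.2

theorem finite_td4 [Finite K] : Finite ↥(twistedD4 K q) := by
  have : Finite (GL chevD4.Idx K) := inferInstance
  infer_instance

/-- **`q` of order `1` or `2` modulo `p`.** -/
theorem edat_one [Fintype K] (hq : IsPrimePow q) (hK : Fintype.card K = q ^ 3) {p : ℕ} (hp : p.Prime) (h5 : 5 ≤ p)
    (he : orderOf (q : ZMod p) ∣ 2) : EDat p ↥(twistedD4 K q) := by
  obtain ⟨φ, hφ⟩ := D4Fixed.exists_frob (K := K) (n := 3) hq hK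
  have hq1 : 1 ≤ q := hq.pos
  have hq2 : 2 ≤ q := hq.two_le
  have := finite_td4 (K := K) (q := q)
  have hp2 : p ∣ q ^ 2 - 1 := (dvd_iff' hq1 2).2 he
  have hq4 : 4 ≤ q := by
    have h2 : q ^ 2 - 1 = (q - 1) * (q + 1) := by
      obtain ⟨t, rfl⟩ := Nat.exists_eq_add_of_le' hq2
      rw [show t + 2 - 1 = t + 1 by omega, show (t + 2) ^ 2 = (t + 1) * (t + 2 + 1) + 1 by ring]
      rfl
    have h1 := hp2
    rw [h2, hp.dvd_mul] at h1
    rcases h1 with h1 | h1
    · have := Nat.le_of_dvd (by omega) h1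
      omega
    · have := Nat.le_of_dvd (by omega) h1
      omega
  have hcF : Nat.card (Fq φ) = q := card_Fq (by omega) hK hφ
  have hfF : Finite (Fq φ) := inferInstance
  let _ : Fintype (Fq φ) := Fintype.ofFinite _
  have hcF' : Fintype.card (Fq φ) = q := by rw [← Nat.card_eq_fintype_card, hcF]
  have hcK : 4 ≤ Nat.card K := by
    rw [Nat.card_eq_fintype_card, hK]
    exact hq4.trans (Nat.le_self_pow (by norm_num) q)
  have h2p : ¬ p ∣ 2 := fun h => absurd (Nat.le_of_dvd (by norm_num) h) (by omega)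
  have hA : Fac p (q ^ 2 - 1) (Bh hφ).range := by
    refine fac_range hp (SignalizersComponents.SLQuasisimple.isQuasisimple_two hcK) (not_dvd_center K hp h2p) ?_ _
      ⟨up 1, fun h => ?_⟩
    · rw [H953.card_SL 2 (by norm_num), hK, show Finset.Icc 2 2 = {2} from rfl, Finset.prod_singleton]
      refine Dvd.dvd.mul_left ?_ _
      rw [← pow_mul, ← sub_one_mul hq1]
      exact Dvd.intro _ rfl
    · have h2 : B φ (up 1) = 1 := Subtype.ext (congrArg (fun z : ↥(twistedD4 K q) => (z : GL chevD4.Idx K)) h)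
      rcases kerPM_B φ _ h2 with h3 | h3
      · have := congrArg (fun z : SL2 K => z.1 0 1) h3
        simp [up] at this
      · have := congrArg (fun z : SL2 K => z.1 0 1) h3
        simp [up] at this
  have hB : Fac p (q ^ 2 - 1) (Ah hφ).range := by
    refine fac_range hp (SignalizersComponents.SLQuasisimple.isQuasisimple_two (by rw [hcF]; exact hq4))
      (not_dvd_center (Fq φ) hp h2p) ?_ _ ⟨up 1, fun h => ?_⟩
    · rw [H953.card_SL 2 (by norm_num), hcF', show Finset.Icc 2 2 = {2} from rfl, Finset.prod_singleton]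
      exact Dvd.intro_left _ rfl
    · have h2 : A φ (up 1) = 1 := Subtype.ext (congrArg (fun z : ↥(twistedD4 K q) => (z : GL chevD4.Idx K)) h)
      rw [A_apply, map_up'] at h2
      rcases KSL2.kerPM_ph hD4 l23 _ h2 with h3 | h3
      · have := congrArg (fun z : SL2 K => z.1 0 1) h3
        simp only [up, _root_.OneMemClass.coe_one, _root_.Fin.isValue, _root_.Matrix.of_apply, _root_.Matrix.cons_val', _root_.Matrix.cons_val_one, _root_.Matrix.cons_val_fin_one, _root_.Matrix.cons_val_zero, _root_.Matrix.SpecialLinearGroup.coe_one, _root_.ne_eq, _root_.zero_ne_one, _root_.not_false_eq_true, _root_.Matrix.one_apply_ne, _root_.one_ne_zero] at this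
      · have := congrArg (fun z : SL2 K => z.1 0 1) h3
        simp only [up, _root_.OneMemClass.coe_one, _root_.Fin.isValue, _root_.Matrix.of_apply, _root_.Matrix.cons_val', _root_.Matrix.cons_val_one, _root_.Matrix.cons_val_fin_one, _root_.Matrix.cons_val_zero, _root_.Matrix.SpecialLinearGroup.coe_neg, _root_.Matrix.SpecialLinearGroup.coe_one, _root_.Matrix.neg_apply, _root_.ne_eq, _root_.zero_ne_one, _root_.not_false_eq_true, _root_.Matrix.one_apply_ne, _root_.neg_zero, _root_.one_ne_zero] at this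
  refine edat_of hp (center_eq hq hK) (c := q ^ 2 - 1) (m := q ^ 12 * (q ^ 8 + q ^ 4 + 1) * (q ^ 4 + q ^ 2 + 1)) ?_
    (A := (Bh hφ).range) (B := (Ah hφ).range) (Ls := []) ?_ ?_ hp2 ?_ ?_
  · have : 4 ^ 2 ≤ q ^ 2 := Nat.pow_le_pow_left hq4 2
    omega
  · intro L hL
    simp only [List.mem_cons, List.not_mem_nil, or_false] at hL
    rcases hL with rfl | rfl
    · exact hA
    · exact hB
  · rw [List.pairwise_cons]
    refine ⟨?_, List.pairwise_singleton _ _⟩
    intro B' hB'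
    rw [List.mem_singleton] at hB'
    subst hB'
    rintro _ ⟨a, rfl⟩ _ ⟨b, rfl⟩
    exact comm_AB hφ a b
  · rw [S1067.result hq hK, ← sub_one_mul hq1, List.length_nil]
    refine dvd_of_eq ?_
    ring
  · rw [hp.dvd_mul, hp.dvd_mul]
    rintro ((h | h) | h)
    · have h1 := hp.dvd_of_dvd_pow h
      have h2 := pow_one_of (k := 2) he
      rw [(CharP.cast_eq_zero_iff (ZMod p) p q).2 h1, zero_pow (by norm_num)] at h2
      have : Fact p.Prime := ⟨hp⟩
      exact zero_ne_one h2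
    · exact ndvd_eight h5 (he.trans (by norm_num)) h
    · exact ndvd_four h5 he h

/-! ### the long root `SL₃(q)` -/

/-- the long roots -/
def R3 : List (List ℕ) := [[0, 14, 23], [9, 0, 22], [0, 1, 0]]

theorem isAn : IsAn chevD4 3 R3 [] :=
  { lt := by decide +kernel, neg := by decide +kernel, comm := by decide +kernel, br := by decide +kernel }

theorem rt_mem : ∀ i j : Fin 3, rt R3 i j ∈ [0, 14, 23, 9, 22, 1] := by decide +kernel

theorem long_mem (hφ : ∀ x, φ x = x ^ q) {r : ℕ} (hr : r ∈ [0, 14, 23, 9, 22, 1]) {v : K} (hv : φ v = v) :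
    xG hD4 r v ∈ twistedD4 K q := by
  rw [xG_eq]
  simp only [List.mem_cons, List.not_mem_nil, or_false] at hr
  rcases hr with rfl | rfl | rfl | rfl | rfl | rfl
  · exact x0_mem hφ hv
  · exact D4Perfect.x14_mem' hφ hv
  · exact x23_mem hφ hv
  · exact x9_mem' hφ hv
  · exact D4Perfect.x22_mem hφ hv
  · exact x1_mem hφ hv

theorem rx_coe (i j : Fin 3) (t : K) : ((rx hD4 K 3 R3 [] i j t : ↥(chevD4.group K)) : GL chevD4.Idx K) =
    xG hD4 (rt R3 i j) t := by
  have h1 : (sg [] (i : ℕ) (j : ℕ)) = 1 := by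
    unfold sg
    simp
  unfold rx
  rw [h1, Int.cast_one, one_mul]
  rfl

/-- the root elements of the long root `SL₃(q)` -/
noncomputable def xl (hφ : ∀ x, φ x = x ^ q) (i j : Fin 3) (t : Fq φ) : ↥(twistedD4 K q) :=
  ⟨((rx hD4 K 3 R3 [] i j (t : K) : ↥(chevD4.group K)) : GL chevD4.Idx K), by
    rw [rx_coe]
    exact long_mem hφ (rt_mem i j) (Fq_fix t)⟩

theorem coe_xl (hφ : ∀ x, φ x = x ^ q) (i j : Fin 3) (t : Fq φ) : ((xl hφ i j t : ↥(twistedD4 K q)) :
    GL chevD4.Idx K) = ((rx hD4 K 3 R3 [] i j (t : K) : ↥(chevD4.group K)) : GL chevD4.Idx K) := rfl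

theorem xl_stein (hφ : ∀ x, φ x = x ^ q) : AGraded.SteinRel (xl hφ) := by
  have h := rx_stein hD4 K isAn
  refine ⟨fun i j hij a b => ?_, fun i j k l hij hkl hjk hil a b => ?_, fun i j k hij hjk hik a b => ?_⟩
  · exact Subtype.ext (congrArg (fun z : ↥(chevD4.group K) => (z : GL chevD4.Idx K)) (h.add i j hij (a : K) (b : K)))
  · exact Subtype.ext (congrArg (fun z : ↥(chevD4.group K) => (z : GL chevD4.Idx K))
      (h.comm i j k l hij hkl hjk hil (a : K) (b : K)))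
  · exact Subtype.ext (congrArg (fun z : ↥(chevD4.group K) => (z : GL chevD4.Idx K))
      (h.br i j k hij hjk hik (a : K) (b : K)))

theorem xl_h (hφ : ∀ x, φ x = x ^ q) : CTFrame.Torus.HRel (xl hφ) := by
  intro i j hij a b ha hb
  have h := rx_h hD4 K isAn i j hij (a : K) (b : K) (fun h => ha (Subtype.ext h)) (fun h => hb (Subtype.ext h))
  exact Subtype.ext (congrArg (fun z : ↥(chevD4.group K) => (z : GL chevD4.Idx K)) h)

/-- the torus element -/
theorem comm_tor (hφ : ∀ x, φ x = x ^ q) {c : Kˣ} (hc : c ^ (q ^ 2 + q + 1) = 1) {r : ℕ}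
    (hr : r ∈ [0, 14, 23, 9, 22, 1]) (t : K) :
    ((Bh hφ (dg c) : ↥(twistedD4 K q)) : GL chevD4.Idx K) * xG hD4 r t =
      xG hD4 r t * ((Bh hφ (dg c) : ↥(twistedD4 K q)) : GL chevD4.Idx K) := by
  have hc0 : (c : K) ≠ 0 := c.ne_zero
  have htab : ∀ r ∈ [0, 14, 23, 9, 22, 1], r < chevD4.nroots ∧ chevD4.cartan 0 r = chevD4.cartan 2 r ∧
      chevD4.cartan 0 r = chevD4.cartan 3 r := by decide +kernel
  obtain ⟨hr1, hr2, hr3⟩ := htab r hr
  have hφ1 : φ (c : K) = (c : K) ^ q := hφ _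
  have hφ2 : φ (φ (c : K)) = (c : K) ^ q ^ 2 := by rw [hφ1, map_pow, hφ1, ← pow_mul, ← pow_two]
  have hcc : (c : K) ^ (q ^ 2 + q + 1) = 1 := by
    have := congrArg Units.val hc
    rwa [Units.val_pow_eq_pow_val, Units.val_one] at this
  rw [coe_Bh, coe_B_dg]
  have h1 := torus_conj (a := (c : K)) (b := φ (c : K)) (c := φ (φ (c : K))) hc0 (by rw [hφ1]; exact pow_ne_zero _ hc0)
    (by rw [hφ2]; exact pow_ne_zero _ hc0) hr1 t
  rw [← hr2, ← hr3, ← mul_assoc ((φ (c : K)) ^ _), ← mul_assoc, ← mul_zpow, ← mul_zpow, hφ2, hφ1, ← pow_add,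
    ← pow_succ', show q + q ^ 2 + 1 = q ^ 2 + q + 1 by ring, hcc, one_zpow, one_mul] at h1
  rw [hφ2, hφ1]
  exact mul_inv_eq_iff_eq_mul.1 h1

/-- a torus element of order divisible by `q² + q + 1` -/
theorem exists_tor [Fintype K] (hq : IsPrimePow q) (hK : Fintype.card K = q ^ 3) (hφ : ∀ x, φ x = x ^ q) :
    ∃ c : Kˣ, c ^ (q ^ 2 + q + 1) = 1 ∧ q ^ 2 + q + 1 ∣ orderOf (Bh hφ (dg c)) := by
  obtain ⟨g, hg⟩ := IsCyclic.exists_generator (α := Kˣ)
  have hog : orderOf g = q ^ 3 - 1 := by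
    rw [orderOf_eq_card_of_forall_mem_zpowers hg, Nat.card_units, Nat.card_eq_fintype_card, hK]
  have hq2 : 2 ≤ q := hq.two_le
  have h3 : q ^ 3 - 1 = (q - 1) * (q ^ 2 + q + 1) := by
    obtain ⟨x, rfl⟩ := Nat.exists_eq_add_of_le' (show 1 ≤ q by omega)
    rw [Nat.add_sub_cancel]
    apply Nat.sub_eq_of_eq_add
    ring
  have hoc : orderOf (g ^ (q - 1)) = q ^ 2 + q + 1 := by
    rw [orderOf_pow_of_dvd (by omega) (by rw [hog, h3]; exact Dvd.intro _ rfl), hog, h3,
      Nat.mul_div_cancel_left _ (by omega)]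
  refine ⟨g ^ (q - 1), ?_, ?_⟩
  · rw [← hoc]
    exact pow_orderOf_eq_one _
  · set c := g ^ (q - 1) with hc
    set n := orderOf (Bh hφ (dg c)) with hn
    have h1 : Bh hφ (dg (c ^ n)) = 1 := by
      rw [map_pow, map_pow]
      exact pow_orderOf_eq_one _
    have h2 : B φ (dg (c ^ n)) = 1 := Subtype.ext (congrArg (fun z : ↥(twistedD4 K q) => (z : GL chevD4.Idx K)) h1)
    have h4 : dg (c ^ (n * 2)) = 1 := by
      rw [pow_mul, map_pow]
      rcases kerPM_B φ _ h2 with h | h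
      · rw [h, one_pow]
      · rw [h]
        simp only [_root_.even_two, _root_.Even.neg_pow, _root_.one_pow]
    have h5 : c ^ (n * 2) = 1 := dg_injective (by rw [h4, map_one])
    have h6 : q ^ 2 + q + 1 ∣ n * 2 := by
      rw [← hoc]
      exact orderOf_dvd_of_pow_eq_one h5
    refine Nat.Coprime.dvd_of_dvd_mul_right ?_ h6
    rw [Nat.coprime_comm, Nat.coprime_two_left]
    have h7 : q ^ 2 + q + 1 = q * (q + 1) + 1 := by ring
    rw [h7]
    exact (Nat.even_mul_succ_self q).add_one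

/-- **`q` of order `3` modulo `p`.** -/
theorem edat_three [Fintype K] (hq : IsPrimePow q) (hK : Fintype.card K = q ^ 3) {p : ℕ} (hp : p.Prime) (h5 : 5 ≤ p)
    (he : orderOf (q : ZMod p) = 3) : EDat p ↥(twistedD4 K q) := by
  obtain ⟨φ, hφ⟩ := D4Fixed.exists_frob (K := K) (n := 3) hq hK
  have hq1 : 1 ≤ q := hq.pos
  have hq2 : 2 ≤ q := hq.two_le
  have := finite_td4 (K := K) (q := q)
  have hp3 : p ∣ q ^ 3 - 1 := (dvd_iff' hq1 3).2 he.dvd
  have hcF : Nat.card (Fq φ) = q := card_Fq (by omega) hK hφ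
  have hfF : Finite (Fq φ) := inferInstance
  let _ : Fintype (Fq φ) := Fintype.ofFinite _
  have hcF' : Fintype.card (Fq φ) = q := by rw [← Nat.card_eq_fintype_card, hcF]
  have h3p : ¬ p ∣ 3 := fun h => absurd (Nat.le_of_dvd (by norm_num) h) (by omega)
  obtain ⟨π, h1, h2, -⟩ := CTFrame.Hom.exists_hom (xl_stein hφ) (xl_h hφ) (by rw [Fintype.card_fin])
  have hL : Fac p (q ^ 3 - 1) π.range := by
    refine fac_range hp (SignalizersComponents.SLQuasisimple.isQuasisimple_of_three_le (by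
      rw [Fintype.card_fin])) (not_dvd_center (Fq φ) hp h3p) ?_ π ?_
    · rw [H953.card_SL 3 (by norm_num), hcF', show Finset.Icc 2 3 = {2, 3} from rfl,
        Finset.prod_pair (by norm_num)]
      exact Dvd.dvd.mul_left (Dvd.intro_left _ rfl) _
    · have h01 : (0 : Fin 3) ≠ 1 := by decide
      refine ⟨Matrix.SpecialLinearGroup.transvection h01 1, ?_⟩
      rw [h1]
      intro h3
      have h4 := congrArg (fun z : ↥(twistedD4 K q) => (z : GL chevD4.Idx K)) h3
      change ((xl hφ 0 1 1 : ↥(twistedD4 K q)) : GL chevD4.Idx K) = 1 at h4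
      rw [coe_xl, rx_coe] at h4
      have h5 := (xG_eq_one_iff hD4 (isAn.lt 0 1 h01) _).1 h4
      exact one_ne_zero h5
  obtain ⟨c, hc, hoc⟩ := exists_tor hq hK hφ
  set v := Bh hφ (dg c) with hv
  have hcomm : ∀ a ∈ π.range, ∀ b ∈ zpowers v, a * b = b * a := by
    have h3 : π.range ≤ centralizer ((zpowers v : Subgroup ↥(twistedD4 K q)) : Set ↥(twistedD4 K q)) := by
      rw [h2, Subgroup.closure_le]
      rintro _ ⟨i, j, hij, t, rfl⟩
      rw [SetLike.mem_coe, mem_centralizer_iff]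
      rintro _ ⟨n, rfl⟩
      have h4 : Commute v (xl hφ i j t) := by
        apply Subtype.ext
        show (v : GL chevD4.Idx K) * (xl hφ i j t : ↥(twistedD4 K q)) = (xl hφ i j t : ↥(twistedD4 K q)) * v
        rw [coe_xl, rx_coe]
        exact comm_tor hφ hc (rt_mem i j) _
      exact (h4.zpow_left n).eq
    intro a ha b hb
    exact (mem_centralizer_iff.1 (h3 ha) b hb).symm
  have hpp := pp_sup hp hcomm (hL.inf hcomm)
  have hcz : Nat.card ↥(zpowers v) = orderOf v := Nat.card_zpowers v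
  have h0 : q ^ 3 - 1 ≠ 0 := by
    have := Nat.pow_le_pow_left hq2 3
    omega
  have h0' : q ^ 2 + q + 1 ≠ 0 := by omega
  have hpp2 : PP p ((q ^ 3 - 1) * (q ^ 2 + q + 1)) (Nat.card π.range * Nat.card ↥(zpowers v)) :=
    PP.mul hp h0 h0' hL.pp (PP.of_dvd (by rw [hcz]; exact hoc))
  have hvne : zpowers v ≠ ⊥ := by
    intro h
    rw [zpowers_eq_bot] at h
    rw [h, orderOf_one] at hoc
    have := Nat.le_of_dvd one_pos hoc
    omega
  refine ⟨π.range ⊔ zpowers v, π.range, ?_, ?_, hL.qs, hL.dvd hp hp3, card_lt (center_eq hq hK) hvne hcomm⟩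
  · refine index_of_pp hp (PP.trans (PP.trans ?_ hpp2) hpp)
    have e : Nat.card ↥(twistedD4 K q) = (q ^ 3 - 1) * (q ^ 2 + q + 1) *
        (q ^ 12 * ((q ^ 4 - q ^ 2 + 1) * (q ^ 2 - q + 1)) * (q ^ 3 + 1) * (q ^ 2 - 1)) := by
      rw [S1067.result hq hK, ← four_mul, ← two_mul', ← cube_mul hq1]
      ring
    rw [e]
    refine PP.cancel hp ?_ (PP.of_dvd dvd_rfl)
    have hone : ∀ k, 3 ∣ k → (q : ZMod p) ^ k = 1 := fun k hk => pow_one_of (by rw [he]; exact hk)
    have hc3 : ¬ p ∣ q ^ 3 + 1 := ndvd_two h5 (by push_cast; rw [hone 3 dvd_rfl]; norm_num)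
    have hc6 : ¬ p ∣ q ^ 6 + 1 := ndvd_two h5 (by push_cast; rw [hone 6 (by norm_num)]; norm_num)
    rw [hp.dvd_mul, hp.dvd_mul, hp.dvd_mul, hp.dvd_mul]
    rintro (((h | (h | h)) | h) | h)
    · have h1 := hp.dvd_of_dvd_pow h
      have h2 := hone 3 dvd_rfl
      rw [(CharP.cast_eq_zero_iff (ZMod p) p q).2 h1, zero_pow (by norm_num)] at h2
      have : Fact p.Prime := ⟨hp⟩
      exact zero_ne_one h2
    · exact hc6 (by rw [← six_mul]; exact Dvd.dvd.mul_left h _)
    · exact hc3 (by rw [← three_mul']; exact Dvd.dvd.mul_left h _)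
    · exact hc3 h
    · have := (dvd_iff' hq1 2).1 h
      rw [he] at this
      revert this
      decide
  · refine sup_le le_normalizer ?_
    refine le_trans ?_ (Subgroup.centralizer_le_normalizer _)
    intro b hb
    rw [mem_centralizer_iff]
    intro a ha
    exact hcomm a ha b hb

end Grp

end Cfsg.Agent.H157.S5.TD4Dat
end

-- part: H157/S5/TD4
section
/-!
# S2274: the pairs of inner elements of `³D₄(q)`, `p ≥ 5` not dividing `q` (helper157)

* `spair_twD4` : all pairs of elements of order `p` (the field `td4` of `H347.S2274.ExcRow.ExcPairs`).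
-/

set_option autoImplicit false
set_option linter.unusedSectionVars false

universe u

namespace Cfsg.Agent.H157.S5.TD4

open Subgroup Cfsg Cfsg.Lie Cfsg.Agent.H122.S5 Cfsg.Agent.H157.S5.TD4Dat
open Cfsg.Agent.H533.T5 Cfsg.Agent.H132.S5

/-- **Cyclic Sylow subgroups**, `q` of order `12` modulo `p`. -/
theorem cyclic_sylow {K : Type} [Field K] [Fintype K] {q : ℕ} (hq : IsPrimePow q) (hK : Fintype.card K = q ^ 3)
    {p : ℕ} (hp : p.Prime) (he : orderOf (q : ZMod p) = 12) :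
    ∃ P : Sylow p ↥(twistedD4 K q), (IsCyclic ↥(P : Subgroup ↥(twistedD4 K q)) :) := by
  obtain ⟨H, hH, hc, -⟩ := Cfsg.Agent.H129.TwD4Cyc.coxeter_torus hq hK
  have : Fact p.Prime := ⟨hp⟩
  have := finite_td4 (K := K) (q := q)
  have hq1 : 1 ≤ q := hq.pos
  have hidx : ¬ p ∣ H.index := by
    refine index_of_pp hp ?_
    have e : Nat.card ↥(twistedD4 K q) = (q ^ 4 - q ^ 2 + 1) *
        (q ^ 12 * (q ^ 4 + q ^ 2 + 1) * (q ^ 6 - 1) * (q ^ 2 - 1)) := by
      rw [S1067.result hq hK, ← four_mul]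
      ring
    rw [e, hc]
    refine PP.cancel hp ?_ (PP.of_dvd dvd_rfl)
    have h6 : ¬ p ∣ q ^ 6 - 1 := by
      rw [dvd_iff' hq1, he]
      decide
    rw [hp.dvd_mul, hp.dvd_mul, hp.dvd_mul]
    rintro (((h | h) | h) | h)
    · have h1 := hp.dvd_of_dvd_pow h
      have h2 := pow_one_of (k := 12) he.dvd
      rw [(CharP.cast_eq_zero_iff (ZMod p) p q).2 h1, zero_pow (by norm_num)] at h2
      exact zero_ne_one h2
    · exact h6 (by rw [← sub_one_mul hq1]; exact Dvd.dvd.mul_left h _)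
    · exact h6 h
    · exact h6 (by rw [← sub_one_mul hq1]; exact Dvd.dvd.mul_right h _)
  obtain ⟨Q⟩ : Nonempty (Sylow p H) := inferInstance
  have hQ' : IsPGroup p (((Q : Subgroup H).map H.subtype :)) := Q.isPGroup'.map _
  have hidx' : ¬ p ∣ ((Q : Subgroup H).map H.subtype).index := by
    have h1 : ((Q : Subgroup H).map H.subtype).index = (Q : Subgroup H).index * H.index :=
      Subgroup.index_map_subtype _
    rw [h1]
    intro h2
    rcases hp.dvd_mul.1 h2 with h3 | h3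
    · exact Q.not_dvd_index h3
    · exact hidx h3
  refine ⟨hQ'.toSylow hidx', ?_⟩
  have h1 : IsCyclic ↥(Q : Subgroup H) := inferInstance
  exact isCyclic_of_surjective (((Q : Subgroup H).equivMapOfInjective H.subtype H.subtype_injective :))
    (MulEquiv.surjective _)

/-- `EDat` gives the pairs -/
theorem spair_of_edat {p : ℕ} (hp : p.Prime) (B : SBox.{u} p) {S : Type u} [Group S] [Finite S] [IsSimpleGroup S]
    (hna : ¬ IsMulCommutative S) (hab : ∀ P : Sylow p S, IsMulCommutative ↥(P : Subgroup S))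
    (hlt : SBelow.{u} p (Nat.card S)) (h : EDat p S) {x y : S} (hx : orderOf x = p) (hy : orderOf y = p) :
    SPair p (⊤ : Subgroup S) x y := by
  obtain ⟨M, L, h1, h2, h3, h4, h5⟩ := h
  have : Fact p.Prime := ⟨hp⟩
  exact spair_of_qs B hna hab hlt h1 h2 h3 h4 h5 hx hy

/-- **The pairs of inner elements of `³D₄(q)`**, `p ≥ 5` not dividing `q`. -/
theorem spair_twD4 {p : ℕ} (hp : p.Prime) (h5 : 5 ≤ p) (B : SBox.{u} p) {S : Type u} [Group S] [Finite S]
    [IsSimpleGroup S] {K : Type} [Field K] [Fintype K] {q : ℕ} (hna : ¬ IsMulCommutative S)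
    (hlt : SBelow.{u} p (Nat.card S)) (hq : IsPrimePow q) (hK : Fintype.card K = q ^ 3) (hpq : ¬ p ∣ q)
    (e : S ≃* ↥(twistedD4 K q)) : ∀ x y : S, orderOf x = p → orderOf y = p → SPair p (⊤ : Subgroup S) x y := by
  intro x y hx hy
  have : Fact p.Prime := ⟨hp⟩
  have hq1 : 1 ≤ q := hq.pos
  have := finite_td4 (K := K) (q := q)
  have hcS : Nat.card S = Nat.card ↥(twistedD4 K q) := Nat.card_congr e.toEquiv
  have hpS : p ∣ q ^ 12 * (q ^ 8 + q ^ 4 + 1) * (q ^ 6 - 1) * (q ^ 2 - 1) := by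
    have h1 : p ∣ Nat.card S := by rw [← hx]; exact _root_.orderOf_dvd_natCard x
    rw [hcS, S1067.result hq hK] at h1
    refine h1.trans (dvd_of_eq ?_)
    ring
  -- the Sylow subgroups are abelian
  obtain ⟨r, n, _, _, hn0, hn, hpr⟩ := Cfsg.Agent.H28.T5TwFour.exists_num hq hK hp hpq
  have hab : ∀ P : Sylow p S, IsMulCommutative ↥(P : Subgroup S) := by
    intro P
    refine ⟨⟨fun a b => Subtype.ext (e.injective ?_)⟩⟩
    have h1 := Cfsg.Agent.H28.T5TwFour.comm4 (r := r) hq hK hp h5 hpr ((P : Subgroup S).map e.toMonoidHom)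
      (P.isPGroup'.map _) (e (a : S)) (mem_map_of_mem e.toMonoidHom a.2) (e (b : S))
      (mem_map_of_mem e.toMonoidHom b.2)
    show e ((a : S) * b) = e ((b : S) * a)
    rw [map_mul, map_mul]
    exact h1
  rcases cases_order hp h5 hq1 hpq hpS with ho | ho | ho | ho
  · exact spair_of_edat hp B hna hab hlt (EDat.congr e (edat_one hq hK hp h5 ho)) hx hy
  · exact spair_of_edat hp B hna hab hlt (EDat.congr e (edat_three hq hK hp h5 ho)) hx hy
  · exact Cfsg.Agent.H28.S5SixRows.spair_twD4 h5 B hna hlt hq hK ho e hx hy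
  · obtain ⟨P, hP⟩ := cyclic_sylow hq hK hp ho
    let P' : Sylow p S := P.comapOfInjective e.toMonoidHom e.injective (by
      rw [MonoidHom.range_eq_top.2 e.surjective]; exact le_top)
    refine spair_of_cyclic B.aa B.rs hna P' ?_ hx hy
    have h1 : Function.Injective ((e : S →* ↥(twistedD4 K q)).comp (P' : Subgroup S).subtype |>.codRestrict
        (P : Subgroup ↥(twistedD4 K q)) (fun a => a.2)) := by
      intro a b hab
      apply Subtype.ext
      apply e.injective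
      exact congrArg Subtype.val hab
    exact isCyclic_of_injective _ h1

end Cfsg.Agent.H157.S5.TD4
end

-- part: H347/S2274/ExcFin
section
/-!
# S2274: the exceptional groups, final form

* `tw6` : the pairs of `²E₆(q)`;
* `left` : everything that was left;
* **`srowFam_exc_all`** : the strong rows of all exceptional groups.
-/

set_option autoImplicit false

universe u

namespace Cfsg.Agent.H347.S2274.ExcFin

open Cfsg Cfsg.Lie Cfsg.Agent.H533.T5 Cfsg.Agent.H957.T5M Cfsg.Agent.H106.MT Cfsg.Agent.H132.S5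
open Cfsg.Agent.H347.S2274.ExcRow Cfsg.Agent.H347.S2274.Glue Cfsg.Agent.H122.S5 Cfsg.Agent.H790.ExcAb

theorem cyclic_of_injective {p : ℕ} {G H : Type*} [Group G] [Group H] (f : G →* H)
    (hf : Function.Injective f) (h : ∀ P : Sylow p H, IsCyclic ↥(P : Subgroup H)) (P : Sylow p G) :
    IsCyclic ↥(P : Subgroup G) := by
  obtain ⟨Q, hQ⟩ := (P.isPGroup'.map f).exists_le_sylow
  have := h Q
  let g : ↥(P : Subgroup G) →* ↥(Q : Subgroup H) :=
    (f.comp (P : Subgroup G).subtype).codRestrict (Q : Subgroup H)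
      (fun a => hQ (Subgroup.mem_map_of_mem f a.2))
  refine isCyclic_of_injective g fun a b hab => ?_
  exact Subtype.ext (hf (congrArg Subtype.val hab))

/-- cyclic Sylow subgroups from S2378 -/
theorem cyclic_of_filter {p : ℕ} (hp : p.Prime) {F : Type} [Field F] [Fintype F]
    (c : ChevalleyDatum × List ℕ) (hc : c ∈ Glue.lst) (hpF : ¬ p ∣ Fintype.card F) (hW : ¬ p ∣ c.2.prod)
    (hpG : p ∣ Nat.card ↥(c.1.group F))
    (h1 : (c.2.filter (fun e => orderOf ((Fintype.card F : ℕ) : ZMod p) ∣ e)).length ≤ 1)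
    (Q : Sylow p ↥(c.1.group F)) : (IsCyclic ↥(Q : Subgroup ↥(c.1.group F)) :) := by
  have hpf := Fact.mk hp
  obtain ⟨f⟩ := Cfsg.Agent.S2378.result (F := F) rfl c hc p hpF hW hpG Q
  rw [f.isCyclic]
  generalize (c.2.filter (fun e => orderOf ((Fintype.card F : ℕ) : ZMod p) ∣ e)).length = k at h1
  interval_cases k
  · exact isCyclic_of_subsingleton
  · exact (MulEquiv.isCyclic (MulEquiv.funUnique (Fin 1) _)).2 inferInstance

theorem sq_fac (x : ℕ) : x ^ 2 - 1 = (x + 1) * (x - 1) := by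
  rw [← Nat.sq_sub_sq, one_pow]

/-- the possible orders in `²E₆(q)` -/
theorem order_tw6 {p q : ℕ} (hp : p.Prime) (hq1 : 1 ≤ q) (hpq : ¬ p ∣ q) (hq2 : ¬ p ∣ q ^ 2 - 1)
    (h : p ∣ q ^ 36 * (q ^ 2 - 1) * (q ^ 5 + 1) * (q ^ 6 - 1) * (q ^ 8 - 1) * (q ^ 9 + 1) * (q ^ 12 - 1)) :
    let n := orderOf ((q : ℕ) : ZMod p)
    (n = 3 ∨ n = 4 ∨ n = 8 ∨ n = 12) ∨ n = 6 ∨ (n = 5 ∨ n = 10) ∨ (n = 9 ∨ n = 18) := by
  intro n
  have key : ∀ d, p ∣ q ^ d - 1 → n ∣ d := fun d hd => (dvd_iff hq1 rfl d).1 hd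
  have hn2 : ¬ n ∣ 2 := fun h => hq2 ((dvd_iff hq1 rfl 2).2 h)
  have plus : ∀ d, p ∣ q ^ d + 1 → n ∣ 2 * d := by
    intro d hd
    refine key _ ?_
    rw [mul_comm, pow_mul, sq_fac]
    exact hd.mul_right _
  have hall : n ∣ 6 ∨ n ∣ 8 ∨ n ∣ 12 ∨ n ∣ 10 ∨ n ∣ 18 := by
    rw [hp.dvd_mul, hp.dvd_mul, hp.dvd_mul, hp.dvd_mul, hp.dvd_mul, hp.dvd_mul] at h
    rcases h with (((((h | h) | h) | h) | h) | h) | h
    · exact absurd (hp.dvd_of_dvd_pow h) hpq
    · exact absurd h hq2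
    · exact Or.inr (Or.inr (Or.inr (Or.inl (plus 5 h))))
    · exact Or.inl (key _ h)
    · exact Or.inr (Or.inl (key _ h))
    · exact Or.inr (Or.inr (Or.inr (Or.inr (plus 9 h))))
    · exact Or.inr (Or.inr (Or.inl (key _ h)))
  have hle : n ≤ 18 := by
    rcases hall with h | h | h | h | h <;> exact (Nat.le_of_dvd (by norm_num) h).trans (by norm_num)
  have d1 : ∀ n ≤ 18, ¬ n ∣ 2 → n ∣ 6 → n = 3 ∨ n = 6 := by decide
  have d2 : ∀ n ≤ 18, ¬ n ∣ 2 → n ∣ 8 → n = 4 ∨ n = 8 := by decide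
  have d3 : ∀ n ≤ 18, ¬ n ∣ 2 → n ∣ 12 → n = 3 ∨ n = 4 ∨ n = 6 ∨ n = 12 := by decide
  have d4 : ∀ n ≤ 18, ¬ n ∣ 2 → n ∣ 10 → n = 5 ∨ n = 10 := by decide
  have d5 : ∀ n ≤ 18, ¬ n ∣ 2 → n ∣ 18 → n = 3 ∨ n = 6 ∨ n = 9 ∨ n = 18 := by decide
  rcases hall with h | h | h | h | h
  · have := d1 n hle hn2 h; omega
  · have := d2 n hle hn2 h; (clear * - this; omega)
  · have := d3 n hle hn2 h; (clear * - this; omega)
  · have := d4 n hle hn2 h; (clear * - this; omega)
  · have := d5 n hle hn2 h; (clear * - this; omega)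

theorem order_sq {p q n : ℕ} (h : orderOf ((q : ℕ) : ZMod p) = n) :
    orderOf ((q ^ 2 : ℕ) : ZMod p) = n / Nat.gcd n 2 := by
  rw [Nat.cast_pow, orderOf_pow' _ two_ne_zero, h]

/-- the Sylow subgroups of `²E₆(q)` are cyclic when `q ^ 2` has order `5` or `9` -/
theorem cyclic_tw6 {p : ℕ} (hp : p.Prime) (h5 : 5 ≤ p) {K : Type} [Field K] [Fintype K] {q : ℕ}
    (hK : Fintype.card K = q ^ 2) (hpq : ¬ p ∣ q)
    (hpG : p ∣ Nat.card ↥(twistedE6 K q))
    (ho : orderOf ((q ^ 2 : ℕ) : ZMod p) = 5 ∨ orderOf ((q ^ 2 : ℕ) : ZMod p) = 9)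
    (P : Sylow p ↥(twistedE6 K q)) : (IsCyclic ↥(P : Subgroup ↥(twistedE6 K q)) :) := by
  have hle : twistedE6 K q ≤ chevE6.group K :=
    genSubgroup_le (by simp [Cfsg.Agent.ChevalleyStructure.Elts.InList]) _
  have hpK : ¬ p ∣ Fintype.card K := by
    rw [hK]; exact fun h => hpq (hp.dvd_of_dvd_pow h)
  have hinj := Subgroup.inclusion_injective hle
  have hfin : Finite ↥(chevE6.group K) := H122.S5.finite_group K
  rw [← hK] at ho
  have hdv := order_dvd hp hpK
  have hp5 : p ≠ 5 := by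
    intro h
    rcases ho with ho | ho <;> rw [ho, h] at hdv <;> revert hdv <;> decide
  have hp7 : p ≠ 7 := by
    intro h
    rcases ho with ho | ho <;> rw [ho, h] at hdv <;> revert hdv <;> decide
  refine cyclic_of_injective (Subgroup.inclusion hle) hinj (fun Q => ?_) P
  refine cyclic_of_filter hp (chevE6, [2, 5, 6, 8, 9, 12]) (by simp) hpK
    (not_dvd_of hp h5 hp5 hp7 (by norm_num)) (hpG.trans (Subgroup.card_dvd_of_injective _ hinj)) ?_ Q
  rcases ho with ho | ho <;> rw [ho] <;> decide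

section

variable {p : ℕ} {S : Type u} [Group S] [Finite S] [IsSimpleGroup S]

/-- **The pairs of `²E₆(q)`.** -/
theorem tw6 (hp : p.Prime) (h5 : 5 ≤ p) (B : SBox.{u} p) {K : Type} [Field K] [Fintype K] {q : ℕ}
    (hna : ¬ IsMulCommutative S) (hlt : SBelow.{u} p (Nat.card S)) (hq : IsPrimePow q)
    (hK : Fintype.card K = q ^ 2) (hpq : ¬ p ∣ q) (hq2 : ¬ p ∣ q ^ 2 - 1)
    (e : S ≃* ↥(twistedE6 K q)) : InPairs p S := by
  have hpf := Fact.mk hp
  by_cases hpS : p ∣ Nat.card S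
  swap
  · exact inPairs_of_not_dvd hpS
  have hpT : p ∣ Nat.card ↥(twistedE6 K q) := by rwa [← Nat.card_congr e.toEquiv]
  have hpN := Cfsg.Agent.S1066.result hq hK ▸ hpT.mul_left (Nat.gcd 3 (q + 1))
  have hm := mod_ne (p := p) (by omega) hq.one_lt.le hq2
  rcases order_tw6 hp hq.one_lt.le hpq hq2 hpN with h | h | h | h
  · have hab : AbP p S := (tw2E6 hq hK hpq h5 fun h => by
      have h1 := hm.2
      rw [h] at h1
      exact h1).congr e
    refine inPairs_of_edat hp B hna hlt hab ((edat_te6 hq hK hp (by omega) rfl ?_).congr e)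
    rcases h with h | h | h | h <;> rw [h] <;> norm_num
  · exact fun x y hx hy => Cfsg.Agent.H28.S5SixRows.spair_twE6 h5 B hna hlt hq hK h e hx hy
  · refine inPairs_of_cyclic hp B hna fun P => ?_
    refine cyclic_of_injective e.toMonoidHom e.injective (cyclic_tw6 hp h5 hK hpq hpT (Or.inl ?_)) P
    rcases h with h | h <;> exact (order_sq h).trans (by decide)
  · refine inPairs_of_cyclic hp B hna fun P => ?_
    refine cyclic_of_injective e.toMonoidHom e.injective (cyclic_tw6 hp h5 hK hpq hpT (Or.inr ?_)) P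
    rcases h with h | h <;> exact (order_sq h).trans (by decide)

end

/-- **Everything that was left.** -/
theorem left {p : ℕ} (hp : p.Prime) (h5 : 5 ≤ p) (B : SBox.{u} p) : Left.{u} p where
  f4_4 hna hlt ho e := by
    have := Fact.mk hp
    exact fun x y hx hy => Cfsg.Agent.H790.Str.F4.spair h5 B hna hlt
      (not_dvd_of_order hp (by norm_num) ho) e ho (Or.inl rfl) hx hy
  f4_6 hna hlt ho e := by
    have := Fact.mk hp
    exact fun x y hx hy => Cfsg.Agent.H790.Str.F4.spair h5 B hna hlt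
      (not_dvd_of_order hp (by norm_num) ho) e ho (Or.inr rfl) hx hy
  e6_4 := by
    intro S _ _ _ F _ _ hna hlt ho e
    have := Fact.mk hp
    have hpF := not_dvd_of_order hp (by norm_num) ho
    refine inPairs_of_edat hp B hna hlt ((H790.ExcAb.E6 rfl hpF h5 (fun h h1 => ?_)).congr e)
      ((edat_e6_even rfl hp ho (by norm_num)).congr e)
    subst h
    have h2 : (5 : ℕ) ∣ Fintype.card F ^ 1 - 1 := by
      rw [pow_one]
      omega
    have h3 := (dvd_iff (by omega) ho 1).1 h2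
    revert h3; decide
  e6_6 hna hlt ho e := by
    have := Fact.mk hp
    exact fun x y hx hy => Cfsg.Agent.H790.Str.spair_e6 B hna hlt
      (not_dvd_of_order hp (by norm_num) ho) e ho hx hy
  e7_6 hna hlt ho e := by
    have := Fact.mk hp
    exact fun x y hx hy => Cfsg.Agent.H790.Str.spair_e7 B hna hlt
      (not_dvd_of_order hp (by norm_num) ho) e ho hx hy
  e8_4 h7 := by
    intro S _ _ _ F _ _ hna hlt ho e
    have := Fact.mk hp
    have hpF := not_dvd_of_order hp (by norm_num) ho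
    have hq2 : ¬ p ∣ Fintype.card F ^ 2 - 1 := fun h => by
      have h3 := (dvd_iff Fintype.card_pos ho 2).1 h
      revert h3; decide
    have hm := mod_ne (p := p) (by omega) Fintype.card_pos hq2
    exact inPairs_of_edat hp B hna hlt ((H790.ExcAb.E8 rfl hpF h7 (fun h => ⟨h ▸ hm.1, by
      have := hm.2; rw [h] at this; exact this⟩)).congr e)
      ((edat_e8_four rfl hp h5 (by omega) ho).congr e)
  e8_6 h7 := by
    intro S _ _ _ F _ _ hna hlt ho e
    have := Fact.mk hp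
    exact fun x y hx hy => Cfsg.Agent.H790.Str.E8.spair B hna hlt
      (not_dvd_of_order hp (by norm_num) ho) e ho (by norm_num) hx hy
  e8_8 hna hlt ho e := by
    have := Fact.mk hp
    exact fun x y hx hy => Cfsg.Agent.H790.Str.E8.spair B hna hlt
      (not_dvd_of_order hp (by norm_num) ho) e ho (by norm_num) hx hy
  e8_10 hna hlt ho e := by
    have := Fact.mk hp
    exact fun x y hx hy => Cfsg.Agent.H790.Str.E8.spair B hna hlt
      (not_dvd_of_order hp (by norm_num) ho) e ho (by norm_num) hx hy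
  e8_12 hna hlt ho e := by
    have := Fact.mk hp
    exact fun x y hx hy => Cfsg.Agent.H790.Str.E8.spair B hna hlt
      (not_dvd_of_order hp (by norm_num) ho) e ho (by norm_num) hx hy
  tw6 hna hlt hq hK hpq hq2 e := tw6 hp h5 B hna hlt hq hK hpq hq2 e
  td4 hna hlt hq hK hpq e := Cfsg.Agent.H157.S5.TD4.spair_twD4 hp h5 B hna hlt hq hK hpq e

/-- **The strong rows of all exceptional groups.** -/
theorem srowFam_exc_all {p : ℕ} (hp : p.Prime) (h5 : 5 ≤ p) (B : SBox.{u} p) :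
    SRowFam.{u} p (fun S _ => IsExceptionalLieType S) :=
  srowFam_exc_of hp h5 B (left hp h5 B)

end Cfsg.Agent.H347.S2274.ExcFin
end

private theorem dce_ca638aa2b7eb : _root_.True := by
  try have : _root_.True := by simp only [_root_.Cfsg.Agent.H790.Str.F4.dJ.eq_1]
  try have : _root_.True := by simp only [_root_.Cfsg.Agent.H790.Str.F4.dS.eq_1]
  try have : _root_.True := by simp only [_root_.Cfsg.Agent.H157.S5.TD4Dat.Bh.congr_simp]
  try have : _root_.True := by simp only [_root_.Cfsg.Agent.H122.S5.xe.congr_simp]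
  try have : _root_.True := by simp only [_root_.Cfsg.Agent.H122.S5.sub.congr_simp]
  try have : _root_.True := by simp only [_root_.Cfsg.Agent.H157.S5.TD4Dat.Ah.congr_simp]
  try have : _root_.True := by simp only [_root_.Cfsg.Agent.H790.Str.E8.dS.eq_1]
  try have : _root_.True := by simp only [_root_.Cfsg.Agent.H122.S5.gx.congr_simp]
  exact _root_.True.intro
end
end
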